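import Cfsg.Agent.OddCyclic.Emp3.Noo

/-!
# (Empty), (III), section 3: (NOO) and (NOO') for sections of a group

`N`, `A`, `W`, `Y` subgroups of a finite group `G`; `N`, `A` normalise `W` and `Y`, `W/Y` is elementary abelian
(`Sit N A W Y`).  `cw W Y A = {w ∈ W | [A, w] ≤ Y}`.

* `Sit.noo` : `|A : A ∩ cq N| ≤ |W : cw W Y A|` or `|N : O₂(N)| = 168`;
* `Sit.noo'` : `|W : cw W Y A| ≤ |A : A ∩ cq N|` and `A ≰ cq N` give `NCases N`.
-/

set_option autoImplicit false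
set_option linter.unusedSectionVars false

namespace Cfsg.Agent.OddCyclic.Emp3.NooG

open Subgroup
open Cfsg.Agent.ZN (o2)
open Cfsg.Agent.ZN.Block (o2_isPGroup le_o2 o2_le)
open Cfsg.Agent.OddCyclic.T1Module Cfsg.Agent.OddCyclic.FFBasic Cfsg.Agent.OddCyclic.RedFFDefs
  Cfsg.Agent.OddCyclic.Emp3.Noo

universe u

variable {G : Type u} [Group G]

/-- `{w ∈ W | [A, w] ≤ Y}` -/
def cw (W Y A : Subgroup G) : Subgroup G where
  carrier := {w | w ∈ W ∧ w ∈ normalizer (Y : Set G) ∧ ∀ a ∈ A, a * w * a⁻¹ * w⁻¹ ∈ Y}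
  one_mem' := ⟨one_mem _, one_mem _, fun a _ => by
    have e : a * (1 : G) * a⁻¹ * 1⁻¹ = 1 := by group
    rw [e]; exact one_mem _⟩
  mul_mem' := by
    rintro v w ⟨hv, hv1, hv2⟩ ⟨hw, hw1, hw2⟩
    refine ⟨mul_mem hv hw, mul_mem hv1 hw1, fun a ha => ?_⟩
    have e : a * (v * w) * a⁻¹ * (v * w)⁻¹ = a * v * a⁻¹ * v⁻¹ * (v * (a * w * a⁻¹ * w⁻¹) * v⁻¹) := by group
    rw [e]
    exact mul_mem (hv2 a ha) ((mem_normalizer_iff.1 hv1 _).1 (hw2 a ha))
  inv_mem' := by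
    rintro w ⟨hw, hw1, hw2⟩
    refine ⟨inv_mem hw, inv_mem hw1, fun a ha => ?_⟩
    have e : a * w⁻¹ * a⁻¹ * w⁻¹⁻¹ = w⁻¹ * (a * w * a⁻¹ * w⁻¹)⁻¹ * w⁻¹⁻¹ := by group
    rw [e]
    exact (mem_normalizer_iff.1 (inv_mem hw1) _).1 (inv_mem (hw2 a ha))

theorem mem_cw {W Y A : Subgroup G} {w : G} :
    w ∈ cw W Y A ↔ w ∈ W ∧ w ∈ normalizer (Y : Set G) ∧ ∀ a ∈ A, a * w * a⁻¹ * w⁻¹ ∈ Y := Iff.rfl

theorem cw_le {W Y A : Subgroup G} : cw W Y A ≤ W := fun _ hw => hw.1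

/-- `C_W(A) ≤ cw W Y A` -/
theorem le_cw {W Y A : Subgroup G} (h : W ≤ normalizer (Y : Set G)) : W ⊓ centralizer (A : Set G) ≤ cw W Y A := by
  rintro w ⟨hw, hc⟩
  refine ⟨hw, h hw, fun a ha => ?_⟩
  have h1 : a * w = w * a := mem_centralizer_iff.1 hc a ha
  have e : a * w * a⁻¹ * w⁻¹ = 1 := by rw [h1]; group
  rw [e]
  exact one_mem _

theorem relIndex_cw_le [Finite G] {W Y A : Subgroup G} (h : W ≤ normalizer (Y : Set G)) :
    (cw W Y A).relIndex W ≤ (W ⊓ centralizer (A : Set G)).relIndex W := by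
  refine Nat.le_of_dvd (Nat.pos_of_ne_zero ?_) (relIndex_dvd_of_le_left W (le_cw h))
  rw [Subgroup.relIndex]
  exact index_ne_zero_of_finite

/-- `K` acts on the elementary abelian section `W / Y` -/
structure SecA (K W Y : Subgroup G) : Prop where
  YW : Y ≤ W
  WY : W ≤ normalizer (Y : Set G)
  sq : ∀ w ∈ W, w * w ∈ Y
  KW : K ≤ normalizer (W : Set G)
  KY : K ≤ normalizer (Y : Set G)

variable {K W Y : Subgroup G}

theorem SecA.normal (s : SecA K W Y) : (Y.subgroupOf W).Normal := normal_subgroupOf_of_le_normalizer s.WY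

/-- `W / Y` -/
def UQ (_ : SecA K W Y) : Type u := ↥W ⧸ Y.subgroupOf W

instance (s : SecA K W Y) : Group (UQ s) :=
  letI := s.normal
  inferInstanceAs (Group (↥W ⧸ Y.subgroupOf W))

/-- the class of an element of `W` -/
def mk (s : SecA K W Y) : W →* UQ s :=
  letI := s.normal
  QuotientGroup.mk' (Y.subgroupOf W)

theorem mk_surj (s : SecA K W Y) : Function.Surjective (mk s) := by
  have := s.normal
  exact QuotientGroup.mk'_surjective (Y.subgroupOf W)

theorem mk_ker (s : SecA K W Y) : (mk s).ker = Y.subgroupOf W := by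
  have := s.normal
  exact QuotientGroup.ker_mk' (Y.subgroupOf W)

theorem mk_eq_one (s : SecA K W Y) {w : W} : mk s w = 1 ↔ (w : G) ∈ Y := by
  rw [← MonoidHom.mem_ker, mk_ker, mem_subgroupOf]

theorem mk_eq (s : SecA K W Y) {v w : W} : mk s v = mk s w ↔ (v : G) * (w : G)⁻¹ ∈ Y := by
  rw [← mul_inv_eq_one, ← map_inv, ← map_mul, mk_eq_one]
  rfl

theorem uq_sq (s : SecA K W Y) (x : UQ s) : x * x = 1 := by
  obtain ⟨w, rfl⟩ := mk_surj s x
  rw [← map_mul, mk_eq_one]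
  exact s.sq w w.2

instance (s : SecA K W Y) : CommGroup (UQ s) :=
  { (inferInstance : Group (UQ s)) with
    mul_comm := by
      intro a b
      have h1 := uq_sq s (a * b)
      have h2 := uq_sq s a
      have h3 := uq_sq s b
      have e1 : a⁻¹ = a := inv_eq_of_mul_eq_one_left h2
      have e2 : b⁻¹ = b := inv_eq_of_mul_eq_one_left h3
      have e3 : (a * b)⁻¹ = a * b := inv_eq_of_mul_eq_one_left h1
      rw [mul_inv_rev, e1, e2] at e3
      exact e3.symm }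

instance [Finite G] (s : SecA K W Y) : Finite (UQ s) := inferInstanceAs (Finite (↥W ⧸ Y.subgroupOf W))

theorem conjW (s : SecA K W Y) (k : K) (w : W) : (k : G) * w * (k : G)⁻¹ ∈ W :=
  (mem_normalizer_iff.1 (s.KW k.2) w).1 w.2

/-- conjugation on `W` -/
def cjW (s : SecA K W Y) (k : K) : W →* W where
  toFun w := ⟨(k : G) * w * (k : G)⁻¹, conjW s k w⟩
  map_one' := by
    apply Subtype.ext
    show (k : G) * 1 * (k : G)⁻¹ = 1
    group
  map_mul' v w := by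
    apply Subtype.ext
    show (k : G) * (v * w) * (k : G)⁻¹ = (k : G) * v * (k : G)⁻¹ * ((k : G) * w * (k : G)⁻¹)
    group

theorem cjW_one (s : SecA K W Y) (w : W) : cjW s 1 w = w := by
  apply Subtype.ext
  show ((1 : K) : G) * w * ((1 : K) : G)⁻¹ = w
  simp

theorem cjW_mul (s : SecA K W Y) (k l : K) (w : W) : cjW s (k * l) w = cjW s k (cjW s l w) := by
  apply Subtype.ext
  show ((k * l : K) : G) * w * ((k * l : K) : G)⁻¹ = (k : G) * ((l : G) * w * (l : G)⁻¹) * (k : G)⁻¹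
  push_cast
  group

/-- the action of an element of `K` on `W / Y` -/
noncomputable def actF (s : SecA K W Y) (k : K) : UQ s →* UQ s :=
  (mk s).liftOfSurjective (mk_surj s) ⟨(mk s).comp (cjW s k), by
    intro w hw
    rw [MonoidHom.mem_ker, mk_eq_one] at hw
    rw [MonoidHom.mem_ker, MonoidHom.comp_apply, mk_eq_one]
    exact (mem_normalizer_iff.1 (s.KY k.2) w).1 hw⟩

theorem actF_mk (s : SecA K W Y) (k : K) (w : W) : actF s k (mk s w) = mk s (cjW s k w) :=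
  MonoidHom.liftOfRightInverse_comp_apply _ _ _ _ _

/-- the action of `K` on `W / Y` -/
noncomputable def act (s : SecA K W Y) : K →* MulAut (UQ s) where
  toFun k :=
    { toFun := actF s k
      invFun := actF s k⁻¹
      left_inv := fun x => by
        obtain ⟨w, rfl⟩ := mk_surj s x
        rw [actF_mk, actF_mk, ← cjW_mul, inv_mul_cancel, cjW_one]
      right_inv := fun x => by
        obtain ⟨w, rfl⟩ := mk_surj s x
        rw [actF_mk, actF_mk, ← cjW_mul, mul_inv_cancel, cjW_one]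
      map_mul' := fun x y => map_mul _ x y }
  map_one' := by
    ext x
    obtain ⟨w, rfl⟩ := mk_surj s x
    show actF s 1 (mk s w) = mk s w
    rw [actF_mk, cjW_one]
  map_mul' k l := by
    ext x
    obtain ⟨w, rfl⟩ := mk_surj s x
    show actF s (k * l) (mk s w) = actF s k (actF s l (mk s w))
    rw [actF_mk, actF_mk, actF_mk, cjW_mul]

theorem act_mk (s : SecA K W Y) (k : K) (w : W) : act s k (mk s w) = mk s (cjW s k w) := actF_mk s k w

theorem act_eq_iff (s : SecA K W Y) (k : K) (w : W) :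
    act s k (mk s w) = mk s w ↔ (k : G) * w * (k : G)⁻¹ * (w : G)⁻¹ ∈ Y := by
  rw [act_mk, mk_eq]
  rfl

/-- `C_{W/Y}(A)` is the image of `cw W Y A` -/
theorem index_CS [Finite G] (s : SecA K W Y) {A : Subgroup G} (hA : A ≤ K) :
    (CS (act s) (A.subgroupOf K)).index = (cw W Y A).relIndex W := by
  have h1 : (CS (act s) (A.subgroupOf K)).comap (mk s) = (cw W Y A).subgroupOf W := by
    ext w
    rw [mem_comap, mem_CS, mem_subgroupOf, mem_cw]
    constructor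
    · intro h
      refine ⟨w.2, s.WY w.2, fun a ha => ?_⟩
      exact (act_eq_iff s ⟨a, hA ha⟩ w).1 (h ⟨a, hA ha⟩ (mem_subgroupOf.2 ha))
    · rintro ⟨-, -, h⟩ a ha
      exact (act_eq_iff s a w).2 (h a (mem_subgroupOf.1 ha))
  rw [Subgroup.relIndex, ← h1, index_comap_of_surjective _ (mk_surj s)]

/-! ### the situation -/

/-- The setting of (NOO) in a group. -/
structure Sit (N A W Y : Subgroup G) : Prop where
  YW : Y ≤ W
  WY : W ≤ normalizer (Y : Set G)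
  sqW : ∀ w ∈ W, w * w ∈ Y
  NW : N ≤ normalizer (W : Set G)
  NY : N ≤ normalizer (Y : Set G)
  AW : A ≤ normalizer (W : Set G)
  AY : A ≤ normalizer (Y : Set G)
  AN : A ≤ normalizer (N : Set G)
  sq : ∀ a ∈ A, a * a = 1
  min : ∀ K ≤ N, N ≤ normalizer (K : Set G) → IsPGroup 2 K ∨ K = N
  n2 : ¬ IsPGroup 2 N
  triv : ∀ n ∈ o2 N, ∀ w ∈ W, n * w * n⁻¹ * w⁻¹ ∈ Y
  ne : ∃ n ∈ N, ∃ w ∈ W, n * w * n⁻¹ * w⁻¹ ∉ Y

/-- `O₂(N)` computed in a subgroup -/
theorem o2_subgroupOf {N K : Subgroup G} (h : N ≤ K) : o2 (N.subgroupOf K) = (o2 N).subgroupOf K := by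
  apply le_antisymm
  · intro x hx
    rw [mem_subgroupOf]
    have h1 : (o2 (N.subgroupOf K)).map K.subtype ≤ o2 N := by
      refine le_o2 ((o2_isPGroup _).map _) ?_ ?_
      · rintro _ ⟨y, hy, rfl⟩
        exact mem_subgroupOf.1 (o2_le _ hy)
      · refine ZN.Block.le_normalizer_of_forall ?_
        rintro n hn _ ⟨y, hy, rfl⟩
        exact ⟨⟨n, h hn⟩ * y * ⟨n, h hn⟩⁻¹, ZN.Block.o2_conj (mem_subgroupOf.2 hn) hy, rfl⟩
    exact h1 ⟨x, hx, rfl⟩
  · refine le_o2 (o2_isPGroup N).comap_subtype ?_ ?_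
    · intro x hx
      exact mem_subgroupOf.2 (o2_le N (mem_subgroupOf.1 hx))
    · refine ZN.Block.le_normalizer_of_forall ?_
      intro n hn x hx
      exact mem_subgroupOf.2 (ZN.Block.o2_conj (mem_subgroupOf.1 hn) (mem_subgroupOf.1 hx))

theorem quot_equiv {N K : Subgroup G} (h : N ≤ K) :
    Nonempty ((N.subgroupOf K ⧸ pCore 2 (N.subgroupOf K)) ≃* (N ⧸ pCore 2 N)) := by
  have h1 : (pCore 2 N).Normal := Lib.Cores.pCore_normal 2
  have h2 : (pCore 2 (N.subgroupOf K)).Normal := Lib.Cores.pCore_normal 2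
  exact ⟨QuotientGroup.congr _ _ (Subgroup.subgroupOfEquivOfLe h)
    (Lib.Cores.map_equiv_pCore (Subgroup.subgroupOfEquivOfLe h) 2)⟩

namespace Sit

variable {N A : Subgroup G}

theorem secA (h : Sit N A W Y) : SecA (N ⊔ A) W Y where
  YW := h.YW
  WY := h.WY
  sq := h.sqW
  KW := sup_le h.NW h.AW
  KY := sup_le h.NY h.AY

theorem normal (h : Sit N A W Y) : (N.subgroupOf (N ⊔ A)).Normal :=
  normal_subgroupOf_of_le_normalizer (sup_le le_normalizer h.AN)

theorem sup_eq : N.subgroupOf (N ⊔ A) ⊔ A.subgroupOf (N ⊔ A) = ⊤ := by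
  rw [← Subgroup.subgroupOf_sup le_sup_left le_sup_right, subgroupOf_self]

/-- the abstract situation -/
theorem nd (h : Sit N A W Y) : Nd (act h.secA) (N.subgroupOf (N ⊔ A)) (A.subgroupOf (N ⊔ A)) where
  sqU := uq_sq h.secA
  norm := h.normal
  sup := sup_eq
  sq := by
    rintro a ha
    exact Subtype.ext (h.sq a (mem_subgroupOf.1 ha))
  min := by
    intro K hK hn
    have h1 : K.map (N ⊔ A).subtype ≤ N := by
      rintro _ ⟨x, hx, rfl⟩
      exact mem_subgroupOf.1 (hK hx)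
    have h2 : N ≤ normalizer ((K.map (N ⊔ A).subtype : Subgroup G) : Set G) := by
      refine ZN.Block.le_normalizer_of_forall ?_
      rintro n hn' _ ⟨x, hx, rfl⟩
      refine ⟨⟨n, le_sup_left (a := N) hn'⟩ * x * ⟨n, le_sup_left (a := N) hn'⟩⁻¹, ?_, rfl⟩
      exact (mem_normalizer_iff.1 (hn (mem_subgroupOf.2 hn')) x).1 hx
    rcases h.min _ h1 h2 with h3 | h3
    · left
      exact h3.of_injective ((N ⊔ A).subtype.subgroupMap K) (by
        intro x y hxy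
        have h4 := congrArg Subtype.val hxy
        exact Subtype.ext (Subtype.ext h4))
    · right
      refine le_antisymm hK ?_
      intro x hx
      have h4 : (x : G) ∈ K.map (N ⊔ A).subtype := by rw [h3]; exact mem_subgroupOf.1 hx
      obtain ⟨y, hy, e⟩ := h4
      rwa [← Subtype.ext (show (y : G) = x from e)]
  n2 := by
    intro h1
    apply h.n2
    exact h1.of_equiv (Subgroup.subgroupOfEquivOfLe le_sup_left)
  triv := by
    intro n hn x
    obtain ⟨w, rfl⟩ := mk_surj h.secA x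
    rw [o2_subgroupOf le_sup_left, mem_subgroupOf] at hn
    exact (act_eq_iff h.secA n w).2 (h.triv n hn w w.2)
  ne := by
    obtain ⟨n, hn, w, hw, hne⟩ := h.ne
    refine ⟨⟨n, le_sup_left (a := N) hn⟩, mem_subgroupOf.2 hn, NooG.mk h.secA ⟨w, hw⟩, fun h1 => hne ?_⟩
    exact (act_eq_iff h.secA ⟨n, le_sup_left (a := N) hn⟩ ⟨w, hw⟩).1 h1

theorem cq_subgroupOf (h : Sit N A W Y) : A.subgroupOf (N ⊔ A) ⊓ cq (N.subgroupOf (N ⊔ A)) =
    (A ⊓ cq N).subgroupOf (N ⊔ A) := by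
  ext x
  rw [mem_inf, mem_subgroupOf, mem_subgroupOf, mem_inf, mem_cq, mem_cq, o2_subgroupOf le_sup_left]
  constructor
  · rintro ⟨h1, -, h3⟩
    refine ⟨h1, normalizer_le_o2 N (h.AN h1), fun n hn => ?_⟩
    exact mem_subgroupOf.1 (h3 ⟨n, le_sup_left (a := N) hn⟩ (mem_subgroupOf.2 hn))
  · rintro ⟨h1, h2, h3⟩
    refine ⟨h1, ?_, fun n hn => mem_subgroupOf.2 (h3 n (mem_subgroupOf.1 hn))⟩
    refine ZN.Block.mem_normalizer_of ?_ ?_
    · intro m hm
      exact mem_subgroupOf.2 ((mem_normalizer_iff.1 h2 m).1 (mem_subgroupOf.1 hm))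
    · intro m hm
      have := (mem_normalizer_iff.1 (inv_mem h2) m).1 (mem_subgroupOf.1 hm)
      rw [inv_inv] at this
      exact mem_subgroupOf.2 this

theorem relIndex_cq (h : Sit N A W Y) :
    (A.subgroupOf (N ⊔ A) ⊓ cq (N.subgroupOf (N ⊔ A))).relIndex (A.subgroupOf (N ⊔ A)) =
      (A ⊓ cq N).relIndex A := by
  rw [h.cq_subgroupOf, relIndex_subgroupOf le_sup_right]

theorem relIndex_o2 : (o2 (N.subgroupOf (N ⊔ A))).relIndex (N.subgroupOf (N ⊔ A)) = (o2 N).relIndex N := by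
  rw [o2_subgroupOf le_sup_left, relIndex_subgroupOf le_sup_left]

variable [Finite G]

/-- **(NOO)** -/
theorem noo (h : Sit N A W Y) (hF : ∀ (D : Subgroup ↥(N ⊔ A)) [D.Normal], FFC (↥(N ⊔ A) ⧸ D)) :
    (A ⊓ cq N).relIndex A ≤ (cw W Y A).relIndex W ∨
      ((o2 N).relIndex N = 168 ∧ IsSimpleGroup (N ⧸ pCore 2 N)) := by
  obtain ⟨e⟩ := quot_equiv (N := N) (K := N ⊔ A) le_sup_left
  rcases Noo.noo h.nd hF with h1 | ⟨h1, h2⟩
  · left
    rwa [h.relIndex_cq, index_CS h.secA le_sup_right] at h1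
  · right
    rw [relIndex_o2] at h1
    exact ⟨h1, e.symm.isSimpleGroup⟩

/-- **(NOO')** -/
theorem noo' (h : Sit N A W Y) (hF : ∀ (D : Subgroup ↥(N ⊔ A)) [D.Normal], FFC (↥(N ⊔ A) ⧸ D))
    (hle : (cw W Y A).relIndex W ≤ (A ⊓ cq N).relIndex A) (hA : ¬ A ≤ cq N) : NCases N := by
  obtain ⟨e⟩ := quot_equiv (N := N) (K := N ⊔ A) le_sup_left
  have h1 := Noo.noo' h.nd hF (by rwa [h.relIndex_cq, index_CS h.secA le_sup_right]) (by
    intro h1
    apply hA
    intro a ha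
    have h2 : (⟨a, le_sup_right (a := N) ha⟩ : ↥(N ⊔ A)) ∈
        A.subgroupOf (N ⊔ A) ⊓ cq (N.subgroupOf (N ⊔ A)) := ⟨mem_subgroupOf.2 ha, h1 (mem_subgroupOf.2 ha)⟩
    rw [h.cq_subgroupOf, mem_subgroupOf] at h2
    exact h2.2)
  rcases h1 with h1 | ⟨F, iF, iF', hc, h4, ⟨g⟩⟩ | ⟨h1, ⟨g⟩⟩ | ⟨h1, h2⟩
  · left
    rwa [relIndex_o2] at h1
  · right; left
    exact ⟨F, iF, iF', hc, h4, ⟨e.symm.trans g⟩⟩
  · right; right; left
    rw [relIndex_o2] at h1
    exact ⟨h1, ⟨e.symm.trans g⟩⟩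
  · right; right; right
    rw [relIndex_o2] at h1
    exact ⟨h1, e.symm.isSimpleGroup⟩

theorem two_le (h : Sit N A W Y) (hA : ¬ A ≤ cq N) : 2 ≤ (cw W Y A).relIndex W := by
  have h1 := Noo.two_le h.nd (by
    intro h1
    apply hA
    intro a ha
    have h2 : (⟨a, le_sup_right (a := N) ha⟩ : ↥(N ⊔ A)) ∈
        A.subgroupOf (N ⊔ A) ⊓ cq (N.subgroupOf (N ⊔ A)) := ⟨mem_subgroupOf.2 ha, h1 (mem_subgroupOf.2 ha)⟩
    rw [h.cq_subgroupOf, mem_subgroupOf] at h2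
    exact h2.2)
  rwa [index_CS h.secA le_sup_right] at h1

end Sit

end Cfsg.Agent.OddCyclic.Emp3.NooG
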