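import Cfsg.Agent.OddCyclic.FFPsl
import Cfsg.Agent.OddCyclic.Emp3.NooG
import Cfsg.Agent.S0495

/-!
# (Empty), (III), section 4: facts on `L₃(2)` = a simple group of order 168

* `exists_inv_three` : every automorphism of order 2 inverts an element of order 3;
* `card_le_four` : elementary abelian 2-groups of automorphisms have order at most 4;
* `bar` : the action of `N_G(N)` on `N / O₂(N)`; `bar_eq_one`;
* `exists_three` : `a ∈ N_G(N)`, `a² = 1`, `a ∉ cq N`, `N / O₂(N)` simple of order 168: `a` inverts an `x ∈ N` of order 3;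
* `relIndex_le_four` : `|A : A ∩ cq N| ≤ 4`.
-/

set_option autoImplicit false
set_option linter.unusedSectionVars false

namespace Cfsg.Agent.OddCyclic.Emp3.Seven

open Subgroup Matrix
open Cfsg.Agent.ZN (o2)
open Cfsg.Agent.ZN.Block (o2_isPGroup le_o2 o2_le)
open Cfsg.Agent.Lib.SL2Mat Cfsg.Agent.OddCyclic.FFPslMat Cfsg.Agent.OddCyclic.PGLTorus
open Cfsg.Agent.OddCyclic.Emp3.Noo Cfsg.Agent.OddCyclic.Emp3.NooG

instance fact_seven : Fact (Nat.Prime 7) := ⟨by norm_num⟩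

theorem two_ne : (2 : ZMod 7) ≠ 0 := by decide

theorem three_ne : (3 : ZMod 7) ≠ 0 := by decide

section aut

variable {L : Type*} [Group L] [Finite L]

theorem exists_rep (hs : IsSimpleGroup L) (hc : Nat.card L = 168) : Nonempty (Cfsg.Agent.GH.L2Aut.Rep (ZMod 7) L) := by
  obtain ⟨e⟩ := Cfsg.Agent.S0495.result (G := L) hc (F := ZMod 7) (ZMod.card 7)
  exact ⟨Cfsg.Agent.GH.L2Aut.Rep.ofEquiv (F := ZMod 7) two_ne e⟩

theorem exists_mat (R : Cfsg.Agent.GH.L2Aut.Rep (ZMod 7) L) {α : MulAut L} (h1 : α ≠ 1)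
    (h2 : α * α = 1) : ∃ γ : GL (Fin 2) (ZMod 7), γ.1.trace = 0 ∧ R.gl γ = α := by
  obtain ⟨γ, hγ⟩ := R.mem_PGL.1 (mem_PGL_of_prime R (by simp; norm_num) α)
  refine ⟨γ, ?_, hγ.symm⟩
  apply trace_of_sq R
  · rw [← hγ]; exact h1
  · rw [← hγ]; exact h2

/-- every automorphism of order 2 inverts an element of order 3 -/
theorem exists_inv_three (hs : IsSimpleGroup L) (hc : Nat.card L = 168) {α : MulAut L} (h1 : α ≠ 1)
    (h2 : α * α = 1) : ∃ x : L, orderOf x = 3 ∧ α x = x⁻¹ := by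
  have : Fact (Nat.Prime 3) := ⟨Nat.prime_three⟩
  obtain ⟨R⟩ := exists_rep hs hc
  obtain ⟨γ, hγ0, hγ⟩ := exists_mat R h1 h2
  obtain ⟨x, hx, hx'⟩ := inv_exists R.two hγ0 (FFPsl.det_ne γ) 1
  obtain ⟨h3, h4⟩ := order_three_one R three_ne hx
  refine ⟨R.π x, orderOf_eq_prime h3 h4, ?_⟩
  have h5 := gl_inv R hγ0 hx'
  rwa [hγ] at h5

theorem orth (R : Cfsg.Agent.GH.L2Aut.Rep (ZMod 7) L) {γ δ : GL (Fin 2) (ZMod 7)}
    (h1 : R.gl (γ * δ) ≠ 1) (h2 : R.gl (γ * δ) * R.gl (γ * δ) = 1) : (γ.1 * δ.1).trace = 0 :=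
  trace_of_sq R (g := γ * δ) h1 h2

theorem card_le_four (hs : IsSimpleGroup L) (hc : Nat.card L = 168) {A : Subgroup (MulAut L)}
    (hA : ∀ a ∈ A, a * a = 1) : Nat.card A ≤ 4 := by
  obtain ⟨R⟩ := exists_rep hs hc
  by_contra hcon
  push Not at hcon
  obtain ⟨a, ha, ha1, -, -, -⟩ := JInner.exists_notin A hcon 1 1 1 1
  obtain ⟨b, hb, hb1, hba, -, -⟩ := JInner.exists_notin A hcon 1 a 1 1
  obtain ⟨c, hc, hc1, hca, hcb, hcab⟩ := JInner.exists_notin A hcon 1 a b (a * b)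
  have hinv : ∀ x ∈ A, x⁻¹ = x := fun x hx => inv_eq_of_mul_eq_one_left (hA x hx)
  have hne : ∀ x ∈ A, ∀ y ∈ A, x ≠ y → x * y ≠ 1 := by
    intro x hx y hy hxy h1
    apply hxy
    rw [← hinv x hx]
    exact (eq_inv_of_mul_eq_one_right h1).symm ▸ rfl
  obtain ⟨γ, hγ0, hγ⟩ := exists_mat R ha1 (hA a ha)
  obtain ⟨δ, hδ0, hδ⟩ := exists_mat R hb1 (hA b hb)
  obtain ⟨ε, hε0, hε⟩ := exists_mat R hc1 (hA c hc)
  have key : ∀ {x y : MulAut L} (hx : x ∈ A) (hy : y ∈ A) (hxy : x * y ≠ 1) {γ δ : GL (Fin 2) (ZMod 7)}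
      (hγ : R.gl γ = x) (hδ : R.gl δ = y), (γ.1 * δ.1).trace = 0 := by
    intro x y hx hy hxy γ δ hγ hδ
    refine orth R ?_ ?_
    · rw [map_mul, hγ, hδ]; exact hxy
    · rw [map_mul, hγ, hδ]; exact hA _ (mul_mem hx hy)
  have h1 := key ha hb (hne a ha b hb hba.symm) hγ hδ
  have h2 := key ha hc (hne a ha c hc hca.symm) hγ hε
  have h3 := key hb hc (hne b hb c hc hcb.symm) hδ hε
  have h4 := key (mul_mem ha hb) hc (hne (a * b) (mul_mem ha hb) c hc hcab.symm)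
    (γ := γ * δ) (δ := ε) (by rw [map_mul, hγ, hδ]) hε
  exact no_three hγ0 hδ0 hε0 h1 h2 h3 h4 R.two

end aut

/-! ### the action on `N / O₂(N)` -/

section bar

/-- the automorphism of `N / O₂(N)` -/
noncomputable def barAut (N : Type*) [Group N] : MulAut N →* MulAut (N ⧸ pCore 2 N) :=
  letI : (pCore 2 N).Normal := Lib.Cores.pCore_normal 2
  { toFun := fun α => QuotientGroup.congr (pCore 2 N) (pCore 2 N) α (Lib.Cores.map_equiv_pCore α 2)
    map_one' := by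
      ext x
      obtain ⟨n, rfl⟩ := QuotientGroup.mk_surjective x
      rfl
    map_mul' := fun α β => by
      ext x
      obtain ⟨n, rfl⟩ := QuotientGroup.mk_surjective x
      rfl }

variable {G : Type*} [Group G] {N : Subgroup G}

/-- the action of `N_G(N)` on `N / O₂(N)` -/
noncomputable def bar (N : Subgroup G) : ↥(normalizer (N : Set G)) →* MulAut (N ⧸ pCore 2 N) :=
  (barAut N).comp N.normalizerMonoidHom

theorem mem_o2_iff (n : N) : (n : G) ∈ o2 N ↔ n ∈ pCore 2 N := by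
  constructor
  · rintro ⟨m, hm, e⟩
    rwa [← Subtype.ext (show (m : G) = n from e)]
  · intro h
    exact ⟨n, h, rfl⟩

theorem bar_mk (g : ↥(normalizer (N : Set G))) (n : N) :
    bar N g (QuotientGroup.mk n) = QuotientGroup.mk (⟨(g : G) * n * (g : G)⁻¹,
      (mem_normalizer_iff.1 g.2 n).1 n.2⟩ : N) := rfl

theorem mk_eq_iff (m n : N) : (QuotientGroup.mk m : N ⧸ pCore 2 N) = QuotientGroup.mk n ↔ (m : G) * (n : G)⁻¹ ∈ o2 N := by
  have hn : (pCore 2 N).Normal := Lib.Cores.pCore_normal 2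
  rw [← mul_inv_eq_one, ← QuotientGroup.mk_inv, ← QuotientGroup.mk_mul, QuotientGroup.eq_one_iff, ← mem_o2_iff]
  rfl

theorem bar_eq_one {g : ↥(normalizer (N : Set G))} : bar N g = 1 ↔ (g : G) ∈ cq N := by
  constructor
  · intro h
    refine mem_cq_of g.2 fun n hn => ?_
    have h1 := congrArg (fun β : MulAut (N ⧸ pCore 2 N) => β (QuotientGroup.mk (⟨n, hn⟩ : N))) h
    simp only [MulAut.one_apply] at h1
    rw [bar_mk, mk_eq_iff] at h1
    exact h1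
  · intro h
    ext x
    obtain ⟨n, rfl⟩ := QuotientGroup.mk_surjective x
    rw [bar_mk, MulAut.one_apply, mk_eq_iff]
    exact h.2 n n.2

variable [Finite G]

/-- `a` inverts an element of order 3 of `N` -/
theorem exists_three (hs : IsSimpleGroup (N ⧸ pCore 2 N)) (hc : (o2 N).relIndex N = 168) {a : G}
    (ha : a ∈ normalizer (N : Set G)) (ha2 : a * a = 1) (hac : a ∉ cq N) :
    ∃ x ∈ N, orderOf x = 3 ∧ a * x * a⁻¹ = x⁻¹ := by
  have hn : (pCore 2 N).Normal := Lib.Cores.pCore_normal 2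
  have hcard : Nat.card (N ⧸ pCore 2 N) = 168 := by
    rw [← hc]
    have h1 : (o2 N).subgroupOf N = pCore 2 N := by
      ext n
      rw [mem_subgroupOf, mem_o2_iff]
    rw [Subgroup.relIndex, h1, Subgroup.index]
  have hb1 : bar N ⟨a, ha⟩ ≠ 1 := fun h => hac (bar_eq_one.1 h)
  have hb2 : bar N ⟨a, ha⟩ * bar N ⟨a, ha⟩ = 1 := by
    rw [← map_mul]
    have e : (⟨a, ha⟩ : ↥(normalizer (N : Set G))) * ⟨a, ha⟩ = 1 := Subtype.ext ha2
    rw [e, map_one]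
  obtain ⟨xb, hx3, hxi⟩ := exists_inv_three hs hcard hb1 hb2
  obtain ⟨⟨n, hnN⟩, rfl⟩ := QuotientGroup.mk_surjective xb
  rw [bar_mk] at hxi
  -- `c = [a, n]`
  have hai : a⁻¹ = a := inv_eq_of_mul_eq_one_left ha2
  have hcN : a * n * a⁻¹ * n⁻¹ ∈ N := mul_mem ((mem_normalizer_iff.1 ha n).1 hnN) (inv_mem hnN)
  obtain ⟨c, hcdef⟩ : ∃ c : G, c = a * n * a⁻¹ * n⁻¹ := ⟨_, rfl⟩
  rw [← hcdef] at hcN
  have hcinv : a * c * a⁻¹ = c⁻¹ := by
    rw [hcdef]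
    have e1 : a * (a * n * a⁻¹ * n⁻¹) * a⁻¹ = (a * a) * n * a⁻¹ * n⁻¹ * a⁻¹ := by group
    have e2 : (a * n * a⁻¹ * n⁻¹)⁻¹ = n * a * n⁻¹ * a⁻¹ := by group
    rw [e1, e2, ha2, one_mul, hai]
  have hcm : (QuotientGroup.mk (⟨c, hcN⟩ : N) : N ⧸ pCore 2 N) = QuotientGroup.mk (⟨n, hnN⟩ : N) := by
    have h1 : (⟨c, hcN⟩ : N) = ⟨a * n * a⁻¹, (mem_normalizer_iff.1 ha n).1 hnN⟩ * (⟨n, hnN⟩ : N)⁻¹ :=
      Subtype.ext hcdef
    rw [h1, QuotientGroup.mk_mul, QuotientGroup.mk_inv]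
    have h2 : (QuotientGroup.mk (⟨a * n * a⁻¹, (mem_normalizer_iff.1 ha n).1 hnN⟩ : N) : N ⧸ pCore 2 N) =
        (QuotientGroup.mk (⟨n, hnN⟩ : N))⁻¹ := hxi
    rw [h2]
    have h3 : (QuotientGroup.mk (⟨n, hnN⟩ : N) : N ⧸ pCore 2 N) ^ 3 = 1 := by rw [← hx3]; exact pow_orderOf_eq_one _
    rw [pow_succ, pow_two] at h3
    rw [← _root_.mul_inv_rev]
    exact inv_eq_of_mul_eq_one_right h3
  -- `c ^ 3` is a 2-element
  have hc3 : c ^ 3 ∈ o2 N := by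
    have h1 : (⟨c, hcN⟩ : N) ^ 3 ∈ pCore 2 N := by
      rw [← QuotientGroup.eq_one_iff, QuotientGroup.mk_pow, hcm, ← hx3]
      exact pow_orderOf_eq_one _
    exact (mem_o2_iff ((⟨c, hcN⟩ : N) ^ 3)).2 h1
  obtain ⟨k, hk⟩ := o2_isPGroup N ⟨_, hc3⟩
  have hk1 : (c ^ 3) ^ 2 ^ k = 1 := congrArg Subtype.val hk
  have h4k : 4 ^ k % 3 = 1 := by
    rw [Nat.pow_mod]; norm_num
  have hx1 : (c ^ 4 ^ k) ^ 3 = 1 := by
    have e : (c ^ 4 ^ k) ^ 3 = ((c ^ 3) ^ 2 ^ k) ^ 2 ^ k := by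
      rw [← pow_mul, ← pow_mul, ← pow_mul]
      congr 1
      have : 4 ^ k = 2 ^ k * 2 ^ k := by rw [← mul_pow]; norm_num
      rw [this]; ring
    rw [e, hk1, one_pow]
  have hxN : c ^ 4 ^ k ∈ N := pow_mem hcN _
  have hxm : (QuotientGroup.mk (⟨c ^ 4 ^ k, hxN⟩ : N) : N ⧸ pCore 2 N) = QuotientGroup.mk (⟨n, hnN⟩ : N) := by
    have h1 : (⟨c ^ 4 ^ k, hxN⟩ : N) = (⟨c, hcN⟩ : N) ^ 4 ^ k := rfl
    rw [h1, QuotientGroup.mk_pow, hcm, ← pow_mod_orderOf, hx3, h4k, pow_one]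
  refine ⟨c ^ 4 ^ k, hxN, ?_, ?_⟩
  · have : Fact (Nat.Prime 3) := ⟨Nat.prime_three⟩
    refine orderOf_eq_prime hx1 fun h0 => ?_
    have h1 : (⟨c ^ 4 ^ k, hxN⟩ : N) = 1 := Subtype.ext h0
    rw [h1, QuotientGroup.mk_one] at hxm
    rw [← hxm, orderOf_one] at hx3
    omega
  · have h1 : a * c ^ 4 ^ k * a⁻¹ = (a * c * a⁻¹) ^ 4 ^ k := by rw [conj_pow]
    rw [h1, hcinv, inv_pow]

theorem relIndex_le_four (hs : IsSimpleGroup (N ⧸ pCore 2 N)) (hc : (o2 N).relIndex N = 168) {A : Subgroup G}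
    (hA : A ≤ normalizer (N : Set G)) (hA2 : ∀ a ∈ A, a * a = 1) : (A ⊓ cq N).relIndex A ≤ 4 := by
  have hcard : Nat.card (N ⧸ pCore 2 N) = 168 := by
    rw [← hc]
    have h1 : (o2 N).subgroupOf N = pCore 2 N := by
      ext n
      rw [mem_subgroupOf, mem_o2_iff]
    rw [Subgroup.relIndex, h1, Subgroup.index]
  have h1 := card_le_four hs hcard (A := (A.subgroupOf (normalizer (N : Set G))).map (bar N)) (by
    rintro _ ⟨a, ha, rfl⟩
    rw [← map_mul]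
    have e : a * a = 1 := Subtype.ext (hA2 a (mem_subgroupOf.1 ha))
    rw [e, map_one])
  have h2 : (bar N).ker.relIndex (A.subgroupOf (normalizer (N : Set G))) =
      Nat.card ((A.subgroupOf (normalizer (N : Set G))).map (bar N)) := Subgroup.relIndex_ker _ _
  rw [← h2] at h1
  have h3 : (bar N).ker = (cq N ⊓ normalizer (N : Set G)).subgroupOf (normalizer (N : Set G)) := by
    ext g
    rw [MonoidHom.mem_ker, bar_eq_one, mem_subgroupOf, mem_inf]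
    exact ⟨fun h => ⟨h, g.2⟩, fun h => h.1⟩
  rw [h3, relIndex_subgroupOf hA] at h1
  rw [inf_relIndex_left]
  have h4 : (cq N ⊓ normalizer (N : Set G)).relIndex A = (cq N).relIndex A := by
    rw [← inf_relIndex_right, inf_assoc, inf_eq_right.2 hA, inf_relIndex_right]
  rwa [h4] at h1

end bar

end Cfsg.Agent.OddCyclic.Emp3.Seven
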