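import Cfsg.Agent.OddCyclic.FFThree
import Cfsg.Agent.S0495

/-!
# S0342, case (III), (6.6): `L₃(2)`

`card_le_four`: `H` acts on the elementary abelian 2-group `V`, `L ⊴ H` is simple of order 168, `C_H(L) = 1`, `S` is a
Sylow 2-subgroup of `H` which centralises `F ≤ V`, `F ∩ C_V(L) = 1`, `1 ≠ A ≤ S` is elementary abelian and
`|V : C_V(A)| ≤ |A|`. Then `|F| ≤ 4`. (Shortcut by helper148: `L = ⟨s, w⟩`, `s ∈ S`, `w` an involution.)
-/

set_option autoImplicit false
set_option linter.unusedSectionVars false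

namespace Cfsg.Agent.OddCyclic.Emp3.End168

open Matrix Cfsg.Agent.Lib.SL2Mat Cfsg.Agent.GH.L2Aut Cfsg.Agent.Lib.PSL2Torus
open Cfsg.Agent.OddCyclic.T1Module Cfsg.Agent.OddCyclic.FFBasic Cfsg.Agent.OddCyclic.FFThree
  Cfsg.Agent.OddCyclic.FFRed Cfsg.Agent.OddCyclic.FFSl2

/-! ### Facts on `L₃(2)` -/

/-- the facts on `L₃(2)` used below -/
structure Facts (L : Type*) [Group L] : Prop where
  l32 : L32 L
  two : ∃ r w : L, r ^ 4 = 1 ∧ w * w = 1 ∧ Subgroup.closure {r, w} = ⊤
  aut : ∀ a b : L, Four a b → ∀ α : MulAut L, α a = a → α b = b →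
    ∃ u : L, (u = 1 ∨ u = a ∨ u = b ∨ u = a * b) ∧ α = MulAut.conj u

section facts

variable {F : Type*} [Field F] [Finite F] {L : Type*} [Group L] (R : Cfsg.Agent.GH.L2Aut.Rep F L)

include R in
theorem aut_four (hF : Nat.card F = 7) {a b : L} (h : Four a b) {α : MulAut L} (ha : α a = a) (hb : α b = b) :
    ∃ u : L, (u = 1 ∨ u = a ∨ u = b ∨ u = a * b) ∧ α = MulAut.conj u := by
  have hsub : ∀ σ τ : F ≃+* F, σ = τ := by
    intro σ τ
    ext t
    obtain ⟨n, rfl⟩ := exists_cast hF t
    rw [map_natCast, map_natCast]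
  obtain ⟨Φ, y, δ, -, -, -, -, -, -, -, -, -, -, -, -, -, h1, -⟩ := R.exists_frame h
  obtain ⟨u, hu, hu'⟩ := h1 α ha hb
  have h2 : Φ (R.fld α) = 1 := by
    rw [hsub (R.fld α) 1, map_one]
  rw [h2, mul_one] at hu'
  exact ⟨u, hu, hu'⟩

include R in
theorem exists_two (hF : Nat.card F = 7) : ∃ r w : L, r ^ 4 = 1 ∧ w * w = 1 ∧ Subgroup.closure {r, w} = ⊤ := by
  have hF7 := cast_seven hF
  have hjj : jm F * jm F = -1 := by
    refine ext_ent ?_ ?_ ?_ ?_
    · rw [ent_mul]; show 0 * 0 + (-1) * 1 = -(1 : F); ring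
    · rw [ent_mul]; show 0 * (-1) + (-1) * 0 = -(0 : F); ring
    · rw [ent_mul]; show 1 * 0 + 0 * 1 = -(0 : F); ring
    · rw [ent_mul]; show 1 * (-1) + 0 * 0 = -(1 : F); ring
  set Q : SpecialLinearGroup (Fin 2) F := up 3 * jm F with hQ
  have q00 : ent Q 0 0 = 3 := by rw [hQ, ent_mul]; show 1 * 0 + 3 * 1 = (3 : F); ring
  have q01 : ent Q 0 1 = -1 := by rw [hQ, ent_mul]; show 1 * (-1) + 3 * 0 = -(1 : F); ring
  have q10 : ent Q 1 0 = 1 := by rw [hQ, ent_mul]; show 0 * 0 + 1 * 1 = (1 : F); ring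
  have q11 : ent Q 1 1 = 0 := by rw [hQ, ent_mul]; show 0 * (-1) + 1 * 0 = (0 : F); ring
  have s00 : ent (Q * Q) 0 0 = 1 := by rw [ent_mul, q00, q01, q10]; linear_combination hF7
  have s01 : ent (Q * Q) 0 1 = -3 := by rw [ent_mul, q00, q01, q11]; ring
  have s10 : ent (Q * Q) 1 0 = 3 := by rw [ent_mul, q00, q10, q11]; ring
  have s11 : ent (Q * Q) 1 1 = -1 := by rw [ent_mul, q01, q10, q11]; ring
  have hQ4 : (Q * Q) * (Q * Q) = -1 := by
    refine ext_ent ?_ ?_ ?_ ?_
    · rw [ent_mul, s00, s01, s10]; show 1 * 1 + (-3) * 3 = -(1 : F); linear_combination -hF7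
    · rw [ent_mul, s00, s01, s11]; show 1 * (-3) + (-3) * (-1) = -(0 : F); ring
    · rw [ent_mul, s00, s10, s11]; show 3 * 1 + (-1) * 3 = -(0 : F); ring
    · rw [ent_mul, s01, s10, s11]; show 3 * (-3) + (-1) * (-1) = -(1 : F); linear_combination -hF7
  refine ⟨R.π Q, R.π (jm F), ?_, ?_, ?_⟩
  · rw [← map_pow, R.ker]
    right
    rw [← hQ4]
    simp only [pow_succ, pow_zero, one_mul, mul_assoc]
  · rw [← map_mul, hjj, R.ker]; exact Or.inr rfl
  · rw [eq_top_iff]
    intro x _
    obtain ⟨X, rfl⟩ := R.surj x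
    set S := Subgroup.closure ({R.π Q, R.π (jm F)} : Set L) with hS
    have hj : R.π (jm F) ∈ S := Subgroup.subset_closure (Or.inr rfl)
    have hq : R.π Q ∈ S := Subgroup.subset_closure (Or.inl rfl)
    have hu3 : R.π (up 3) ∈ S := by
      have h1 := mul_mem hq hj
      rw [← map_mul, hQ, mul_assoc, hjj] at h1
      have h2 : (up 3 : SpecialLinearGroup (Fin 2) F) * -1 = -(up 3) := by rw [mul_neg, mul_one]
      rw [h2, R.π_neg] at h1
      exact h1
    have hu1 : R.π (up 1) ∈ S := by
      have h1 := pow_mem hu3 5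
      have h2 : (up (3 : F)) ^ 5 = up 1 := by
        have h3 : up (3 : F) = (up 1) ^ 3 := by rw [FFPsl.up_pow]; norm_num
        rw [h3, ← pow_mul, FFPsl.up_pow]
        congr 1
        push_cast
        linear_combination 2 * hF7
      rwa [← map_pow, h2] at h1
    have hu : ∀ t : F, R.π (up t) ∈ S := by
      intro t
      obtain ⟨n, rfl⟩ := exists_cast hF t
      rw [← FFPsl.up_pow, map_pow]
      exact pow_mem hu1 n
    have hl : ∀ t : F, R.π (lo t) ∈ S := by
      intro t
      have h1 : lo t = -(jm F * up (-t) * jm F) := by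
        refine ext_ent ?_ ?_ ?_ ?_
        · show 1 = -(ent (jm F * up (-t) * jm F) 0 0)
          rw [ent_mul, ent_mul, ent_mul]
          show (1 : F) = -((0 * 1 + (-1) * 0) * 0 + (0 * (-t) + (-1) * 1) * 1); ring
        · show 0 = -(ent (jm F * up (-t) * jm F) 0 1)
          rw [ent_mul, ent_mul, ent_mul]
          show (0 : F) = -((0 * 1 + (-1) * 0) * (-1) + (0 * (-t) + (-1) * 1) * 0); ring
        · show t = -(ent (jm F * up (-t) * jm F) 1 0)
          rw [ent_mul, ent_mul, ent_mul]
          show (t : F) = -((1 * 1 + 0 * 0) * 0 + (1 * (-t) + 0 * 1) * 1); ring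
        · show 1 = -(ent (jm F * up (-t) * jm F) 1 1)
          rw [ent_mul, ent_mul, ent_mul]
          show (1 : F) = -((1 * 1 + 0 * 0) * (-1) + (1 * (-t) + 0 * 1) * 0); ring
      rw [h1, R.π_neg, map_mul, map_mul]
      exact mul_mem (mul_mem hj (hu _)) hj
    obtain ⟨a, b, c, d, rfl⟩ := exists_up_lo X
    rw [map_mul, map_mul, map_mul]
    exact mul_mem (mul_mem (mul_mem (hu a) (hl b)) (hu c)) (hl d)

end facts

theorem two_ne : (2 : ZMod 7) ≠ 0 := by decide

theorem facts {L : Type*} [Group L] [Finite L] (hs : IsSimpleGroup L) (hc : Nat.card L = 168) : Facts L := by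
  have : Fact (Nat.Prime 7) := ⟨by norm_num⟩
  obtain ⟨e⟩ := Cfsg.Agent.S0495.result (G := L) hc (F := ZMod 7) (ZMod.card 7)
  have R := Cfsg.Agent.GH.L2Aut.Rep.ofEquiv (F := ZMod 7) two_ne e
  have h7 : Nat.card (ZMod 7) = 7 := by simp
  exact ⟨l32_of R h7, exists_two R h7, fun a b h α ha hb => aut_four R h7 h ha hb⟩

/-- `L₃(2)` is generated by an element of a given Sylow 2-subgroup and an involution -/
theorem Facts.exists_conj {L : Type*} [Group L] [Finite L] (h : Facts L) (T : Sylow 2 L) :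
    ∃ s ∈ T, ∃ w : L, w ≠ 1 ∧ w * w = 1 ∧ Subgroup.closure {s, w} = ⊤ := by
  obtain ⟨r, w, hr, hw, hgen⟩ := h.two
  have h1 : IsPGroup 2 (Subgroup.zpowers r) := by
    intro y
    refine ⟨2, ?_⟩
    obtain ⟨j, hj⟩ := Subgroup.mem_zpowers_iff.1 y.2
    apply Subtype.ext
    show (y : L) ^ 2 ^ 2 = 1
    have h4 : r ^ 2 ^ 2 = 1 := by norm_num; exact hr
    rw [← hj, ← zpow_natCast, ← _root_.zpow_mul, mul_comm, _root_.zpow_mul, zpow_natCast, h4, _root_.one_zpow]
  obtain ⟨S, hS⟩ := h1.exists_le_sylow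
  obtain ⟨k, hk⟩ := MulAction.exists_smul_eq L S T
  have h2 : k * r * k⁻¹ ∈ T := by
    rw [← hk]
    exact Subgroup.smul_mem_pointwise_smul _ _ _ (hS (Subgroup.mem_zpowers r))
  have hgen' : Subgroup.closure {k * r * k⁻¹, k * w * k⁻¹} = ⊤ := by
    rw [eq_top_iff]
    intro x _
    have h5 : (⊤ : Subgroup L) ≤
        (Subgroup.closure {k * r * k⁻¹, k * w * k⁻¹}).comap (MulAut.conj k).toMonoidHom := by
      rw [← hgen, Subgroup.closure_le]
      rintro x (rfl | rfl)
      · exact Subgroup.subset_closure (Or.inl rfl)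
      · exact Subgroup.subset_closure (Or.inr rfl)
    have h6 := h5 (Subgroup.mem_top (k⁻¹ * x * k))
    have e2 : k * (k⁻¹ * x * k) * k⁻¹ = x := by group
    rw [← e2]
    exact h6
  refine ⟨_, h2, k * w * k⁻¹, ?_, ?_, hgen'⟩
  · intro h3
    have hw1 : w = 1 := by
      have := congrArg (fun t => k⁻¹ * t * k) h3
      simpa [mul_assoc] using this
    -- `L` would be a 2-group
    have h4 : (⊤ : Subgroup L) ≤ T := by
      rw [← hgen', Subgroup.closure_le]
      rintro x (rfl | rfl)
      · exact h2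
      · rw [h3]; exact one_mem _
    have h5 := Subgroup.card_le_of_le h4
    rw [Subgroup.card_top, h.l32.card] at h5
    have h6 := card_sylow h.l32 T
    change Nat.card (T : Subgroup L) = 8 at h6
    omega
  · have e : k * w * k⁻¹ * (k * w * k⁻¹) = k * (w * w) * k⁻¹ := by group
    rw [e, hw, mul_one, mul_inv_cancel]

/-! ### Involutions of `L` with few nonfixed points -/

/-- the stabiliser of `v` -/
def stabV {X V : Type*} [Group X] [CommGroup V] (ρ : X →* MulAut V) (v : V) : Subgroup X where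
  carrier := {b | ρ b v = v}
  mul_mem' := by
    intro b c hb hc
    show ρ (b * c) v = v
    rw [map_mul, MulAut.mul_apply, show ρ c v = v from hc, show ρ b v = v from hb]
  one_mem' := by
    show ρ 1 v = v
    rw [map_one]; rfl
  inv_mem' := by
    intro b hb
    have h1 : v ∈ fx ρ b := hb
    exact fx_inv ρ h1

section main

variable {H : Type*} [Group H] [Finite H]

theorem isFour_map {L : Type*} [Group L] (α : MulAut L) {C : Subgroup L} (hC : IsFour C) :
    IsFour (C.map α.toMonoidHom) := by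
  refine ⟨?_, ?_⟩
  · rw [Subgroup.card_map_of_injective (f := α.toMonoidHom) α.injective]
    exact hC.card
  · rintro _ ⟨c, hc, rfl⟩
    have h1 := congrArg α (hC.sq c hc)
    rw [map_mul, map_one] at h1
    exact h1

theorem exists_sylow (S : Sylow 2 H) {L : Subgroup H} (hL : L.Normal) :
    ∃ T : Sylow 2 L, (T : Subgroup L) = (S : Subgroup H).subgroupOf L := by
  have : Fact (Nat.Prime 2) := ⟨Nat.prime_two⟩
  have h1 : IsPGroup 2 ((S : Subgroup H).subgroupOf L) :=
    S.isPGroup'.comap_of_injective _ L.subtype_injective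
  obtain ⟨T, hT⟩ := h1.exists_le_sylow
  refine ⟨T, (Subgroup.eq_of_le_of_card_ge hT ?_).symm⟩
  obtain ⟨P, hP⟩ := (T.isPGroup'.map L.subtype).exists_le_sylow
  obtain ⟨g, hg⟩ := MulAction.exists_smul_eq H P S
  let f : ↥(T : Subgroup L) → ↥((S : Subgroup H).subgroupOf L) := fun y =>
    ⟨⟨g * ((y : L) : H) * g⁻¹, hL.conj_mem _ (y : L).2 g⟩, by
    rw [Subgroup.mem_subgroupOf, ← hg]
    exact ⟨_, hP (Subgroup.mem_map_of_mem _ y.2), rfl⟩⟩
  apply Nat.card_le_card_of_injective f
  intro a b hab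
  have h1 : g * ((a : L) : H) * g⁻¹ = g * ((b : L) : H) * g⁻¹ := congrArg (fun t => ((t.1 : L) : H)) hab
  exact Subtype.ext (Subtype.ext (mul_left_cancel (mul_right_cancel h1)))

variable {L : Subgroup H} [hL : L.Normal]

/-- an automorphism `x` with `x ∈ S` which normalises a four-group of `S ∩ L` is in `L` -/
theorem mem_of_four (h : Facts L) (hC : Subgroup.centralizer (L : Set H) = ⊥) (S : Sylow 2 H) (T : Sylow 2 L)
    (hT : (T : Subgroup L) = (S : Subgroup H).subgroupOf L) {z a b : L} (hza : Four z a) (hzb : Four z b)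
    (hB : hzb.sub ≤ T) (hA : hza.sub ≤ T) (hab : a * b * a⁻¹ = z * b) (hne : hza.sub ≠ hzb.sub)
    (honly : ∀ C : Subgroup L, IsFour C → C ≤ T → C = hza.sub ∨ C = hzb.sub)
    {x : H} (hx : x ∈ S) (hn : ∀ c ∈ hza.sub, MulAut.conjNormal x c ∈ hza.sub) : x ∈ L := by
  set α : MulAut L := MulAut.conjNormal x with hα
  -- `α` normalises `T`
  have hαT : ∀ t ∈ T, α t ∈ T := by
    intro t ht
    have h1 : t ∈ (S : Subgroup H).subgroupOf L := hT ▸ ht
    show α t ∈ (T : Subgroup L)
    rw [hT, Subgroup.mem_subgroupOf]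
    rw [hα, MulAut.conjNormal_apply]
    exact mul_mem (mul_mem hx (Subgroup.mem_subgroupOf.1 h1)) (inv_mem hx)
  have hcard : ∀ C : Subgroup L, IsFour C → IsFour (C.map α.toMonoidHom) := fun C hC4 => isFour_map α hC4
  have hmapT : ∀ C : Subgroup L, C ≤ T → C.map α.toMonoidHom ≤ T := by
    intro C hC
    rintro _ ⟨c, hc, rfl⟩
    exact hαT c (hC hc)
  have h1 : hza.sub.map α.toMonoidHom = hza.sub := by
    apply (hcard _ (isFour_sub hza)).eq_of_le (isFour_sub hza)
    rintro _ ⟨c, hc, rfl⟩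
    exact hn c hc
  have h2 : hzb.sub.map α.toMonoidHom = hzb.sub := by
    rcases honly _ (hcard _ (isFour_sub hzb)) (hmapT _ hB) with h3 | h3
    · exfalso
      apply hne
      rw [← h1] at h3
      exact (Subgroup.map_injective α.injective h3).symm
    · exact h3
  have hzz : α z ∈ hza.sub := hn z (Or.inr (Or.inl rfl))
  have hzz' : α z ∈ hzb.sub := by
    rw [← h2]
    exact ⟨z, Or.inr (Or.inl rfl), rfl⟩
  have hab' : b * a * b⁻¹ = z * a := by
    have e1 : a * b = z * b * a := by rw [← hab]; group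
    have hbi : b⁻¹ = b := inv_eq_of_mul_eq_one_left hzb.bb
    calc b * a * b⁻¹ = b * (a * b) := by rw [hbi, mul_assoc]
      _ = b * (z * b * a) := by rw [e1]
      _ = (b * z) * b * a := by group
      _ = z * (b * b) * a := by rw [← hzb.comm]; group
      _ = z * a := by rw [hzb.bb, mul_one]
  have haB : a ∉ hzb.sub := by
    intro haB
    apply hne
    apply (isFour_sub hza).eq_of_le (isFour_sub hzb)
    rintro c (rfl | rfl | rfl | rfl)
    · exact one_mem _
    · exact Or.inr (Or.inl rfl)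
    · exact haB
    · exact mul_mem (Or.inr (Or.inl rfl)) haB
  have hz1 : α z ≠ 1 := fun h3 => hza.a1 (α.injective (by rw [h3, map_one]))
  have hαz : α z = z := by
    rcases hzz with h3 | h3 | h3 | h3
    · exact absurd h3 hz1
    · exact h3
    · rw [h3] at hzz'
      exact absurd hzz' haB
    · rw [h3] at hzz'
      have h4 := mul_mem (inv_mem (Or.inr (Or.inl rfl) : z ∈ hzb.sub)) hzz'
      rw [inv_mul_cancel_left] at h4
      exact absurd h4 haB
  have hαa : α a = a ∨ α a = z * a := by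
    rcases hn a (Or.inr (Or.inr (Or.inl rfl))) with h3 | h3 | h3 | h3
    · exact absurd (α.injective (by rw [h3, map_one])) hza.b1
    · exact absurd (α.injective (h3.trans hαz.symm)) hza.ne.symm
    · exact Or.inl h3
    · exact Or.inr h3
  -- `α` is inner
  obtain ⟨u, hu⟩ : ∃ u : L, α = MulAut.conj u := by
    rcases hαa with h3 | h3
    · obtain ⟨u, -, hu⟩ := h.aut z a hza α hαz h3
      exact ⟨u, hu⟩
    · obtain ⟨u, -, hu⟩ := h.aut z a hza (MulAut.conj b * α) (by
        rw [MulAut.mul_apply, hαz, MulAut.conj_apply, ← hzb.comm, mul_inv_cancel_right]) (by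
        rw [MulAut.mul_apply, h3, map_mul, MulAut.conj_apply, MulAut.conj_apply, ← hzb.comm, mul_inv_cancel_right,
          hab', ← mul_assoc, hza.aa, one_mul])
      refine ⟨b⁻¹ * u, ?_⟩
      rw [map_mul, ← hu, map_inv, inv_mul_cancel_left]
  have h3 : (u : H)⁻¹ * x ∈ Subgroup.centralizer (L : Set H) := by
    rw [Subgroup.mem_centralizer_iff]
    intro l hl
    have h4 := congrArg (fun β : MulAut L => ((β ⟨l, hl⟩ : L) : H)) hu
    simp only [hα, MulAut.conjNormal_apply, MulAut.conj_apply, Subgroup.coe_mul, Subgroup.coe_inv] at h4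
    -- `x l x⁻¹ = u l u⁻¹`
    have h5 : x * l = (u : H) * l * (u : H)⁻¹ * x := by rw [← h4]; group
    calc l * ((u : H)⁻¹ * x) = (u : H)⁻¹ * ((u : H) * l * (u : H)⁻¹ * x) := by group
      _ = (u : H)⁻¹ * (x * l) := by rw [h5]
      _ = (u : H)⁻¹ * x * l := by group
  rw [hC, Subgroup.mem_bot] at h3
  have h4 : x = u := by
    have := congrArg (fun t => (u : H) * t) h3
    simpa using this
  rw [h4]
  exact u.2

variable {V : Type*} [CommGroup V] [Finite V] (ρ : H →* MulAut V)

theorem index_le {x : H} {A : Subgroup H} (hx : x ∈ A) : (fx ρ x).index ≤ (CS ρ A).index :=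
  index_le_of_le (CS_le_fx hx)

/-- some involution of `L` has at most four nontrivial commutators -/
theorem exists_involution (h : Facts L) (hC : Subgroup.centralizer (L : Set H) = ⊥) (S : Sylow 2 H)
    {A : Subgroup H} (hA2 : ∀ a ∈ A, a * a = 1) (hAS : A ≤ S) (hA1 : A ≠ ⊥) (hi : (CS ρ A).index ≤ Nat.card A) :
    ∃ u : L, u ≠ 1 ∧ u * u = 1 ∧ (fx ρ (u : H)).index ≤ 4 := by
  obtain ⟨T, hT⟩ := exists_sylow S hL
  -- a four-group in `T`
  obtain ⟨C, hC4, hCT⟩ : ∃ C : Subgroup L, IsFour C ∧ C ≤ T := by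
    obtain ⟨a, b, hab⟩ := h.l32.four
    have h1 : IsPGroup 2 hab.sub := IsPGroup.of_card (n := 2) (by rw [card_sub]; norm_num)
    obtain ⟨P, hP⟩ := h1.exists_le_sylow
    obtain ⟨g, hg⟩ := MulAction.exists_smul_eq L P T
    refine ⟨hab.sub.map (MulAut.conj g).toMonoidHom, isFour_map _ (isFour_sub hab), ?_⟩
    · rintro _ ⟨c, hc, rfl⟩
      rw [← hg]
      exact ⟨c, hP hc, rfl⟩
  obtain ⟨z, a, b, hza, hzb, hCeq, hBT, hab, hne, hsup, honly, -⟩ := exists_other h.l32 T hC4 hCT
  rw [hCeq] at hne hsup honly hCT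
  have hin := fun {x : H} => mem_of_four h hC S T hT hza hzb hBT hCT hab hne honly (x := x)
  -- `z` is central in `T`
  have hzT : ∀ t ∈ T, z * t = t * z := by
    have h1 : (T : Subgroup L) ≤ Subgroup.centralizer {z} := by
      rw [← hsup]
      refine sup_le ?_ ?_
      · rintro c (rfl | rfl | rfl | rfl)
        · exact one_mem _
        · exact Subgroup.mem_centralizer_singleton_iff.2 rfl
        · exact Subgroup.mem_centralizer_singleton_iff.2 hza.comm.symm
        · refine Subgroup.mem_centralizer_singleton_iff.2 ?_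
          rw [mul_assoc, ← hza.comm]
      · rintro c (rfl | rfl | rfl | rfl)
        · exact one_mem _
        · exact Subgroup.mem_centralizer_singleton_iff.2 rfl
        · exact Subgroup.mem_centralizer_singleton_iff.2 hzb.comm.symm
        · refine Subgroup.mem_centralizer_singleton_iff.2 ?_
          rw [mul_assoc, ← hzb.comm]
    intro t ht
    exact (Subgroup.mem_centralizer_singleton_iff.1 (h1 ht)).symm
  have haB : a ∉ hzb.sub := by
    intro haB
    apply hne
    apply (isFour_sub hza).eq_of_le (isFour_sub hzb)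
    rintro c (rfl | rfl | rfl | rfl)
    · exact one_mem _
    · exact Or.inr (Or.inl rfl)
    · exact haB
    · exact mul_mem (Or.inr (Or.inl rfl)) haB
  have hinter : ∀ c ∈ hza.sub, c ∈ hzb.sub → c = 1 ∨ c = z := by
    rintro c (rfl | rfl | rfl | rfl) hc
    · exact Or.inl rfl
    · exact Or.inr rfl
    · exact absurd hc haB
    · have h4 := mul_mem (inv_mem (Or.inr (Or.inl rfl) : z ∈ hzb.sub)) hc
      rw [inv_mul_cancel_left] at h4
      exact absurd h4 haB
  by_cases hcase : ∀ x ∈ A, ∀ c ∈ hza.sub, MulAut.conjNormal x c ∈ hza.sub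
  · -- `A ≤ L`
    have hAL : A ≤ L := fun x hx => hin (hAS hx) (hcase x hx)
    have h4 : Nat.card (A.subgroupOf L) ≤ 4 :=
      FFThree.card_le_four h.l32 fun x hx => Subtype.ext (hA2 _ (Subgroup.mem_subgroupOf.1 hx))
    rw [Nat.card_congr (Subgroup.subgroupOfEquivOfLe hAL).toEquiv] at h4
    obtain ⟨⟨u, hu⟩, hu1⟩ := Subgroup.ne_bot_iff_exists_ne_one.1 hA1
    refine ⟨⟨u, hAL hu⟩, fun h1 => hu1 (Subtype.ext ?_), Subtype.ext (hA2 u hu),
      (index_le ρ hu).trans (hi.trans h4)⟩
    exact congrArg (fun t : L => (t : H)) h1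
  · push Not at hcase
    obtain ⟨x, hx, c, hc, hcx⟩ := hcase
    set α : MulAut L := MulAut.conjNormal x with hα
    have hαT : ∀ y ∈ S, ∀ t ∈ T, MulAut.conjNormal y t ∈ T := by
      intro y hy t ht
      have h1 : t ∈ (S : Subgroup H).subgroupOf L := hT ▸ ht
      show _ ∈ (T : Subgroup L)
      rw [hT, Subgroup.mem_subgroupOf]
      rw [MulAut.conjNormal_apply]
      exact mul_mem (mul_mem hy (Subgroup.mem_subgroupOf.1 h1)) (inv_mem hy)
    -- an element of `S` which does not normalise `hza.sub` maps it to `hzb.sub`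
    have hsw : ∀ y ∈ S, (∃ c ∈ hza.sub, MulAut.conjNormal y c ∉ hza.sub) →
        ∀ c ∈ hza.sub, MulAut.conjNormal y c ∈ hzb.sub := by
      rintro y hy ⟨c, hc, hcy⟩ d hd
      set β : MulAut L := MulAut.conjNormal y with hβ
      have h1 : IsFour (hza.sub.map β.toMonoidHom) := isFour_map β (isFour_sub hza)
      have h2 : hza.sub.map β.toMonoidHom ≤ T := by
        rintro _ ⟨e, he, rfl⟩
        exact hαT y hy e (hCT he)
      rcases honly _ h1 h2 with h3 | h3
      · exfalso
        apply hcy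
        rw [← h3]
        exact ⟨c, hc, rfl⟩
      · rw [← h3]
        exact ⟨d, hd, rfl⟩
    have hx2 : ∀ d : L, α (α d) = d := by
      intro d
      rw [hα, ← MulAut.mul_apply, ← map_mul, hA2 x hx, map_one]
      rfl
    -- `x` maps `hzb.sub` to `hza.sub`
    have hswx := hsw x (hAS hx) ⟨c, hc, hcx⟩
    have hxb : ∀ d ∈ hzb.sub, α d ∈ hza.sub := by
      intro d hd
      have h1 : hza.sub.map α.toMonoidHom = hzb.sub := by
        have h1 : IsFour (hza.sub.map α.toMonoidHom) := isFour_map α (isFour_sub hza)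
        apply h1.eq_of_le (isFour_sub hzb)
        rintro _ ⟨e, he, rfl⟩
        exact hswx e he
      rw [← h1] at hd
      obtain ⟨e, he, rfl⟩ := hd
      have h2 : α (α e) = e := hx2 e
      show α (α e) ∈ _
      rw [h2]
      exact he
    -- `A ∩ L ≤ ⟨z⟩`
    have hAL : ∀ y ∈ A, y ∈ L → y = 1 ∨ y = z := by
      intro y hy hyL
      by_cases hy1 : y = 1
      · exact Or.inl hy1
      by_cases hyz : y = z
      · exact Or.inr hyz
      exfalso
      set y' : L := ⟨y, hyL⟩ with hy'
      have hyT : y' ∈ (T : Subgroup L) := by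
        rw [hT, Subgroup.mem_subgroupOf]
        exact hAS hy
      have hf : Four z y' := ⟨hza.aa, Subtype.ext (hA2 y hy), hza.a1, fun h1 => hy1 (congrArg Subtype.val h1),
        fun h1 => hyz (congrArg Subtype.val h1).symm, hzT y' hyT⟩
      have hfT : hf.sub ≤ T := by
        rintro d (rfl | rfl | rfl | rfl)
        · exact one_mem _
        · exact hCT (Or.inr (Or.inl rfl))
        · exact hyT
        · exact mul_mem (hCT (Or.inr (Or.inl rfl))) hyT
      have hαy : α y' = y' := by
        apply Subtype.ext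
        rw [hα, MulAut.conjNormal_apply]
        show x * y * x⁻¹ = y
        have h1 := comm_of_sq hA2 hx hy
        rw [h1, mul_inv_cancel_right]
      have hmem : y' ∈ hf.sub := Or.inr (Or.inr (Or.inl rfl))
      have h2 : y' ∈ hza.sub ∧ y' ∈ hzb.sub := by
        rcases honly _ (isFour_sub hf) hfT with h1 | h1
        · rw [h1] at hmem
          refine ⟨hmem, ?_⟩
          rw [← hαy]
          exact hswx _ hmem
        · rw [h1] at hmem
          refine ⟨?_, hmem⟩
          rw [← hαy]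
          exact hxb _ hmem
      rcases hinter y' h2.1 h2.2 with h1 | h1
      · exact hy1 (congrArg Subtype.val h1)
      · exact hyz (congrArg Subtype.val h1)
    have hcov : ∀ y ∈ A, y ∈ L ∨ x * y ∈ L := by
      intro y hy
      by_cases h1 : ∀ c ∈ hza.sub, MulAut.conjNormal y c ∈ hza.sub
      · exact Or.inl (hin (hAS hy) h1)
      · right
        push Not at h1
        have h2 := hsw y (hAS hy) h1
        apply hin (mul_mem (hAS hx) (hAS hy))
        intro c hc
        rw [map_mul, MulAut.mul_apply]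
        exact hxb _ (h2 c hc)
    have hlist : ∀ y ∈ A, y = 1 ∨ y = z ∨ y = x ∨ y = x * z := by
      intro y hy
      rcases hcov y hy with h1 | h1
      · rcases hAL y hy h1 with h2 | h2
        · exact Or.inl h2
        · exact Or.inr (Or.inl h2)
      · have e : y = x * (x * y) := by rw [← mul_assoc, hA2 x hx, one_mul]
        rcases hAL _ (mul_mem hx hy) h1 with h2 | h2
        · rw [h2, mul_one] at e
          exact Or.inr (Or.inr (Or.inl e))
        · rw [h2] at e
          exact Or.inr (Or.inr (Or.inr e))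
    by_cases hzA : (z : H) ∈ A
    · refine ⟨z, hza.a1, hza.aa, (index_le ρ hzA).trans (hi.trans ?_)⟩
      by_contra hcon
      push Not at hcon
      obtain ⟨y, hy, h1, h2, h3, h4⟩ := JInner.exists_notin A hcon 1 z x (x * z)
      rcases hlist y hy with h5 | h5 | h5 | h5
      · exact h1 h5
      · exact h2 h5
      · exact h3 h5
      · exact h4 h5
    · have hA2' : Nat.card A ≤ 2 := by
        apply FFPsl.card_le_two_of (a := x)
        intro y hy
        rcases hlist y hy with h5 | h5 | h5 | h5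
        · exact Or.inl h5
        · rw [h5] at hy
          exact absurd hy hzA
        · exact Or.inr h5
        · exfalso
          rw [h5] at hy
          have h6 := mul_mem (inv_mem hx) hy
          rw [inv_mul_cancel_left] at h6
          exact hzA h6
      have hix : (fx ρ x).index ≤ 2 := (index_le ρ hx).trans (hi.trans hA2')
      -- the commutator `[x, a]`
      have haA : a ∈ hza.sub := Or.inr (Or.inr (Or.inl rfl))
      set d : L := α a * a⁻¹ with hd
      have hdT : d ∈ (T : Subgroup L) := mul_mem (hαT x (hAS hx) a (hCT haA)) (inv_mem (hCT haA))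
      have hd1 : d ≠ 1 := by
        intro h1
        rw [hd, mul_inv_eq_one] at h1
        apply haB
        rw [← h1]
        exact hswx a haA
      have hdH : (d : H) = x * ((a : H) * x * (a : H)⁻¹) := by
        rw [hd, Subgroup.coe_mul, hα, MulAut.conjNormal_apply, Subgroup.coe_inv]
        have hxi : x⁻¹ = x := inv_eq_of_mul_eq_one_left (hA2 x hx)
        rw [hxi]
        group
      have hdi : (fx ρ (d : H)).index ≤ 4 := by
        have h1 : fx ρ x ⊓ fx ρ ((a : H) * x * (a : H)⁻¹) ≤ fx ρ (d : H) := by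
          intro v hv
          rw [hdH]
          exact fx_mul ρ hv.1 hv.2
        refine (index_le_of_le h1).trans (Subgroup.index_inf_le.trans ?_)
        rw [index_fx_conj]
        calc _ ≤ 2 * 2 := Nat.mul_le_mul hix hix
          _ = 4 := by norm_num
      -- a power of `d` is an involution
      obtain ⟨k, hk⟩ := T.isPGroup' ⟨d, hdT⟩
      have hk' : d ^ 2 ^ k = 1 := congrArg Subtype.val hk
      have hex : ∃ k, d ^ 2 ^ k = 1 := ⟨k, hk'⟩
      classical
      have h1 := Nat.find_spec hex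
      have h2 : Nat.find hex ≠ 0 := by
        intro h3
        rw [h3, pow_zero, pow_one] at h1
        exact hd1 h1
      obtain ⟨m, hm⟩ := Nat.exists_eq_succ_of_ne_zero h2
      have h3 : d ^ 2 ^ m ≠ 1 := Nat.find_min hex (by omega)
      refine ⟨d ^ 2 ^ m, h3, ?_, ?_⟩
      · rw [hm, Nat.succ_eq_add_one, pow_succ, pow_mul, pow_two] at h1
        exact h1
      · refine (index_le_of_le ?_).trans hdi
        intro v hv
        rw [Subgroup.coe_pow]
        exact fx_pow ρ hv _

end main

/-- **(6.6), the end.** -/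
theorem card_le_four {H V : Type*} [Group H] [Finite H] [CommGroup V] [Finite V] (_hV : ∀ v : V, v * v = 1)
    (ρ : H →* MulAut V) {L : Subgroup H} (hL : L.Normal) (hs : IsSimpleGroup L) (hc : Nat.card L = 168)
    (hC : Subgroup.centralizer (L : Set H) = ⊥) (S : Sylow 2 H) {F : Subgroup V} (hF : F ≤ CS ρ S)
    (hF1 : F ⊓ CS ρ L = ⊥) {A : Subgroup H} (hA2 : ∀ a ∈ A, a * a = 1) (hAS : A ≤ S) (hA1 : A ≠ ⊥)
    (hi : (CS ρ A).index ≤ Nat.card A) : Nat.card F ≤ 4 := by
  have h := facts hs hc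
  obtain ⟨u, hu1, hu, hi4⟩ := exists_involution ρ h hC S hA2 hAS hA1 hi
  obtain ⟨T, hT⟩ := exists_sylow S hL
  obtain ⟨s, hs', w, hw1, hw, hgen⟩ := h.exists_conj T
  obtain ⟨g, hg⟩ := h.l32.conj u w hu1 hu hw1 hw
  have hiw : (fx ρ (w : H)).index ≤ 4 := by
    rw [← hg, Subgroup.coe_mul, Subgroup.coe_mul, Subgroup.coe_inv, index_fx_conj]
    exact hi4
  have h1 : F ⊓ fx ρ (w : H) = ⊥ := by
    rw [eq_bot_iff, ← hF1]
    refine le_inf inf_le_left ?_
    rintro v ⟨hv, hvw⟩
    have h2 : (⊤ : Subgroup L) ≤ (stabV ρ v).subgroupOf L := by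
      rw [← hgen, Subgroup.closure_le]
      rintro x (rfl | rfl)
      · refine hF hv _ ?_
        have h3 : x ∈ (T : Subgroup L) := hs'
        rw [hT] at h3
        exact h3
      · exact hvw
    intro b hb
    exact h2 (Subgroup.mem_top ⟨b, hb⟩)
  have h2 : (fx ρ (w : H)).relIndex F = Nat.card F := by
    rw [← Subgroup.inf_relIndex_left, h1, Subgroup.relIndex_bot_left]
  rw [← h2]
  refine le_trans ?_ hiw
  exact Nat.le_of_dvd (Nat.pos_of_ne_zero Subgroup.index_ne_zero_of_finite) (Subgroup.relIndex_dvd_index_of_normal _ _)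

end Cfsg.Agent.OddCyclic.Emp3.End168
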