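import Mathlib
import Cfsg.Agent.OddCyclic.FFBasic

/-!
# The action on an abelian section `W/Y`

`IsSec X W Y` : `X` normalises `W` and `Y`, `W` is abelian. `IsSec.M = W/Y`, `IsSec.act : X →* MulAut M`,
`IsSec.sub F` = the image of `F ≤ W`.
-/

set_option autoImplicit false
set_option linter.unusedSectionVars false

namespace Cfsg.Agent.OddCyclic.Emp3.Sec

open Subgroup Cfsg.Agent.OddCyclic.T1Module Cfsg.Agent.OddCyclic.FFBasic

variable {G : Type*} [Group G]

/-- `X` acts on the abelian section `W/Y` -/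
structure IsSec (X W Y : Subgroup G) : Prop where
  nW : X ≤ normalizer (W : Set G)
  nY : X ≤ normalizer (Y : Set G)
  comm : ∀ a ∈ W, ∀ b ∈ W, a * b = b * a

namespace IsSec

variable {X W Y : Subgroup G}

theorem nrm (h : IsSec X W Y) : (Y.subgroupOf W).Normal := by
  constructor
  intro n hn g
  have e : g * n * g⁻¹ = n := by
    apply Subtype.ext
    show (g : G) * n * (g : G)⁻¹ = n
    rw [h.comm g g.2 n n.2, mul_inv_cancel_right]
  rw [e]; exact hn

/-- `W/Y` -/
def M (_h : IsSec X W Y) : Type _ := W ⧸ Y.subgroupOf W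

noncomputable instance instGroup (h : IsSec X W Y) : Group h.M := by
  haveI := h.nrm
  exact inferInstanceAs (Group (W ⧸ Y.subgroupOf W))

/-- the projection -/
noncomputable def pr (h : IsSec X W Y) : W →* h.M :=
  haveI := h.nrm
  (QuotientGroup.mk' (Y.subgroupOf W) : W →* (W ⧸ Y.subgroupOf W))

theorem pr_surj (h : IsSec X W Y) : Function.Surjective h.pr := by
  have := h.nrm
  exact QuotientGroup.mk'_surjective (Y.subgroupOf W)

theorem pr_eq_one (h : IsSec X W Y) {w : W} : h.pr w = 1 ↔ (w : G) ∈ Y := by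
  have := h.nrm
  have := QuotientGroup.eq_one_iff (N := Y.subgroupOf W) w
  exact this

theorem ker_pr (h : IsSec X W Y) : h.pr.ker = Y.subgroupOf W := by
  ext w
  rw [MonoidHom.mem_ker, h.pr_eq_one]
  rfl

noncomputable instance instCommGroup (h : IsSec X W Y) : CommGroup h.M where
  __ := h.instGroup
  mul_comm a b := by
    obtain ⟨a, rfl⟩ := h.pr_surj a
    obtain ⟨b, rfl⟩ := h.pr_surj b
    rw [← map_mul, ← map_mul]
    congr 1
    exact Subtype.ext (h.comm a a.2 b b.2)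

instance instFinite [Finite G] (h : IsSec X W Y) : Finite h.M := Finite.of_surjective _ h.pr_surj

theorem sq (h : IsSec X W Y) (hsq : ∀ w ∈ W, w * w ∈ Y) (v : h.M) : v * v = 1 := by
  obtain ⟨w, rfl⟩ := h.pr_surj v
  rw [← map_mul]
  exact h.pr_eq_one.2 (hsq w w.2)

/-- conjugation on `W` -/
def cW (h : IsSec X W Y) : X →* MulAut W where
  toFun x :=
    { toFun := fun w => ⟨(x : G) * w * (x : G)⁻¹, (mem_normalizer_iff.1 (h.nW x.2) w).1 w.2⟩
      invFun := fun w => ⟨(x : G)⁻¹ * w * x, by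
        have := (mem_normalizer_iff.1 (inv_mem (h.nW x.2)) w).1 w.2
        rwa [inv_inv] at this⟩
      left_inv := fun w => Subtype.ext (by simp [mul_assoc])
      right_inv := fun w => Subtype.ext (by simp [mul_assoc])
      map_mul' := fun a b => Subtype.ext (by simp [mul_assoc]) }
  map_one' := by ext w; simp
  map_mul' x y := by ext w; simp [mul_assoc]

theorem cW_apply (h : IsSec X W Y) (x : X) (w : W) : ((h.cW x w : W) : G) = (x : G) * w * (x : G)⁻¹ := rfl

theorem cW_map (h : IsSec X W Y) (x : X) :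
    (Y.subgroupOf W).map (h.cW x).toMonoidHom = Y.subgroupOf W := by
  have key : ∀ (x : X) (w : W), w ∈ Y.subgroupOf W → h.cW x w ∈ Y.subgroupOf W := by
    intro x w hw
    exact (mem_normalizer_iff.1 (h.nY x.2) w).1 hw
  ext w
  constructor
  · rintro ⟨y, hy, rfl⟩
    exact key x y hy
  · intro hw
    refine ⟨h.cW x⁻¹ w, key x⁻¹ w hw, ?_⟩
    show h.cW x (h.cW x⁻¹ w) = w
    rw [← MulAut.mul_apply, ← map_mul, mul_inv_cancel, map_one, MulAut.one_apply]

/-- the action of `x` on `W/Y` -/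
noncomputable def au (h : IsSec X W Y) (x : X) : MulAut h.M :=
  haveI := h.nrm
  (QuotientGroup.congr (Y.subgroupOf W) (Y.subgroupOf W) (h.cW x) (h.cW_map x) :
    (W ⧸ Y.subgroupOf W) ≃* (W ⧸ Y.subgroupOf W))

theorem au_pr (h : IsSec X W Y) (x : X) (w : W) : h.au x (h.pr w) = h.pr (h.cW x w) := rfl

/-- the action on `W/Y` -/
noncomputable def act (h : IsSec X W Y) : X →* MulAut h.M where
  toFun x := h.au x
  map_one' := by
    refine MulEquiv.ext fun v => ?_
    obtain ⟨w, rfl⟩ := h.pr_surj v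
    rw [h.au_pr, map_one]; rfl
  map_mul' x y := by
    refine MulEquiv.ext fun v => ?_
    obtain ⟨w, rfl⟩ := h.pr_surj v
    rw [MulAut.mul_apply, h.au_pr, h.au_pr, h.au_pr, map_mul]; rfl

theorem act_pr (h : IsSec X W Y) (x : X) (w : W) : h.act x (h.pr w) = h.pr (h.cW x w) := rfl

theorem act_pr_eq (h : IsSec X W Y) (x : X) (w : W) :
    h.act x (h.pr w) = h.pr w ↔ (x : G) * w * (x : G)⁻¹ * (w : G)⁻¹ ∈ Y := by
  rw [h.act_pr, ← mul_inv_eq_one, ← map_inv, ← map_mul, h.pr_eq_one]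
  rfl

theorem act_eq_one (h : IsSec X W Y) (x : X) :
    h.act x = 1 ↔ ∀ w ∈ W, (x : G) * w * (x : G)⁻¹ * w⁻¹ ∈ Y := by
  constructor
  · intro h1 w hw
    have h2 := (h.act_pr_eq x ⟨w, hw⟩).1 (by rw [h1]; rfl)
    exact h2
  · intro h1
    refine MulEquiv.ext fun v => ?_
    obtain ⟨w, rfl⟩ := h.pr_surj v
    rw [MulAut.one_apply]
    exact (h.act_pr_eq x w).2 (h1 w w.2)

/-- the image of a subgroup -/
noncomputable def sub (h : IsSec X W Y) (F : Subgroup G) : Subgroup h.M := (F.subgroupOf W).map h.pr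

theorem mem_sub (h : IsSec X W Y) {F : Subgroup G} {v : h.M} : v ∈ h.sub F ↔ ∃ w : W, (w : G) ∈ F ∧ h.pr w = v :=
  Iff.rfl

theorem pr_mem_sub (h : IsSec X W Y) {F : Subgroup G} (hY : Y ≤ F) {w : W} : h.pr w ∈ h.sub F ↔ (w : G) ∈ F := by
  constructor
  · rintro ⟨w', hw', he⟩
    have h1 : h.pr (w'⁻¹ * w) = 1 := by rw [map_mul, map_inv, he, inv_mul_cancel]
    have h2 := hY (h.pr_eq_one.1 h1)
    have h3 := mul_mem (show (w' : G) ∈ F from hw') h2
    have e : (w' : G) * ((w'⁻¹ * w : W) : G) = w := by simp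
    rwa [e] at h3
  · intro hw
    exact ⟨w, hw, rfl⟩

/-- `|F/Y|` -/
theorem card_sub (h : IsSec X W Y) {F : Subgroup G} (hYF : Y ≤ F) (hFW : F ≤ W) :
    Nat.card (h.sub F) * Nat.card Y = Nat.card F := by
  let f : F →* h.M := h.pr.comp (inclusion hFW)
  have h1 : f.range = h.sub F := by
    ext v
    constructor
    · rintro ⟨x, rfl⟩
      exact ⟨inclusion hFW x, x.2, rfl⟩
    · rintro ⟨w, hw, rfl⟩
      exact ⟨⟨w, hw⟩, rfl⟩
  have h2 : f.ker = Y.subgroupOf F := by
    ext x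
    rw [MonoidHom.mem_ker]
    exact h.pr_eq_one
  have h3 := f.ker.card_mul_index
  rw [index_ker, h1, h2] at h3
  rw [← h3, mul_comm]
  congr 1
  exact (Nat.card_congr (subgroupOfEquivOfLe hYF).toEquiv).symm

theorem mem_fx (h : IsSec X W Y) (x : X) (w : W) : h.pr w ∈ fx h.act x ↔
    (x : G) * w * (x : G)⁻¹ * (w : G)⁻¹ ∈ Y := h.act_pr_eq x w

/-- `|W/Y : C_{W/Y}(A)| ≤ |W : C_W(A)|` -/
theorem index_CS_le [Finite G] (h : IsSec X W Y) {A : Subgroup X} {A' : Subgroup G} (hA : ∀ a ∈ A, (a : G) ∈ A') :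
    (CS h.act A).index ≤ (W ⊓ centralizer (A' : Set G)).relIndex W := by
  have h1 : (W ⊓ centralizer (A' : Set G)).subgroupOf W ≤ (CS h.act A).comap h.pr := by
    intro w hw a ha
    have hw' : (w : G) ∈ W ⊓ centralizer (A' : Set G) := hw
    have h2 : (a : G) * w = w * a := mem_centralizer_iff.1 hw'.2 a (hA a ha)
    refine (h.act_pr_eq a w).2 ?_
    rw [h2]
    simp
  have h2 := index_comap_of_surjective (CS h.act A) h.pr_surj
  rw [← h2]
  exact Nat.le_of_dvd (Nat.pos_of_ne_zero index_ne_zero_of_finite) (index_dvd_of_le h1)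

end IsSec

end Cfsg.Agent.OddCyclic.Emp3.Sec
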