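import Mathlib
import Cfsg.Agent.OddCyclic.Emp3.Sec
import Cfsg.Agent.ZN.Facts

/-!
# (6.5): the piece is not of prime order modulo `O₂`
-/

set_option autoImplicit false
set_option linter.unusedSectionVars false

namespace Cfsg.Agent.OddCyclic.Emp3.Prime

open Subgroup Cfsg Cfsg.Agent.ZN Cfsg.Agent.OddCyclic.T1Module Cfsg.Agent.OddCyclic.FFBasic
open Cfsg.Agent Cfsg.Agent.OddCyclic.Emp3.Sec

section module

variable {X V : Type*} [Group X] [CommGroup V] [Finite V] (ρ : X →* MulAut V)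

/-- (6.5), module form: `w` inverts `y`, of odd order, on `V`; `F ≤ C_V(w)`, `F ∩ C_V(y) = 1` -/
theorem card_le {w y : X} (hy : Odd (orderOf y)) (h : ρ (w * y * w⁻¹) = ρ y⁻¹) {F : Subgroup V}
    (hF : F ≤ fx ρ w) (hF1 : F ⊓ fx ρ y = ⊥) : Nat.card F ≤ (fx ρ w).index := by
  have h1 : fx ρ w ⊓ fx ρ (y * w * y⁻¹) ≤ fx ρ y := by
    intro v hv
    apply fx_of_sq ρ hy
    have h3 : ρ (y * w * y⁻¹) = ρ (y * y * w) := by
      have h4 : ρ (w * y⁻¹) = ρ (y * w) := by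
        have e1 : w * y⁻¹ = (w * y * w⁻¹)⁻¹ * w := by group
        rw [e1, map_mul, map_inv, h, ← map_inv, inv_inv, ← map_mul]
      rw [mul_assoc, map_mul, h4, ← map_mul, mul_assoc]
    have h4 : ρ (y * w * y⁻¹) v = v := hv.2
    rw [h3] at h4
    have h5 := fx_mul ρ (show v ∈ fx ρ (y * y * w) from h4) (fx_inv ρ hv.1)
    rwa [mul_inv_cancel_right] at h5
  rw [← index_fx_conj ρ y w]
  have h2 : (fx ρ (y * w * y⁻¹)).relIndex F = Nat.card F := by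
    rw [← inf_relIndex_right]
    have h3 : fx ρ (y * w * y⁻¹) ⊓ F = ⊥ := by
      rw [← le_bot_iff, ← hF1]
      exact le_inf inf_le_right ((le_inf (inf_le_right.trans hF) inf_le_left).trans h1)
    rw [h3, relIndex_bot_left]
  rw [← h2, ← relIndex_top_right]
  exact relIndex_le_of_le_right le_top (by rw [relIndex_top_right]; exact index_ne_zero_of_finite)

end module

section group

variable {G : Type*} [Group G]

/-- the projection `N → N/O₂(N)` -/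
theorem mem_o2_iff {N : Subgroup G} (n : N) : (n : G) ∈ o2 N ↔ QuotientGroup.mk' (pCore 2 N) n = 1 := by
  rw [QuotientGroup.mk'_apply, QuotientGroup.eq_one_iff]
  constructor
  · rintro ⟨m, hm, he⟩
    rwa [← Subtype.ext he]
  · exact fun h => ⟨n, h, rfl⟩

/-- in a group of prime order modulo `O₂`, an element outside `O₂` and its consequences -/
theorem mem_of_fix {N : Subgroup G} {r : ℕ} (hr : r.Prime) (hN : (pCore 2 N).index = r) {y : N}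
    (hy : (y : G) ∉ o2 N) (D : Subgroup N) (hD : pCore 2 N ≤ D) (hyD : y ∈ D) : D = ⊤ := by
  have h1 : D.index ∣ r := by
    rw [← hN]
    exact index_dvd_of_le hD
  rcases (Nat.dvd_prime hr).1 h1 with h2 | h2
  · exact index_eq_one.1 h2
  · exfalso
    apply hy
    have h3 : pCore 2 N = D := by
      have h4 := relIndex_mul_index hD
      rw [hN, h2] at h4
      have h5 : (pCore 2 N).relIndex D = 1 := Nat.eq_of_mul_eq_mul_right hr.pos (by rw [h4, one_mul])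
      exact le_antisymm hD (relIndex_eq_one.1 h5)
    rw [← h3] at hyD
    exact ⟨y, hyD, rfl⟩

theorem comm_of_prime {N : Subgroup G} {r : ℕ} (hr : r.Prime) (hN : (pCore 2 N).index = r) (m n : N) :
    m * n * m⁻¹ * n⁻¹ ∈ pCore 2 N := by
  have h1 : Nat.card (N ⧸ pCore 2 N) = r := hN
  have : Fact r.Prime := ⟨hr⟩
  have h2 : IsCyclic (N ⧸ pCore 2 N) := isCyclic_of_prime_card h1
  have h3 : ∀ a b : N ⧸ pCore 2 N, a * b = b * a := by
    obtain ⟨g, hg⟩ := h2.exists_generator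
    intro a b
    obtain ⟨i, rfl⟩ := hg a
    obtain ⟨j, rfl⟩ := hg b
    simp only
    rw [← zpow_add, ← zpow_add, add_comm]
  rw [← QuotientGroup.eq_one_iff]
  show QuotientGroup.mk' (pCore 2 N) _ = 1
  rw [map_mul, map_mul, map_mul, h3 (QuotientGroup.mk' (pCore 2 N) m), map_inv, map_inv, mul_inv_cancel_right,
    mul_inv_cancel]

/-- the elements of `N` fixed by `a` modulo `O₂(N)` -/
def fixd (N : Subgroup G) (a : G) : Subgroup N where
  carrier := {n | a * n * a⁻¹ * (n : G)⁻¹ ∈ o2 N}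
  mul_mem' := by
    intro m n hm hn
    have h1 : (m : G) * (a * n * a⁻¹ * (n : G)⁻¹) * (m : G)⁻¹ ∈ o2 N :=
      (mem_normalizer_iff.1 (le_normalizer_o2 N m.2) _).1 hn
    have e : a * ((m * n : N) : G) * a⁻¹ * ((m * n : N) : G)⁻¹ =
        (a * m * a⁻¹ * (m : G)⁻¹) * ((m : G) * (a * n * a⁻¹ * (n : G)⁻¹) * (m : G)⁻¹) := by
      push_cast
      group
    show _ ∈ o2 N
    rw [e]
    exact mul_mem hm h1
  one_mem' := by
    show a * ((1 : N) : G) * a⁻¹ * ((1 : N) : G)⁻¹ ∈ o2 N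
    have e : a * ((1 : N) : G) * a⁻¹ * ((1 : N) : G)⁻¹ = 1 := by simp
    rw [e]
    exact one_mem _
  inv_mem' := by
    intro m hm
    have h1 : (m : G)⁻¹ * (a * m * a⁻¹ * (m : G)⁻¹)⁻¹ * (m : G)⁻¹⁻¹ ∈ o2 N :=
      (mem_normalizer_iff.1 (le_normalizer_o2 N (inv_mem m.2)) _).1 (inv_mem hm)
    have e : a * ((m⁻¹ : N) : G) * a⁻¹ * ((m⁻¹ : N) : G)⁻¹ =
        (m : G)⁻¹ * (a * m * a⁻¹ * (m : G)⁻¹)⁻¹ * (m : G)⁻¹⁻¹ := by
      push_cast
      group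
    show _ ∈ o2 N
    rw [e]
    exact h1

/-- automorphisms of order two of a group of prime order -/
theorem inv_or {N : Subgroup G} {r : ℕ} (hr : r.Prime) (hN : (pCore 2 N).index = r) {a : G}
    (ha : a ∈ normalizer (N : Set G)) (ha2 : a * a = 1) :
    (∀ n ∈ N, a * n * a⁻¹ * n⁻¹ ∈ o2 N) ∨ ∀ n ∈ N, a * n * a⁻¹ * n ∈ o2 N := by
  have hai : a⁻¹ = a := inv_eq_of_mul_eq_one_left ha2
  -- `a` normalises `O₂(N)`
  have hO : ∀ n ∈ o2 N, a * n * a⁻¹ ∈ o2 N := fun n hn =>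
    (mem_normalizer_iff.1 (normalizer_le_normalizer_o2 N ha) n).1 hn
  have hNm : ∀ n ∈ N, a * n * a⁻¹ ∈ N := fun n hn => (mem_normalizer_iff.1 ha n).1 hn
  by_contra hcon
  push Not at hcon
  obtain ⟨⟨n, hn, hn1⟩, m, hm, hm1⟩ := hcon
  -- `u = m^a m` is fixed by `a`
  obtain ⟨m', hm'⟩ : ∃ m' : N, (m' : G) = a * m * a⁻¹ := ⟨⟨_, hNm m hm⟩, rfl⟩
  have hu : ((m' * ⟨m, hm⟩ : N) : G) ∉ o2 N := by
    rw [coe_mul, hm']
    exact hm1
  have hD := mem_of_fix hr hN hu (fixd N a) (by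
    intro x hx
    show _ ∈ o2 N
    have hx' : (x : G) ∈ o2 N := ⟨x, hx, rfl⟩
    exact mul_mem (hO _ hx') (inv_mem hx')) (by
    show _ ∈ o2 N
    have h1 := comm_of_prime hr hN ⟨m, hm⟩ m'
    have h2 : m * (m' : G) * m⁻¹ * (m' : G)⁻¹ ∈ o2 N := ⟨_, h1, rfl⟩
    have h3 : a * (m' : G) * a⁻¹ = m := by
      rw [hm']
      calc a * (a * m * a⁻¹) * a⁻¹ = (a * a) * m * (a * a)⁻¹ := by group
        _ = m := by rw [ha2]; group
    have e : a * ((m' * ⟨m, hm⟩ : N) : G) * a⁻¹ * ((m' * ⟨m, hm⟩ : N) : G)⁻¹ =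
        m * (m' : G) * m⁻¹ * (m' : G)⁻¹ := by
      rw [coe_mul]
      calc a * ((m' : G) * m) * a⁻¹ * ((m' : G) * m)⁻¹
          = (a * (m' : G) * a⁻¹) * (a * m * a⁻¹) * m⁻¹ * (m' : G)⁻¹ := by group
        _ = _ := by rw [h3, ← hm']
    rw [e]
    exact h2)
  apply hn1
  have h4 : (⟨n, hn⟩ : N) ∈ fixd N a := by rw [hD]; trivial
  exact h4

/-- subgroups centralising `F/Y` and normalised by `N` centralise `W/Y` -/
theorem comm_of_gen {N W Y F Q : Subgroup G} (hYW : Y ≤ W) (hcomm : ∀ a ∈ W, ∀ b ∈ W, a * b = b * a)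
    (hFW : F ≤ W) (hNW : N ≤ normalizer (W : Set G)) (hNY : N ≤ normalizer (Y : Set G))
    (hNQ : N ≤ normalizer (Q : Set G)) (hF : ∀ v ∈ F, ∀ s ∈ Q, s * v * s⁻¹ * v⁻¹ ∈ Y)
    (gen : ∀ X : Subgroup G, F ≤ X → N ≤ normalizer (X : Set G) → W ≤ X) :
    ∀ v ∈ W, ∀ s ∈ Q, s * v * s⁻¹ * v⁻¹ ∈ Y := by
  let D : Subgroup G :=
    { carrier := {v | v ∈ W ∧ ∀ s ∈ Q, s * v * s⁻¹ * v⁻¹ ∈ Y}
      mul_mem' := by
        rintro v w ⟨hv, hv'⟩ ⟨hw, hw'⟩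
        refine ⟨mul_mem hv hw, fun s hs => ?_⟩
        have e : s * (v * w) * s⁻¹ * (v * w)⁻¹ = (s * v * s⁻¹ * v⁻¹) * (s * w * s⁻¹ * w⁻¹) := by
          have h1 := hcomm v hv _ (hYW (hw' s hs))
          calc s * (v * w) * s⁻¹ * (v * w)⁻¹ = (s * v * s⁻¹ * v⁻¹) * (v * (s * w * s⁻¹ * w⁻¹)) * v⁻¹ := by group
            _ = _ := by rw [h1]; group
        rw [e]
        exact mul_mem (hv' s hs) (hw' s hs)
      one_mem' := ⟨one_mem _, fun s _ => by simp⟩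
      inv_mem' := by
        rintro v ⟨hv, hv'⟩
        refine ⟨inv_mem hv, fun s hs => ?_⟩
        have e : s * v⁻¹ * s⁻¹ * v⁻¹⁻¹ = (s * v * s⁻¹ * v⁻¹)⁻¹ := by
          have h1 := hcomm _ (inv_mem hv) _ (hYW (inv_mem (hv' s hs)))
          calc s * v⁻¹ * s⁻¹ * v⁻¹⁻¹ = v⁻¹ * (s * v * s⁻¹ * v⁻¹)⁻¹ * v := by group
            _ = _ := by rw [h1]; group
        rw [e]
        exact inv_mem (hv' s hs) }
  have hD : W ≤ D := by
    refine gen D (fun v hv => ⟨hFW hv, hF v hv⟩) ?_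
    have key : ∀ n ∈ N, ∀ v ∈ D, n * v * n⁻¹ ∈ D := by
      rintro n hn v ⟨hv, hv'⟩
      refine ⟨(mem_normalizer_iff.1 (hNW hn) v).1 hv, fun s hs => ?_⟩
      have h1 : n⁻¹ * s * n ∈ Q := by
        have := (mem_normalizer_iff.1 (inv_mem (hNQ hn)) s).1 hs
        rwa [inv_inv] at this
      have h2 := (mem_normalizer_iff.1 (hNY hn) _).1 (hv' _ h1)
      have e : n * ((n⁻¹ * s * n) * v * (n⁻¹ * s * n)⁻¹ * v⁻¹) * n⁻¹ =
          s * (n * v * n⁻¹) * s⁻¹ * (n * v * n⁻¹)⁻¹ := by group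
      rwa [e] at h2
    intro n hn
    rw [mem_normalizer_iff]
    refine fun v => ⟨key n hn v, fun hv => ?_⟩
    have h1 := key n⁻¹ (inv_mem hn) _ hv
    have e : n⁻¹ * (n * v * n⁻¹) * n⁻¹⁻¹ = v := by group
    rwa [e] at h1
  exact fun v hv s hs => (hD hv).2 s hs

/-- the data for (6.5) -/
structure PD (N W Y F A : Subgroup G) (f : ℕ) : Prop where
  W_comm : ∀ a ∈ W, ∀ b ∈ W, a * b = b * a
  W_sq : ∀ a ∈ W, a * a = 1
  YF : Y ≤ F
  FW : F ≤ W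
  NW : N ≤ normalizer (W : Set G)
  NY : N ≤ normalizer (Y : Set G)
  AW : A ≤ normalizer (W : Set G)
  AY : A ≤ normalizer (Y : Set G)
  AN : A ≤ normalizer (N : Set G)
  A_sq : ∀ a ∈ A, a * a = 1
  FA : ∀ v ∈ F, ∀ s ∈ A, s * v * s⁻¹ * v⁻¹ ∈ Y
  FO : ∀ v ∈ F, ∀ s ∈ o2 N, s * v * s⁻¹ * v⁻¹ ∈ Y
  gen : ∀ X : Subgroup G, F ≤ X → N ≤ normalizer (X : Set G) → W ≤ X
  card_F : Nat.card F = 2 ^ f * Nat.card Y
  fix : ∀ v ∈ F, (∀ n ∈ N, n * v * n⁻¹ * v⁻¹ ∈ Y) → v ∈ Y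

/-- (6.5), `|A : A ∩ Q| ≤ 2` -/
theorem relIndex_le_two {N A Q : Subgroup G} {r : ℕ} (hr : r.Prime) (hN : (pCore 2 N).index = r)
    (hAN : A ≤ normalizer (N : Set G)) (hA : ∀ a ∈ A, a * a = 1)
    (hQ : ∀ t ∈ A, (∀ n ∈ N, t * n * t⁻¹ * n⁻¹ ∈ o2 N) → t ∈ Q) : (A ⊓ Q).relIndex A ≤ 2 := by
  by_cases hle : A ≤ Q
  · rw [inf_eq_left.2 hle, relIndex_self]
    norm_num
  obtain ⟨b, hb, hbQ⟩ := SetLike.not_le_iff_exists.1 hle
  have hinv : ∀ t ∈ A, t ∉ Q → ∀ n ∈ N, t * n * t⁻¹ * n ∈ o2 N := by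
    intro t ht htQ
    rcases inv_or hr hN (hAN ht) (hA t ht) with h1 | h1
    · exact absurd (hQ t ht h1) htQ
    · exact h1
  have hAi : ∀ a ∈ A, a⁻¹ = a := fun a ha => inv_eq_of_mul_eq_one_left (hA a ha)
  have hprod : ∀ t ∈ A, t ∉ Q → t * b ∈ Q := by
    intro t ht htQ
    apply hQ _ (mul_mem ht hb)
    intro n hn
    have h1 := hinv b hb hbQ n hn
    have h2 := (mem_normalizer_iff.1 (normalizer_le_normalizer_o2 N (hAN ht)) _).1 h1
    have h3 := hinv t ht htQ n⁻¹ (inv_mem hn)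
    have e : t * b * n * (t * b)⁻¹ * n⁻¹ = (t * (b * n * b⁻¹ * n) * t⁻¹) * (t * n⁻¹ * t⁻¹ * n⁻¹) := by group
    rw [e]
    exact mul_mem h2 h3
  rw [relIndex]
  refine (index_eq_two_iff.2 ⟨⟨b, hb⟩, fun t => ?_⟩).le
  have e1 : t ∈ (A ⊓ Q).subgroupOf A ↔ (t : G) ∈ Q := ⟨fun h => h.2, fun h => ⟨t.2, h⟩⟩
  have e2 : t * ⟨b, hb⟩ ∈ (A ⊓ Q).subgroupOf A ↔ (t : G) * b ∈ Q :=
    ⟨fun h => h.2, fun h => ⟨mul_mem t.2 hb, h⟩⟩
  rw [e1, e2]
  by_cases ht : (t : G) ∈ Q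
  · refine Or.inr ⟨ht, fun h1 => hbQ ?_⟩
    have h2 := mul_mem (inv_mem ht) h1
    rwa [inv_mul_cancel_left] at h2
  · exact Or.inl ⟨hprod t t.2 ht, ht⟩

variable [Finite G]

/-- (6.5), final inequality -/
theorem card_le_index {N W Y F A : Subgroup G} {f r : ℕ} (h : PD N W Y F A f) (hr : r.Prime) (hr2 : r ≠ 2)
    (hN : (pCore 2 N).index = r) {w : G} (hw : w ∈ A) (hw1 : ¬ ∀ n ∈ N, w * n * w⁻¹ * n⁻¹ ∈ o2 N) :
    2 ^ f ≤ (W ⊓ centralizer (A : Set G)).relIndex W := by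
  have : Fact r.Prime := ⟨hr⟩
  have hYW := h.YF.trans h.FW
  obtain ⟨X, hX⟩ : ∃ X : Subgroup G, X = N ⊔ A := ⟨_, rfl⟩
  have hNX : N ≤ X := hX ▸ le_sup_left
  have hAX : A ≤ X := hX ▸ le_sup_right
  have s : IsSec X W Y := ⟨hX ▸ sup_le h.NW h.AW, hX ▸ sup_le h.NY h.AY, h.W_comm⟩
  -- an element of order `r`
  obtain ⟨y, hy⟩ : ∃ y : N, orderOf y = r := by
    apply exists_prime_orderOf_dvd_card'
    rw [← hN]
    exact index_dvd_card _
  have hyO : (y : G) ∉ o2 N := by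
    rintro ⟨y', hy', he⟩
    have he' : y' = y := Subtype.ext he
    subst he'
    have h1 : IsPGroup 2 (pCore 2 N) := Lib.Cores.pCore_isPGroup 2
    obtain ⟨k, hk⟩ := h1 ⟨y', hy'⟩
    have hk' : y' ^ 2 ^ k = 1 := congrArg Subtype.val hk
    have h2 := orderOf_dvd_of_pow_eq_one hk'
    rw [hy] at h2
    exact hr2 ((Nat.prime_dvd_prime_iff_eq hr Nat.prime_two).1 (hr.dvd_of_dvd_pow h2))
  -- `O₂(N)` is trivial on `W/Y`
  have hO := comm_of_gen hYW h.W_comm h.FW h.NW h.NY (le_normalizer_o2 N) h.FO h.gen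
  have hOX : o2 N ≤ X := (o2_le N).trans hNX
  have hO1 : ∀ q (hq : q ∈ o2 N), s.act ⟨q, hOX hq⟩ = 1 := fun q hq => (s.act_eq_one _).2 fun v hv => hO v hv q hq
  have hodd : Odd (orderOf (⟨(y : G), hNX y.2⟩ : X)) := by
    rw [orderOf_mk, orderOf_coe, hy]
    exact hr.odd_of_ne_two hr2
  -- `w` inverts `y`
  have hinv : s.act (⟨w, hAX hw⟩ * ⟨(y : G), hNX y.2⟩ * ⟨w, hAX hw⟩⁻¹) = s.act (⟨(y : G), hNX y.2⟩)⁻¹ := by
    have h1 : w * y * w⁻¹ * y ∈ o2 N := by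
      rcases inv_or hr hN (h.AN hw) (h.A_sq w hw) with h1 | h1
      · exact absurd h1 hw1
      · exact h1 y y.2
    have h2 := hO1 _ h1
    have e : (⟨w * y * w⁻¹ * y, hOX h1⟩ : X) = ⟨w, hAX hw⟩ * ⟨(y : G), hNX y.2⟩ * ⟨w, hAX hw⟩⁻¹ *
        ⟨(y : G), hNX y.2⟩ := rfl
    rw [e, map_mul] at h2
    rw [map_inv, ← mul_eq_one_iff_eq_inv]
    exact h2
  have hcard := card_le s.act hodd hinv (F := s.sub F) ?_ ?_
  · have h1 := s.card_sub h.YF h.FW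
    rw [h.card_F] at h1
    have h2 : Nat.card (s.sub F) = 2 ^ f := Nat.eq_of_mul_eq_mul_right Nat.card_pos h1
    rw [h2] at hcard
    refine hcard.trans ?_
    have h3 := s.index_CS_le (A := A.subgroupOf X) (A' := A) (fun a ha => ha)
    refine le_trans (Nat.le_of_dvd (Nat.pos_of_ne_zero index_ne_zero_of_finite) (index_dvd_of_le ?_)) h3
    intro v hv
    exact hv ⟨w, hAX hw⟩ hw
  · rintro v ⟨x, hx, rfl⟩
    exact (s.mem_fx _ x).2 (h.FA x hx w hw)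
  · rw [eq_bot_iff]
    rintro v ⟨⟨x, hx, rfl⟩, hv⟩
    rw [mem_bot, s.pr_eq_one]
    apply h.fix x hx
    -- the elements of `N` fixing `x` modulo `Y`
    let D : Subgroup N :=
      { carrier := {n | (n : G) * x * (n : G)⁻¹ * (x : G)⁻¹ ∈ Y}
        mul_mem' := by
          intro m n hm hn
          have h1 : (m : G) * ((n : G) * x * (n : G)⁻¹ * (x : G)⁻¹) * (m : G)⁻¹ ∈ Y :=
            (mem_normalizer_iff.1 (h.NY m.2) _).1 hn
          have e : ((m * n : N) : G) * x * ((m * n : N) : G)⁻¹ * (x : G)⁻¹ =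
              ((m : G) * ((n : G) * x * (n : G)⁻¹ * (x : G)⁻¹) * (m : G)⁻¹) *
              ((m : G) * x * (m : G)⁻¹ * (x : G)⁻¹) := by
            rw [coe_mul]
            group
          show _ ∈ Y
          rw [e]
          exact mul_mem h1 hm
        one_mem' := by
          show ((1 : N) : G) * x * ((1 : N) : G)⁻¹ * (x : G)⁻¹ ∈ Y
          have e : ((1 : N) : G) * x * ((1 : N) : G)⁻¹ * (x : G)⁻¹ = 1 := by simp
          rw [e]
          exact one_mem _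
        inv_mem' := by
          intro m hm
          have h1 : (m : G)⁻¹ * ((m : G) * x * (m : G)⁻¹ * (x : G)⁻¹)⁻¹ * (m : G)⁻¹⁻¹ ∈ Y :=
            (mem_normalizer_iff.1 (h.NY (inv_mem m.2)) _).1 (inv_mem hm)
          have e : ((m⁻¹ : N) : G) * x * ((m⁻¹ : N) : G)⁻¹ * (x : G)⁻¹ =
              (m : G)⁻¹ * ((m : G) * x * (m : G)⁻¹ * (x : G)⁻¹)⁻¹ * (m : G)⁻¹⁻¹ := by
            rw [coe_inv]
            group
          show _ ∈ Y
          rw [e]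
          exact h1 }
    have hD : D = ⊤ := by
      apply mem_of_fix hr hN hyO
      · intro n hn
        exact hO x x.2 n ⟨n, hn, rfl⟩
      · exact (s.mem_fx _ x).1 hv
    intro n hn
    have h1 : (⟨n, hn⟩ : N) ∈ D := by rw [hD]; trivial
    exact h1

/-- **(6.5)** -/
theorem false_of {N W Y F A Q : Subgroup G} {f r a a' c : ℕ} (h : PD N W Y F A f) (hr : r.Prime) (hr2 : r ≠ 2)
    (hN : (pCore 2 N).index = r) (hQ : ∀ t ∈ A, (∀ n ∈ N, t * n * t⁻¹ * n⁻¹ ∈ o2 N) → t ∈ Q)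
    (hf : 2 ≤ f) (card_A : (A ⊓ Q).relIndex A = 2 ^ a) (ha : 1 ≤ a) (ha' : a' ≤ a) (hc : c ≠ 0 → f ≤ a)
    (idx : (W ⊓ centralizer (A : Set G)).relIndex W ≤ 2 ^ (a' + c)) : False := by
  have h1 := relIndex_le_two hr hN h.AN h.A_sq hQ
  rw [card_A] at h1
  have ha1 : a = 1 := by
    by_contra hne
    have h2 : 2 ^ 2 ≤ 2 ^ a := Nat.pow_le_pow_right (by norm_num) (by omega)
    omega
  have hc0 : c = 0 := by
    by_contra h2
    have := hc h2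
    omega
  subst ha1 hc0
  obtain ⟨w, hw, hwQ⟩ : ∃ w ∈ A, w ∉ Q := by
    by_contra hcon
    push Not at hcon
    have h2 : A ⊓ Q = A := inf_eq_left.2 hcon
    rw [h2, relIndex_self] at card_A
    norm_num at card_A
  have h2 := card_le_index h hr hr2 hN hw (fun h3 => hwQ (hQ w hw h3))
  have h3 : 2 ^ 2 ≤ 2 ^ f := Nat.pow_le_pow_right (by norm_num) hf
  have h4 : 2 ^ (a' + 0) ≤ 2 ^ 1 := Nat.pow_le_pow_right (by norm_num) (by omega)
  omega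

end group

end Cfsg.Agent.OddCyclic.Emp3.Prime
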