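import Cfsg.Agent.OddCyclic.Emp3.Out
import Cfsg.Agent.ZN.Block
import Cfsg.Agent.Lib.Cores
import Cfsg.Agent.WeakTI.PslTwo

/-!
# (Empty), (III), section 3: (NOO) and (NOO')

`X = N A` finite, `N` normal, every normal subgroup of `N` a 2-group or `N`, `N` not a 2-group, `A` of exponent 2;
`ρ : X →* MulAut U`, `U` elementary abelian, `O₂(N)` trivial on `U`, `N` not trivial on `U` (`Nd ρ N A`).
`cq N = {x | [x, N] ≤ O₂(N)}`. Let (FFC) hold for all factor groups of `X`.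

* `noo` : `|A : A ∩ cq N| ≤ |U : C_U(A)|` or `|N : O₂(N)| = 168`;
* `noo'` : `|U : C_U(A)| ≤ |A : A ∩ cq N|`, `A ≰ cq N` ⟹ `N / O₂(N)` is of order 3, `SL₂(F)` (`|F| ≥ 4` even), or simple of
  order 168 (`NCases N`);
* `two_le` : `2 ≤ |U : C_U(A)|` if `A ≰ cq N`.
-/

set_option autoImplicit false
set_option linter.unusedSectionVars false

namespace Cfsg.Agent.OddCyclic.Emp3.Noo

open Subgroup
open Cfsg.Agent.ZN (o2)
open Cfsg.Agent.ZN.Block (o2_isPGroup le_o2 o2_le)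
open Cfsg.Agent.OddCyclic.T1Module Cfsg.Agent.OddCyclic.FFBasic Cfsg.Agent.OddCyclic.FFRed
  Cfsg.Agent.OddCyclic.FFSl2 Cfsg.Agent.OddCyclic.RedFFDefs Cfsg.Agent.OddCyclic.Emp3.Out

universe u

section basic

variable {X : Type u} [Group X]

/-- `{x | [x, N] ≤ O₂(N)}` -/
def cq (N : Subgroup X) : Subgroup X where
  carrier := {x | x ∈ normalizer (o2 N : Set X) ∧ ∀ n ∈ N, x * n * x⁻¹ * n⁻¹ ∈ o2 N}
  one_mem' := ⟨one_mem _, fun n _ => by
    have e : (1 : X) * n * 1⁻¹ * n⁻¹ = 1 := by group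
    rw [e]; exact one_mem _⟩
  mul_mem' := by
    rintro x y ⟨hx, hx'⟩ ⟨hy, hy'⟩
    refine ⟨mul_mem hx hy, fun n hn => ?_⟩
    have h1 := (mem_normalizer_iff.1 hx _).1 (hy' n hn)
    have e : x * y * n * (x * y)⁻¹ * n⁻¹ = x * (y * n * y⁻¹ * n⁻¹) * x⁻¹ * (x * n * x⁻¹ * n⁻¹) := by group
    rw [e]
    exact mul_mem h1 (hx' n hn)
  inv_mem' := by
    rintro x ⟨hx, hx'⟩
    refine ⟨inv_mem hx, fun n hn => ?_⟩
    have h1 := (mem_normalizer_iff.1 (inv_mem hx) _).1 (inv_mem (hx' n hn))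
    have e : x⁻¹ * n * x⁻¹⁻¹ * n⁻¹ = x⁻¹ * (x * n * x⁻¹ * n⁻¹)⁻¹ * x⁻¹⁻¹ := by group
    rw [e]
    exact h1

theorem mem_cq {N : Subgroup X} {x : X} :
    x ∈ cq N ↔ x ∈ normalizer (o2 N : Set X) ∧ ∀ n ∈ N, x * n * x⁻¹ * n⁻¹ ∈ o2 N := Iff.rfl

theorem normalizer_le_o2 (N : Subgroup X) : normalizer (N : Set X) ≤ normalizer (o2 N : Set X) := by
  have key : ∀ g ∈ normalizer (N : Set X), ∀ x ∈ o2 N, g * x * g⁻¹ ∈ o2 N := by
    intro g hg x hx
    have h1 : ∀ y ∈ (o2 N).map (MulAut.conj g).toMonoidHom, y ∈ o2 N := by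
      have h2 : (o2 N).map (MulAut.conj g).toMonoidHom ≤ o2 N := by
        refine le_o2 ((o2_isPGroup N).map _) ?_ ?_
        · rintro _ ⟨y, hy, rfl⟩
          exact (mem_normalizer_iff.1 hg y).1 (o2_le N hy)
        · refine ZN.Block.le_normalizer_of_forall ?_
          rintro n hn _ ⟨y, hy, rfl⟩
          have h3 : g⁻¹ * n * g ∈ N := by
            have := (mem_normalizer_iff.1 (inv_mem hg) n).1 hn
            rwa [inv_inv] at this
          refine ⟨(g⁻¹ * n * g) * y * (g⁻¹ * n * g)⁻¹, ZN.Block.o2_conj h3 hy, ?_⟩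
          show g * ((g⁻¹ * n * g) * y * (g⁻¹ * n * g)⁻¹) * g⁻¹ = n * (g * y * g⁻¹) * n⁻¹
          group
      exact fun y hy => h2 hy
    exact h1 _ ⟨x, hx, rfl⟩
  exact ZN.Block.le_normalizer_of_forall key

theorem mem_cq_of {N : Subgroup X} {x : X} (hx : x ∈ normalizer (N : Set X))
    (h : ∀ n ∈ N, x * n * x⁻¹ * n⁻¹ ∈ o2 N) : x ∈ cq N := ⟨normalizer_le_o2 N hx, h⟩

/-- the cases of (NOO') -/
def NCases (N : Subgroup X) : Prop :=
  (o2 N).relIndex N = 3 ∨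
    (∃ (F : Type) (_ : Field F) (_ : Fintype F), CharP F 2 ∧ 4 ≤ Fintype.card F ∧
      Nonempty ((N ⧸ pCore 2 N) ≃* Matrix.SpecialLinearGroup (Fin 2) F)) ∨
    (o2 N).relIndex N = 60 ∧ Nonempty ((N ⧸ pCore 2 N) ≃* alternatingGroup (Fin 5)) ∨
    (o2 N).relIndex N = 168 ∧ IsSimpleGroup (N ⧸ pCore 2 N)

end basic

/-- The setting of (NOO). -/
structure Nd {X : Type u} [Group X] {U : Type u} [CommGroup U] (ρ : X →* MulAut U) (N A : Subgroup X) : Prop where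
  sqU : ∀ v : U, v * v = 1
  norm : N.Normal
  sup : N ⊔ A = ⊤
  sq : ∀ a ∈ A, a * a = 1
  min : ∀ K ≤ N, N ≤ normalizer (K : Set X) → IsPGroup 2 K ∨ K = N
  n2 : ¬ IsPGroup 2 N
  triv : ∀ n ∈ o2 N, ∀ v, ρ n v = v
  ne : ∃ n ∈ N, ∃ v, ρ n v ≠ v

section main

variable {X : Type u} [Group X] [Finite X] {U : Type u} [CommGroup U] [Finite U] {ρ : X →* MulAut U}
  {N A : Subgroup X}

/-- a finite group which is not a 2-group has an element of odd prime order -/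
theorem exists_odd {K : Subgroup X} (h : ¬ IsPGroup 2 K) : ∃ p : ℕ, p.Prime ∧ p ≠ 2 ∧ ∃ x ∈ K, orderOf x = p := by
  by_contra hcon
  push Not at hcon
  apply h
  have h1 : ∀ p : ℕ, p.Prime → p ∣ Nat.card K → p = 2 := by
    intro p hp hd
    by_contra hp2
    have : Fact p.Prime := ⟨hp⟩
    obtain ⟨x, hx⟩ := exists_prime_orderOf_dvd_card' (G := K) p hd
    exact hcon p hp hp2 x x.2 (by rw [← hx, orderOf_coe])
  have h2 : Nat.card K ≠ 0 := Nat.card_pos.ne'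
  have h3 := Nat.eq_prime_pow_of_unique_prime_dvd h2 (fun {d} hd hdk => h1 d hd hdk)
  exact IsPGroup.of_card h3

theorem pow_mem_of_sup [N.Normal] (hs : N ⊔ A = ⊤) (hA : ∀ a ∈ A, a * a = 1) (x : X) : x * x ∈ N := by
  have hx : x ∈ N ⊔ A := by rw [hs]; exact Subgroup.mem_top x
  obtain ⟨n, hn, a, ha, rfl⟩ := mem_sup_of_normal_left.1 hx
  have e : n * a * (n * a) = n * (a * n * a⁻¹) * (a * a) := by group
  rw [e, hA a ha, mul_one]
  exact mul_mem hn (‹N.Normal›.conj_mem n hn a)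

namespace Nd

variable (h : Nd ρ N A)

include h

theorem odd_ne {K : Subgroup X} (hK : IsPGroup 2 K) {x : X} {p : ℕ} (hp : p.Prime) (hp2 : p ≠ 2)
    (hx : orderOf x = p) : x ∉ K := by
  intro hxK
  obtain ⟨k, hk⟩ := hK ⟨x, hxK⟩
  have h1 : x ^ 2 ^ k = 1 := congrArg Subtype.val hk
  have h2 : p ∣ 2 ^ k := hx ▸ orderOf_dvd_of_pow_eq_one h1
  exact hp2 ((Nat.prime_dvd_prime_iff_eq hp Nat.prime_two).1 (hp.dvd_of_dvd_pow h2))

/-- a normal subgroup of `X` not containing `N` meets `N` in a subgroup of `O₂(N)` -/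
theorem inf_le {K : Subgroup X} (hK : K.Normal) (hN : ¬ N ≤ K) : K ⊓ N ≤ o2 N := by
  have h1 : N ≤ normalizer ((K ⊓ N : Subgroup X) : Set X) := by
    refine ZN.Block.le_normalizer_of_forall ?_
    rintro n hn m ⟨hm, hm'⟩
    exact ⟨hK.conj_mem m hm n, N.mul_mem (N.mul_mem hn hm') (N.inv_mem hn)⟩
  rcases h.min _ inf_le_right h1 with h2 | h2
  · exact le_o2 h2 inf_le_right h1
  · exact absurd (inf_eq_right.1 h2) hN

theorem ker_inf_le : ρ.ker ⊓ N ≤ o2 N := by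
  refine h.inf_le inferInstance ?_
  intro h1
  obtain ⟨n, hn, v, hv⟩ := h.ne
  apply hv
  have h2 := h1 hn
  rw [MonoidHom.mem_ker] at h2
  rw [h2]; rfl

theorem o2_le_ker : o2 N ≤ ρ.ker := by
  intro n hn
  rw [MonoidHom.mem_ker]
  ext v
  exact h.triv n hn v

/-- the preimage of `O₂(X / C_X(U))` -/
def dd (ρ : X →* MulAut U) : Subgroup X := (pCore 2 (X ⧸ ρ.ker)).comap (QuotientGroup.mk' ρ.ker)

omit h in
theorem dd_normal : (dd ρ).Normal := by
  have h1 : (pCore 2 (X ⧸ ρ.ker)).Normal := Lib.Cores.pCore_normal 2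
  exact h1.comap _

omit h in
theorem ker_le_dd : ρ.ker ≤ dd ρ := by
  intro x hx
  show QuotientGroup.mk' ρ.ker x ∈ pCore 2 (X ⧸ ρ.ker)
  have h1 : QuotientGroup.mk' ρ.ker x = 1 := (QuotientGroup.eq_one_iff x).2 hx
  rw [h1]
  exact one_mem _

omit h in
theorem exists_pow_of_mem {x : X} (hx : x ∈ dd ρ) : ∃ k : ℕ, x ^ 2 ^ k ∈ ρ.ker := by
  obtain ⟨k, hk⟩ := Lib.Cores.pCore_isPGroup (G := X ⧸ ρ.ker) 2 ⟨_, hx⟩
  refine ⟨k, ?_⟩
  have h1 : (QuotientGroup.mk' ρ.ker x) ^ 2 ^ k = 1 := congrArg Subtype.val hk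
  rw [← map_pow] at h1
  exact (QuotientGroup.eq_one_iff _).1 h1

omit h in
/-- a normal subgroup which is a 2-group modulo the kernel lies in `dd` -/
theorem le_dd {K : Subgroup X} (hK : K.Normal) (h2 : ∀ x ∈ K, ∃ k : ℕ, x ^ 2 ^ k ∈ ρ.ker) : K ≤ dd ρ := by
  have h1 : (K.map (QuotientGroup.mk' ρ.ker)).Normal := hK.map _ (QuotientGroup.mk'_surjective _)
  have h3 : IsPGroup 2 (K.map (QuotientGroup.mk' ρ.ker)) := by
    rintro ⟨_, x, hx, rfl⟩
    obtain ⟨k, hk⟩ := h2 x hx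
    refine ⟨k, Subtype.ext ?_⟩
    show (QuotientGroup.mk' ρ.ker x) ^ 2 ^ k = 1
    rw [← map_pow]
    exact (QuotientGroup.eq_one_iff _).2 hk
  intro x hx
  exact Lib.Cores.le_pCore h1 h3 ⟨x, hx, rfl⟩

theorem not_le_dd : ¬ N ≤ dd ρ := by
  intro h1
  apply h.n2
  -- `N` is a 2-group modulo `ker ⊓ N ≤ O₂(N)`
  rintro ⟨n, hn⟩
  obtain ⟨k, hk⟩ := exists_pow_of_mem (h1 hn)
  obtain ⟨l, hl⟩ := o2_isPGroup N ⟨n ^ 2 ^ k, h.ker_inf_le ⟨hk, pow_mem hn _⟩⟩
  refine ⟨k + l, Subtype.ext ?_⟩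
  have h2 : (n ^ 2 ^ k) ^ 2 ^ l = 1 := congrArg Subtype.val hl
  show n ^ 2 ^ (k + l) = 1
  rw [pow_add, pow_mul]
  exact h2

theorem dd_inf_le : dd ρ ⊓ N ≤ o2 N := h.inf_le dd_normal h.not_le_dd

theorem dd_inf_eq : dd ρ ⊓ N = o2 N :=
  le_antisymm h.dd_inf_le (le_inf (h.o2_le_ker.trans ker_le_dd) (o2_le N))

theorem comm_mem {n d : X} (hn : n ∈ N) (hd : d ∈ dd ρ) : d * n * d⁻¹ * n⁻¹ ∈ o2 N := by
  refine h.dd_inf_le ⟨?_, ?_⟩
  · have e : d * n * d⁻¹ * n⁻¹ = d * (n * d⁻¹ * n⁻¹) := by group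
    rw [e]
    exact mul_mem hd ((dd_normal (ρ := ρ)).conj_mem _ (inv_mem hd) n)
  · exact N.mul_mem (h.norm.conj_mem n hn d) (N.inv_mem hn)

theorem dd_le_cq : dd ρ ≤ cq N := by
  intro d hd
  have hn := h.norm
  refine mem_cq_of ?_ fun n hn => h.comm_mem hn hd
  rw [normalizer_eq_top]
  exact mem_top d

/-- (P × Q): `N` acts nontrivially on `C_U(D)` -/
theorem exists_ne : ∃ n ∈ N, ∃ v ∈ CS ρ (dd ρ), ρ n v ≠ v := by
  obtain ⟨p, hp, hp2, x, hx, hxp⟩ := exists_odd h.n2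
  have hodd : Odd (orderOf x) := by rw [hxp]; exact hp.odd_of_ne_two hp2
  have h2g : IsPGroup 2 ((dd ρ).map ρ) := by
    rintro ⟨_, d, hd, rfl⟩
    obtain ⟨k, hk⟩ := exists_pow_of_mem hd
    refine ⟨k, Subtype.ext ?_⟩
    show (ρ d) ^ 2 ^ k = 1
    rw [← map_pow]
    exact hk
  have hne : ∃ v, (MonoidHom.id (MulAut U)) (ρ x) v ≠ v := by
    by_contra hcon
    push Not at hcon
    have h1 : x ∈ ρ.ker := by
      rw [MonoidHom.mem_ker]
      ext v
      exact hcon v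
    exact h.odd_ne (o2_isPGroup N) hp hp2 hxp (h.ker_inf_le ⟨h1, hx⟩)
  have hodd' : Odd (orderOf (ρ x)) := by
    have h1 : orderOf (ρ x) ∣ orderOf x := orderOf_map_dvd ρ x
    exact Odd.of_dvd_nat hodd h1
  have hcomm : ∀ a ∈ (dd ρ).map ρ, a * ρ x = ρ x * a := by
    rintro _ ⟨d, hd, rfl⟩
    have h1 := h.o2_le_ker (h.comm_mem hx hd)
    rw [MonoidHom.mem_ker, map_mul, map_mul, map_mul, map_inv, map_inv] at h1
    rw [mul_inv_eq_one, mul_inv_eq_iff_eq_mul] at h1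
    exact h1
  obtain ⟨v, hv, hv1⟩ := axb (ρ := MonoidHom.id (MulAut U)) h.sqU h2g hodd' hcomm hne
  refine ⟨x, hx, v, ?_, hv1⟩
  intro d hd
  exact hv (ρ d) ⟨d, hd, rfl⟩

omit h in
theorem stable (x : X) {v : U} (hv : v ∈ CS ρ (dd ρ)) : ρ x v ∈ CS ρ (dd ρ) := by
  refine CS_stable ?_ hv
  have := dd_normal (ρ := ρ)
  rw [normalizer_eq_top]
  exact mem_top x

/-- the action of `X` on `C_U(D)` -/
def act (ρ : X →* MulAut U) : X →* MulAut (CS ρ (dd ρ)) :=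
  (res ρ ⊤ (CS ρ (dd ρ)) (fun x _ _ hv => stable x hv)).comp (Subgroup.topEquiv (G := X)).symm.toMonoidHom

omit h in
theorem act_apply (x : X) (v : CS ρ (dd ρ)) : ((act ρ x v : CS ρ (dd ρ)) : U) = ρ x v := rfl

theorem act_ker : (act ρ).ker = dd ρ := by
  apply le_antisymm
  · refine le_dd inferInstance ?_
    intro x hx
    have hnN := h.norm
    have h1 : (act ρ).ker ⊓ N ≤ o2 N := by
      refine h.inf_le inferInstance ?_
      intro h2
      obtain ⟨n, hn, v, hv, hne⟩ := h.exists_ne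
      apply hne
      have h3 := h2 hn
      rw [MonoidHom.mem_ker] at h3
      have h4 := congrArg (fun f : MulAut (CS ρ (dd ρ)) => ((f ⟨v, hv⟩ : CS ρ (dd ρ)) : U)) h3
      exact h4
    have h2 : x ^ 2 ∈ (act ρ).ker ⊓ N := ⟨pow_mem hx 2, by rw [pow_two]; exact pow_mem_of_sup h.sup h.sq x⟩
    exact ⟨1, by rw [pow_one]; exact h.o2_le_ker (h1 h2)⟩
  · intro d hd
    rw [MonoidHom.mem_ker]
    ext v
    rw [act_apply]
    exact v.2 d hd

/-- the faithful action of `X / D` on `C_U(D)` -/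
def actQ [(dd ρ).Normal] (hk : (act ρ).ker = dd ρ) : X ⧸ dd ρ →* MulAut (CS ρ (dd ρ)) :=
  QuotientGroup.lift (dd ρ) (act ρ) (fun x hx => MonoidHom.mem_ker.1 (by rw [hk]; exact hx))

omit h in
theorem actQ_mk [(dd ρ).Normal] (hk : (act ρ).ker = dd ρ) (x : X) :
    actQ hk (QuotientGroup.mk' (dd ρ) x) = act ρ x := rfl

omit h in
theorem actQ_inj [(dd ρ).Normal] (hk : (act ρ).ker = dd ρ) : Function.Injective (actQ hk) := by
  rw [injective_iff_map_eq_one]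
  intro q hq
  obtain ⟨x, rfl⟩ := QuotientGroup.mk'_surjective (dd ρ) q
  rw [actQ_mk, ← MonoidHom.mem_ker, hk] at hq
  exact (QuotientGroup.eq_one_iff x).2 hq

omit h in
theorem core_eq_bot [(dd ρ).Normal] (E : Subgroup (X ⧸ dd ρ)) (hE : E.Normal) (h2 : IsPGroup 2 E) : E = ⊥ := by
  rw [eq_bot_iff]
  have h1 : E.comap (QuotientGroup.mk' (dd ρ)) ≤ dd ρ := by
    refine le_dd (hE.comap _) ?_
    intro x hx
    obtain ⟨k, hk⟩ := h2 ⟨_, hx⟩
    have h3 : (QuotientGroup.mk' (dd ρ) x) ^ 2 ^ k = 1 := congrArg Subtype.val hk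
    rw [← map_pow] at h3
    obtain ⟨l, hl⟩ := exists_pow_of_mem ((QuotientGroup.eq_one_iff _).1 h3)
    refine ⟨k + l, ?_⟩
    rw [pow_add, pow_mul]
    exact hl
  intro q hq
  obtain ⟨x, rfl⟩ := QuotientGroup.mk'_surjective (dd ρ) q
  rw [mem_bot]
  exact (QuotientGroup.eq_one_iff x).2 (h1 hq)

/-! ### the image of `N` and of `A` -/

variable [(dd ρ).Normal]

/-- normal subgroups of the image of `N` -/
theorem eq_of_normal {L : Subgroup (X ⧸ dd ρ)} (hL : L.Normal) (hL2 : ¬ IsPGroup 2 L)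
    (hLN : L ≤ N.map (QuotientGroup.mk' (dd ρ))) : L = N.map (QuotientGroup.mk' (dd ρ)) := by
  refine le_antisymm hLN ?_
  have h1 : ¬ (L.comap (QuotientGroup.mk' (dd ρ)) ⊓ N) ≤ dd ρ := by
    intro h2
    apply hL2
    have h3 : L = ⊥ := by
      rw [eq_bot_iff]
      intro q hq
      obtain ⟨n, hn, rfl⟩ := hLN hq
      rw [mem_bot]
      exact (QuotientGroup.eq_one_iff n).2 (h2 ⟨hq, hn⟩)
    rw [h3]; exact IsPGroup.of_bot
  have h2 : N ≤ L.comap (QuotientGroup.mk' (dd ρ)) := by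
    by_contra hcon
    have h3 := h.inf_le (hL.comap (QuotientGroup.mk' (dd ρ))) hcon
    exact h1 (h3.trans (h.o2_le_ker.trans ker_le_dd))
  rintro _ ⟨n, hn, rfl⟩
  exact h2 hn

/-- elements of odd order of `X / D` are in the image of `N` -/
theorem mem_map_of_odd {q : X ⧸ dd ρ} (hq : Odd (orderOf q)) : q ∈ N.map (QuotientGroup.mk' (dd ρ)) := by
  have hn := h.norm
  obtain ⟨x, rfl⟩ := QuotientGroup.mk'_surjective (dd ρ) q
  obtain ⟨k, hk⟩ := hq
  have h1 : (QuotientGroup.mk' (dd ρ) x * QuotientGroup.mk' (dd ρ) x) ^ (k + 1) = QuotientGroup.mk' (dd ρ) x := by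
    rw [← pow_two, ← pow_mul]
    have : 2 * (k + 1) = orderOf (QuotientGroup.mk' (dd ρ) x) + 1 := by omega
    rw [this, pow_succ, pow_orderOf_eq_one, one_mul]
  rw [← h1]
  refine pow_mem ?_ _
  exact ⟨x * x, pow_mem_of_sup h.sup h.sq x, by rw [map_mul]⟩

theorem relIndex_eq : Nat.card (N.map (QuotientGroup.mk' (dd ρ))) = (o2 N).relIndex N := by
  have h1 : Nat.card (N.map (QuotientGroup.mk' (dd ρ))) = (dd ρ).relIndex N := by
    have h2 := Subgroup.relIndex_ker N (QuotientGroup.mk' (dd ρ))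
    rw [QuotientGroup.ker_mk'] at h2
    exact h2.symm
  rw [h1, ← h.dd_inf_eq, inf_relIndex_right]

/-- `N / O₂(N)` is isomorphic to the image of `N` -/
theorem nonempty_equiv : Nonempty ((N ⧸ pCore 2 N) ≃* N.map (QuotientGroup.mk' (dd ρ))) := by
  have hn : (pCore 2 N).Normal := Lib.Cores.pCore_normal 2
  let f : N →* N.map (QuotientGroup.mk' (dd ρ)) :=
    ((QuotientGroup.mk' (dd ρ)).comp N.subtype).codRestrict _ (fun n => ⟨n, n.2, rfl⟩)
  have hf : Function.Surjective f := by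
    rintro ⟨_, n, hn, rfl⟩
    exact ⟨⟨n, hn⟩, rfl⟩
  have hker : f.ker = pCore 2 N := by
    ext n
    rw [MonoidHom.mem_ker]
    have h1 : f n = 1 ↔ (n : X) ∈ dd ρ := by
      rw [Subtype.ext_iff]
      exact QuotientGroup.eq_one_iff (n : X)
    rw [h1]
    constructor
    · intro h2
      have h3 : (n : X) ∈ o2 N := h.dd_inf_le ⟨h2, n.2⟩
      obtain ⟨m, hm, e⟩ := h3
      rwa [← Subtype.ext (show (m : X) = n from e)]
    · intro h2
      exact ker_le_dd (h.o2_le_ker ⟨n, h2, rfl⟩)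
  exact ⟨(QuotientGroup.quotientMulEquivOfEq hker.symm).trans (QuotientGroup.quotientKerEquivOfSurjective f hf)⟩

theorem sq_map : ∀ a ∈ A.map (QuotientGroup.mk' (dd ρ)), a * a = 1 := by
  rintro _ ⟨a, ha, rfl⟩
  rw [← map_mul, h.sq a ha, map_one]

theorem relIndex_le : (A ⊓ cq N).relIndex A ≤ Nat.card (A.map (QuotientGroup.mk' (dd ρ))) := by
  have h1 : Nat.card (A.map (QuotientGroup.mk' (dd ρ))) = (dd ρ).relIndex A := by
    have h2 := Subgroup.relIndex_ker A (QuotientGroup.mk' (dd ρ))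
    rw [QuotientGroup.ker_mk'] at h2
    exact h2.symm
  rw [h1, inf_relIndex_left]
  refine Nat.le_of_dvd (Nat.pos_of_ne_zero ?_) (relIndex_dvd_of_le_left A h.dd_le_cq)
  rw [Subgroup.relIndex]
  exact index_ne_zero_of_finite

omit h in
theorem CS_act (hk : (act ρ).ker = dd ρ) :
    CS (actQ hk) (A.map (QuotientGroup.mk' (dd ρ))) = (CS ρ A).subgroupOf (CS ρ (dd ρ)) := by
  ext v
  rw [mem_CS, mem_subgroupOf, mem_CS]
  constructor
  · intro h1 a ha
    have h2 := h1 _ ⟨a, ha, rfl⟩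
    rw [actQ_mk] at h2
    have h3 := congrArg Subtype.val h2
    rwa [act_apply] at h3
  · rintro h1 _ ⟨a, ha, rfl⟩
    rw [actQ_mk]
    apply Subtype.ext
    rw [act_apply]
    exact h1 a ha

omit h in
theorem index_CS_le (hk : (act ρ).ker = dd ρ) :
    (CS (actQ hk) (A.map (QuotientGroup.mk' (dd ρ)))).index ≤ (CS ρ A).index := by
  rw [CS_act]
  have h1 : (CS ρ A).relIndex (CS ρ (dd ρ)) ≤ (CS ρ A).relIndex ⊤ :=
    relIndex_le_of_le_right le_top (by rw [relIndex_top_right]; exact index_ne_zero_of_finite)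
  rwa [relIndex_top_right] at h1

theorem eq_of_simple {L : Subgroup (X ⧸ dd ρ)} (hL : L.Normal) (hs : IsSimpleGroup L) {x : X ⧸ dd ρ} (hx : x ∈ L)
    (hx1 : x ≠ 1) (hodd : Odd (orderOf x)) : L = N.map (QuotientGroup.mk' (dd ρ)) := by
  have hN : (N.map (QuotientGroup.mk' (dd ρ))).Normal := h.norm.map _ (QuotientGroup.mk'_surjective _)
  have hL2 : ¬ IsPGroup 2 L := by
    intro h2
    obtain ⟨k, hk⟩ := h2 ⟨x, hx⟩
    have h3 : x ^ 2 ^ k = 1 := congrArg Subtype.val hk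
    have h4 : orderOf x ∣ 2 ^ k := orderOf_dvd_of_pow_eq_one h3
    have h5 : Nat.Coprime (orderOf x) (2 ^ k) := Nat.Coprime.pow_right _ (Nat.coprime_two_right.2 hodd)
    exact hx1 (orderOf_eq_one_iff.1 (Nat.eq_one_of_dvd_coprimes h5 dvd_rfl h4))
  refine h.eq_of_normal hL hL2 ?_
  have h1 : ((N.map (QuotientGroup.mk' (dd ρ))).subgroupOf L).Normal := hN.subgroupOf L
  rcases hs.eq_bot_or_eq_top_of_normal _ h1 with h2 | h2
  · exfalso
    have h3 : (⟨x, hx⟩ : L) ∈ (N.map (QuotientGroup.mk' (dd ρ))).subgroupOf L :=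
      mem_subgroupOf.2 (h.mem_map_of_odd hodd)
    rw [h2, mem_bot] at h3
    exact hx1 (congrArg Subtype.val h3)
  · exact subgroupOf_eq_top.1 h2

omit h in
theorem exists_three {L : Subgroup (X ⧸ dd ρ)} (h3 : 3 ∣ Nat.card L) : ∃ x ∈ L, orderOf x = 3 := by
  have : Fact (Nat.Prime 3) := ⟨Nat.prime_three⟩
  obtain ⟨x, hx⟩ := exists_prime_orderOf_dvd_card' (G := L) 3 h3
  exact ⟨x, x.2, by rw [← hx, orderOf_coe]⟩

theorem eq_of_simple3 {L : Subgroup (X ⧸ dd ρ)} (hL : L.Normal) (hs : IsSimpleGroup L) (h3 : 3 ∣ Nat.card L) :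
    L = N.map (QuotientGroup.mk' (dd ρ)) := by
  obtain ⟨x, hx, hx3⟩ := exists_three h3
  refine h.eq_of_simple hL hs hx ?_ (by rw [hx3]; decide)
  rintro rfl
  rw [orderOf_one] at hx3
  omega

theorem isSimple_of {L : Subgroup (X ⧸ dd ρ)} (hs : IsSimpleGroup L)
    (hL : L = N.map (QuotientGroup.mk' (dd ρ))) : IsSimpleGroup (N ⧸ pCore 2 N) := by
  obtain ⟨e⟩ := h.nonempty_equiv
  subst hL
  exact e.isSimpleGroup

end Nd

omit [Finite X] in
theorem isSimple_sl {F : Type} [Field F] [Fintype F] [CharP F 2] (h4 : 4 ≤ Fintype.card F) :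
    IsSimpleGroup (Matrix.SpecialLinearGroup (Fin 2) F) := by
  have hs : IsSimpleGroup (Matrix.ProjectiveSpecialLinearGroup (Fin 2) F) :=
    TwoFusion.SLTwoFacts.isSimpleGroup_psl (by omega)
  obtain ⟨g⟩ := WeakTI.PslTwo.nonempty_equiv (F := F)
  exact g.isSimpleGroup

omit [Finite X] in
theorem three_dvd_sl {F : Type} [Field F] [Fintype F] [CharP F 2] :
    3 ∣ Nat.card (Matrix.SpecialLinearGroup (Fin 2) F) := by
  rw [Cfsg.Agent.ClassicalGeometry.PSL2Basic.card_SL2]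
  obtain ⟨n, hn⟩ : ∃ n : ℕ, Fintype.card F = 2 ^ n := by
    obtain ⟨n, -, hn⟩ := FiniteField.card F 2
    exact ⟨n, hn⟩
  rw [hn]
  refine Dvd.dvd.mul_left ?_ _
  have h1 : (2 ^ n) ^ 2 = 4 ^ n := by rw [← pow_mul, mul_comm, pow_mul]; norm_num
  rw [h1]
  have h2 := Nat.sub_dvd_pow_sub_pow 4 1 n
  rw [one_pow] at h2
  exact h2

/-- **(NOO)** -/
theorem noo (h : Nd ρ N A) (hF : ∀ (D : Subgroup X) [D.Normal], FFC (X ⧸ D)) :
    (A ⊓ cq N).relIndex A ≤ (CS ρ A).index ∨ ((o2 N).relIndex N = 168 ∧ IsSimpleGroup (N ⧸ pCore 2 N)) := by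
  by_contra hcon
  push Not at hcon
  obtain ⟨hlt, h168⟩ := hcon
  have hD := Nd.dd_normal (ρ := ρ)
  have hk := h.act_ker
  have h1 := h.relIndex_le
  have h2 := Nd.index_CS_le (A := A) hk
  have hV : ∀ v : CS ρ (Nd.dd ρ), v * v = 1 := fun v => Subtype.ext (h.sqU v)
  obtain ⟨B, hB, hB1, hbo, hlt'⟩ := exists_bo_lt (ρ := Nd.actQ hk) h.sq_map (by omega)
  have hout := hF (Nd.dd ρ) _ hV (Nd.actQ hk) (Nd.actQ_inj hk) Nd.core_eq_bot B hbo hB1
  rcases out_le hV (Nd.actQ_inj hk) hbo hout with h3 | h3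
  · omega
  · obtain ⟨L, hL, -, hs, hc⟩ := h3
    have h4 := h.eq_of_simple3 hL hs (by rw [hc]; norm_num)
    refine h168 ?_ (h.isSimple_of hs h4)
    rw [← h.relIndex_eq, ← h4, hc]

/-- **(NOO')** -/
theorem noo' (h : Nd ρ N A) (hF : ∀ (D : Subgroup X) [D.Normal], FFC (X ⧸ D))
    (hle : (CS ρ A).index ≤ (A ⊓ cq N).relIndex A) (hA : ¬ A ≤ cq N) : NCases N := by
  have hD := Nd.dd_normal (ρ := ρ)
  have hk := h.act_ker
  have h1 := h.relIndex_le
  have h2 := Nd.index_CS_le (A := A) hk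
  have hV : ∀ v : CS ρ (Nd.dd ρ), v * v = 1 := fun v => Subtype.ext (h.sqU v)
  have hne : A.map (QuotientGroup.mk' (Nd.dd ρ)) ≠ ⊥ := by
    intro h3
    apply hA
    rw [Subgroup.map_eq_bot_iff, QuotientGroup.ker_mk'] at h3
    exact h3.trans h.dd_le_cq
  obtain ⟨B, hB, hB1, hbo⟩ := exists_bo (ρ := Nd.actQ hk) h.sq_map hne (by omega)
  have hout := hF (Nd.dd ρ) _ hV (Nd.actQ hk) (Nd.actQ_inj hk) Nd.core_eq_bot B hbo hB1
  rcases hout with h3 | h3 | h3 | h3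
  · obtain ⟨y, hy, hyn, -⟩ := h3
    left
    have hyN : y ∈ N.map (QuotientGroup.mk' (Nd.dd ρ)) := h.mem_map_of_odd (by rw [hy]; decide)
    have h4 : zpowers y = N.map (QuotientGroup.mk' (Nd.dd ρ)) := by
      refine h.eq_of_normal hyn ?_ (by rwa [zpowers_le])
      intro h5
      obtain ⟨k, hk5⟩ := h5 ⟨y, mem_zpowers y⟩
      have h6 : y ^ 2 ^ k = 1 := congrArg Subtype.val hk5
      have h7 : 3 ∣ 2 ^ k := hy ▸ orderOf_dvd_of_pow_eq_one h6
      have h8 := Nat.Prime.dvd_of_dvd_pow Nat.prime_three h7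
      omega
    rw [← h.relIndex_eq, ← h4, Nat.card_zpowers, hy]
  · obtain ⟨L, hL, -, F, _, _, hch, h4, ⟨e⟩, -⟩ := h3
    right; left
    have hs : IsSimpleGroup L := by
      have := isSimple_sl h4
      exact e.isSimpleGroup
    have h5 : L = N.map (QuotientGroup.mk' (Nd.dd ρ)) :=
      h.eq_of_simple3 hL hs (by rw [Nat.card_congr e.toEquiv]; exact three_dvd_sl)
    obtain ⟨g⟩ := h.nonempty_equiv
    subst h5
    exact ⟨F, inferInstance, inferInstance, hch, h4, ⟨g.trans e⟩⟩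
  · obtain ⟨K, -, e, hL, -⟩ := h3
    right; right; left
    obtain ⟨L, hLd⟩ : ∃ L, L = (((alternatingGroup (Fin 5)).comap e.toMonoidHom).map K.subtype) := ⟨_, rfl⟩
    rw [← hLd] at hL
    have e1 : ((alternatingGroup (Fin 5)).comap e.toMonoidHom) ≃* L := by
      rw [hLd]
      exact Subgroup.equivMapOfInjective _ K.subtype K.subtype_injective
    have e2 : ((alternatingGroup (Fin 5)).comap e.toMonoidHom) ≃* alternatingGroup (Fin 5) :=
      (e.subgroupMap _).trans (MulEquiv.subgroupCongr (Subgroup.map_comap_eq_self_of_surjective e.surjective _))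
    have e3 : L ≃* alternatingGroup (Fin 5) := e1.symm.trans e2
    have hs5 : IsSimpleGroup (alternatingGroup (Fin 5)) := alternatingGroup.isSimpleGroup (by simp)
    have hs : IsSimpleGroup L := e3.isSimpleGroup
    have hc5 : Nat.card (alternatingGroup (Fin 5)) = 60 := by
      rw [nat_card_alternatingGroup, Nat.card_eq_fintype_card, Fintype.card_fin]
      rfl
    have hc : Nat.card L = 60 := by rw [Nat.card_congr e3.toEquiv, hc5]
    have h5 : L = N.map (QuotientGroup.mk' (Nd.dd ρ)) := h.eq_of_simple3 hL hs (by rw [hc]; norm_num)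
    obtain ⟨g⟩ := h.nonempty_equiv
    refine ⟨by rw [← h.relIndex_eq, ← h5, hc], ?_⟩
    rw [← h5] at g
    exact ⟨g.trans e3⟩
  · obtain ⟨L, hL, -, hs, hc⟩ := h3
    right; right; right
    have h4 := h.eq_of_simple3 hL hs (by rw [hc]; norm_num)
    exact ⟨by rw [← h.relIndex_eq, ← h4, hc], h.isSimple_of hs h4⟩

/-- `A` moves `U` if `A ≰ cq N` -/
theorem two_le (h : Nd ρ N A) (hA : ¬ A ≤ cq N) : 2 ≤ (CS ρ A).index := by
  have h1 : (CS ρ A).index ≠ 1 := by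
    intro h1
    apply hA
    intro a ha
    apply h.dd_le_cq
    apply Nd.ker_le_dd
    rw [MonoidHom.mem_ker]
    ext v
    have h2 : v ∈ CS ρ A := by rw [index_eq_one.1 h1]; exact mem_top v
    exact h2 a ha
  have h2 : (CS ρ A).index ≠ 0 := index_ne_zero_of_finite
  omega

end main

end Cfsg.Agent.OddCyclic.Emp3.Noo
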