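import Mathlib
import Cfsg.Agent.OddCyclic.EmpBDefs
import Cfsg.Agent.OddCyclic.Emp3.Prime

/-!
# (Empty), part III, section 6: from the group level to the module level

`Bx S N W Y F A f a a' c` with `N/O₂(N)` simple nonabelian gives a faithful module: `H = NS/C_{NS}(W/Y)` acting on `V = W/Y`,
`L = ` image of `N`, `C_H(L) = 1` (`MD`, `exists_md`).
-/

set_option autoImplicit false
set_option linter.unusedSectionVars false

namespace Cfsg.Agent.OddCyclic.Emp3.Mod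

open Subgroup Cfsg Cfsg.Agent.ZN Cfsg.Agent.OddCyclic.T1Module Cfsg.Agent.OddCyclic.FFBasic
open Cfsg.Agent.OddCyclic.Emp3.Sec Cfsg.Agent.OddCyclic.EmpB Cfsg.Agent.OddCyclic.Emp3.Noo
open Cfsg.Agent.OddCyclic.Emp3.Prime (mem_o2_iff comm_of_gen)

universe u

/-- the module form of `Bx` -/
structure MD {H V : Type*} [Group H] [CommGroup V] (ρ : H →* MulAut V) (L : Subgroup H) (T : Sylow 2 H)
    (F : Subgroup V) (A : Subgroup H) (f a n : ℕ) : Prop where
  inj : Function.Injective ρ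
  sq : ∀ v : V, v * v = 1
  norm : L.Normal
  simple : IsSimpleGroup L
  top : L ⊔ T = ⊤
  cent : centralizer (L : Set H) = ⊥
  FT : F ≤ CS ρ (T : Subgroup H)
  FL : F ⊓ CS ρ L = ⊥
  gen : ∀ D : Subgroup V, F ≤ D → (∀ l ∈ L, ∀ v ∈ D, ρ l v ∈ D) → D = ⊤
  card_F : Nat.card F = 2 ^ f
  AT : A ≤ T
  A_sq : ∀ x ∈ A, x * x = 1
  card_A : Nat.card A = 2 ^ a
  idx : (CS ρ A).index ≤ 2 ^ n

section abs

variable {H V : Type*} [Group H] [Finite H] [CommGroup V] {ρ : H →* MulAut V} {L : Subgroup H} {T : Sylow 2 H}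
  {F : Subgroup V}

/-- `C_H(L) = 1` -/
theorem centralizer_eq_bot (hinj : Function.Injective ρ) (hL : L.Normal) (hs : IsSimpleGroup L)
    (hna : ∃ x y : L, x * y ≠ y * x) (htop : L ⊔ T = ⊤) (hFT : F ≤ CS ρ (T : Subgroup H))
    (hgen : ∀ D : Subgroup V, F ≤ D → (∀ l ∈ L, ∀ v ∈ D, ρ l v ∈ D) → D = ⊤) : centralizer (L : Set H) = ⊥ := by
  have : Fact (Nat.Prime 2) := ⟨Nat.prime_two⟩
  -- `C ∩ L = 1`
  have h1 : ∀ c ∈ centralizer (L : Set H), c ∈ L → c = 1 := by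
    intro c hc hcL
    have h2 : (⟨c, hcL⟩ : L) ∈ center L := by
      rw [mem_center_iff]
      intro g
      exact Subtype.ext (mem_centralizer_iff.1 hc g g.2)
    rcases hs.eq_bot_or_eq_top_of_normal (center L) inferInstance with h3 | h3
    · rw [h3, mem_bot] at h2
      exact congrArg Subtype.val h2
    · exfalso
      obtain ⟨x, y, hxy⟩ := hna
      apply hxy
      have h4 : y ∈ center L := by rw [h3]; trivial
      exact mem_center_iff.1 h4 x
  -- `C` is a normal 2-subgroup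
  have h2 : IsPGroup 2 (centralizer (L : Set H)) := by
    rintro ⟨c, hc⟩
    have h3 : c ∈ L ⊔ (T : Subgroup H) := by rw [htop]; trivial
    obtain ⟨l, hl, t, ht, hlt⟩ := mem_sup_of_normal_left.1 h3
    obtain ⟨k, hk⟩ := T.isPGroup' ⟨t, ht⟩
    have hk' : t ^ 2 ^ k = 1 := congrArg Subtype.val hk
    refine ⟨k, Subtype.ext (h1 _ (pow_mem hc _) ?_)⟩
    show c ^ 2 ^ k ∈ L
    rw [← QuotientGroup.eq_one_iff]
    show QuotientGroup.mk' L (c ^ 2 ^ k) = 1
    rw [map_pow, ← hlt, map_mul, show QuotientGroup.mk' L l = 1 from (QuotientGroup.eq_one_iff l).2 hl, one_mul,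
      ← map_pow, hk', map_one]
  have h3 : (centralizer (L : Set H)).Normal := inferInstance
  have h4 : centralizer (L : Set H) ≤ T := (Lib.Cores.le_pCore h3 h2).trans (Lib.Cores.pCore_le_sylow T)
  rw [eq_bot_iff]
  intro c hc
  rw [mem_bot]
  apply hinj
  rw [map_one]
  have h5 : fx ρ c = ⊤ := by
    apply hgen
    · intro v hv
      exact hFT hv c (h4 hc)
    · intro l hl v hv
      have h6 : l * c = c * l := mem_centralizer_iff.1 hc l hl
      show ρ c (ρ l v) = ρ l v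
      rw [← MulAut.mul_apply, ← map_mul, ← h6, map_mul, MulAut.mul_apply]
      congr 1
  refine MulEquiv.ext fun v => ?_
  have h6 : v ∈ fx ρ c := by rw [h5]; trivial
  exact h6

end abs

variable {G : Type u} [Group G] [Finite G]

/-- an `N`-invariant condition on `N` with `N/O₂(N)` simple -/
theorem mem_o2_of_normal {N : Subgroup G} (hs : IsSimpleGroup (N ⧸ pCore 2 N)) {D : Subgroup N} (hD : D.Normal)
    (hO : pCore 2 N ≤ D) (hne : D ≠ ⊤) : D = pCore 2 N := by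
  have hn := Lib.Cores.pCore_normal (G := N) 2
  have h1 : (D.map (QuotientGroup.mk' (pCore 2 N))).Normal := hD.map _ (QuotientGroup.mk'_surjective _)
  have h2 : (D.map (QuotientGroup.mk' (pCore 2 N))).comap (QuotientGroup.mk' (pCore 2 N)) = D := by
    rw [comap_map_eq, QuotientGroup.ker_mk', sup_eq_left.2 hO]
  rcases hs.eq_bot_or_eq_top_of_normal _ h1 with h3 | h3
  · rw [h3, MonoidHom.comap_bot, QuotientGroup.ker_mk'] at h2
    exact h2.symm
  · rw [h3, comap_top] at h2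
    exact absurd h2.symm hne

theorem exists_md {S : Sylow 2 G} {N W Y F A : Subgroup G} {f a a' c : ℕ} (b : Bx0 S N W Y F A f a a' c)
    (FS : ∀ s ∈ (S : Subgroup G), ∀ v ∈ F, s * v * s⁻¹ * v⁻¹ ∈ Y) (hs : IsSimpleGroup (N ⧸ pCore 2 N))
    (hna : ∃ x y : N ⧸ pCore 2 N, x * y ≠ y * x) :
    ∃ (H V : Type u) (_ : Group H) (_ : Finite H) (_ : CommGroup V) (_ : Finite V) (ρ : H →* MulAut V)
      (L : Subgroup H) (T : Sylow 2 H) (F' : Subgroup V) (A' : Subgroup H),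
      MD ρ L T F' A' f a (a' + c) ∧ Nonempty (L ≃* N ⧸ pCore 2 N) := by
  have : Fact (Nat.Prime 2) := ⟨Nat.prime_two⟩
  have hYW := b.YF.trans b.FW
  have hNY : N ≤ normalizer (Y : Set G) := b.NY.trans (centralizer_le_normalizer _)
  obtain ⟨X, hX⟩ : ∃ X : Subgroup G, X = N ⊔ S := ⟨_, rfl⟩
  have hNX : N ≤ X := hX ▸ le_sup_left
  have hSX : (S : Subgroup G) ≤ X := hX ▸ le_sup_right
  have s : IsSec X W Y := ⟨hX ▸ sup_le b.NW b.SW, hX ▸ sup_le hNY b.SY, b.W_comm⟩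
  -- `O₂(N)` is trivial on `W/Y`
  have hO := comm_of_gen hYW b.W_comm b.FW b.NW hNY (le_normalizer_o2 N) (fun v hv t ht => b.FQ t ht v hv) b.gen
  obtain ⟨π, hπ⟩ : ∃ π : X →* s.act.range, π = s.act.rangeRestrict := ⟨_, rfl⟩
  have hπs : Function.Surjective π := hπ ▸ s.act.rangeRestrict_surjective
  have hπ1 : ∀ x : X, π x = 1 ↔ s.act x = 1 := by
    intro x
    rw [hπ]
    constructor
    · intro h
      exact congrArg Subtype.val h
    · intro h
      exact Subtype.ext h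
  obtain ⟨ρ, hρ⟩ : ∃ ρ : s.act.range →* MulAut s.M, ρ = s.act.range.subtype := ⟨_, rfl⟩
  have hρπ : ∀ x : X, ρ (π x) = s.act x := fun x => by rw [hρ, hπ]; rfl
  have hinj : Function.Injective ρ := hρ ▸ s.act.range.subtype_injective
  -- the action of `N`
  obtain ⟨φ, hφ⟩ : ∃ φ : N →* s.act.range, φ = π.comp (inclusion hNX) := ⟨_, rfl⟩
  have hφ' : ∀ n : N, φ n = π ⟨n, hNX n.2⟩ := fun n => by rw [hφ]; rfl
  have hφact : ∀ n : N, φ n = 1 ↔ ∀ w ∈ W, (n : G) * w * (n : G)⁻¹ * w⁻¹ ∈ Y := by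
    intro n
    rw [hφ', hπ1, s.act_eq_one]
  have hker : φ.ker = pCore 2 N := by
    refine mem_o2_of_normal hs inferInstance ?_ ?_
    · intro n hn
      rw [MonoidHom.mem_ker, hφact]
      exact fun w hw => hO w hw n ⟨n, hn, rfl⟩
    · intro h1
      have h2 : F ≤ Y := by
        intro v hv
        apply b.fix v hv
        intro n hn
        have h3 : (⟨n, hn⟩ : N) ∈ φ.ker := by rw [h1]; trivial
        exact (hφact _).1 h3 v (b.FW hv)
      have h3 := b.card_F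
      rw [le_antisymm h2 b.YF] at h3
      have h4 : 0 < Nat.card Y := Nat.card_pos
      have h5 : 2 ^ 1 < 2 ^ f := Nat.pow_lt_pow_right (by norm_num) (lt_of_lt_of_le one_lt_two b.f_two)
      nlinarith
  have hNn : (N.subgroupOf X).Normal := by
    refine normal_subgroupOf_of_le_normalizer ?_
    rw [hX]
    exact sup_le le_normalizer b.nN
  have hrange : φ.range = (N.subgroupOf X).map π := by
    ext y
    constructor
    · rintro ⟨n, rfl⟩
      exact ⟨⟨n, hNX n.2⟩, n.2, (hφ' n).symm⟩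
    · rintro ⟨x, hx, rfl⟩
      exact ⟨⟨x, hx⟩, hφ' ⟨x, hx⟩⟩
  have hLn : φ.range.Normal := by
    rw [hrange]
    exact hNn.map π hπs
  have hn := Lib.Cores.pCore_normal (G := N) 2
  let e : (N ⧸ pCore 2 N) ≃* φ.range :=
    (QuotientGroup.quotientMulEquivOfEq hker.symm).trans (QuotientGroup.quotientKerEquivRange φ)
  have hLs : IsSimpleGroup φ.range := e.symm.isSimpleGroup
  have hLna : ∃ x y : φ.range, x * y ≠ y * x := by
    obtain ⟨x, y, hxy⟩ := hna
    refine ⟨e x, e y, fun h1 => hxy (e.injective ?_)⟩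
    rw [map_mul, map_mul, h1]
  -- the Sylow subgroup
  obtain ⟨T, hT⟩ : ∃ T : Sylow 2 s.act.range, (T : Subgroup s.act.range) = ((S : Subgroup G).subgroupOf X).map π :=
    ⟨(S.subtype hSX).mapSurjective hπs, rfl⟩
  have htop : φ.range ⊔ T = ⊤ := by
    rw [hrange, hT, ← Subgroup.map_sup, ← subgroupOf_sup hNX hSX, ← hX, subgroupOf_self, ← MonoidHom.range_eq_map]
    exact MonoidHom.range_eq_top.2 hπs
  have hFT : s.sub F ≤ CS ρ (T : Subgroup s.act.range) := by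
    rintro v ⟨w, hw, rfl⟩ t ht
    rw [hT] at ht
    obtain ⟨x, hx, rfl⟩ := ht
    rw [hρπ]
    exact (s.mem_fx x w).2 (FS x hx w hw)
  have hgen : ∀ D : Subgroup s.M, s.sub F ≤ D → (∀ l ∈ φ.range, ∀ v ∈ D, ρ l v ∈ D) → D = ⊤ := by
    intro D hFD hLD
    obtain ⟨D', hD'⟩ : ∃ D' : Subgroup G, D' = (D.comap s.pr).map W.subtype := ⟨_, rfl⟩
    have hmem : ∀ (w : G) (hw : w ∈ W), w ∈ D' ↔ s.pr ⟨w, hw⟩ ∈ D := by
      intro w hw
      rw [hD']
      constructor
      · rintro ⟨w', hw', he⟩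
        have : w' = ⟨w, hw⟩ := Subtype.ext he
        subst this
        exact hw'
      · intro h1
        exact ⟨⟨w, hw⟩, h1, rfl⟩
    have hD'W : D' ≤ W := hD' ▸ map_subtype_le _
    have key : ∀ n ∈ N, ∀ w ∈ D', n * w * n⁻¹ ∈ D' := by
      intro n hn w hw
      have hwW := hD'W hw
      have h1 : n * w * n⁻¹ ∈ W := (mem_normalizer_iff.1 (b.NW hn) w).1 hwW
      rw [hmem _ h1]
      have h2 := hLD _ ⟨⟨n, hn⟩, rfl⟩ _ ((hmem w hwW).1 hw)
      rw [hφ', hρπ, s.act_pr] at h2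
      exact h2
    have h1 : W ≤ D' := by
      refine b.gen D' ?_ ?_
      · intro v hv
        rw [hmem v (b.FW hv)]
        exact hFD ⟨⟨v, b.FW hv⟩, hv, rfl⟩
      · intro n hn
        rw [mem_normalizer_iff]
        refine fun v => ⟨key n hn v, fun hv => ?_⟩
        have h1 := key n⁻¹ (inv_mem hn) _ hv
        have e : n⁻¹ * (n * v * n⁻¹) * n⁻¹⁻¹ = v := by group
        rwa [e] at h1
    rw [eq_top_iff]
    intro v _
    obtain ⟨w, rfl⟩ := s.pr_surj v
    exact (hmem w w.2).1 (h1 w.2)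
  have hcent := centralizer_eq_bot hinj hLn hLs hLna htop hFT hgen
  -- the kernel on `A`
  have hAX : A ≤ X := b.A_le.trans hSX
  obtain ⟨ψ, hψ⟩ : ∃ ψ : A →* s.act.range, ψ = π.comp (inclusion hAX) := ⟨_, rfl⟩
  have hψ' : ∀ x : A, ψ x = π ⟨x, hAX x.2⟩ := fun x => by rw [hψ]; rfl
  have hψr : ψ.range = (A.subgroupOf X).map π := by
    ext y
    constructor
    · rintro ⟨n, rfl⟩
      exact ⟨⟨n, hAX n.2⟩, n.2, (hψ' n).symm⟩
    · rintro ⟨x, hx, rfl⟩
      exact ⟨⟨x, hx⟩, hψ' ⟨x, hx⟩⟩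
  have hψk : ψ.ker = (A ⊓ cq N).subgroupOf A := by
    ext x
    have hcomm : ∀ n : N, (x : G) * n * (x : G)⁻¹ * (n : G)⁻¹ ∈ N := fun n =>
      mul_mem ((mem_normalizer_iff.1 (b.nN (b.A_le x.2)) n).1 n.2) (inv_mem n.2)
    have hφc : ∀ n : N, φ ⟨_, hcomm n⟩ = ψ x * φ n * (ψ x)⁻¹ * (φ n)⁻¹ := by
      intro n
      rw [hφ', hφ', hψ', ← map_mul, ← map_inv, ← map_mul, ← map_inv, ← map_mul]
      rfl
    rw [MonoidHom.mem_ker]
    constructor
    · intro h1
      refine ⟨x.2, normalizer_le_normalizer_o2 N (b.nN (b.A_le x.2)), fun n hn => ?_⟩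
      have h2 : (⟨_, hcomm ⟨n, hn⟩⟩ : N) ∈ φ.ker := by
        rw [MonoidHom.mem_ker, hφc, h1]
        group
      rw [hker] at h2
      exact ⟨_, h2, rfl⟩
    · rintro ⟨-, -, h1⟩
      have h2 : ψ x ∈ centralizer (φ.range : Set s.act.range) := by
        rw [mem_centralizer_iff]
        rintro _ ⟨n, rfl⟩
        have h3 : (⟨_, hcomm n⟩ : N) ∈ φ.ker := by
          rw [hker]
          obtain ⟨m, hm, he⟩ := h1 n n.2
          rwa [← show m = ⟨_, hcomm n⟩ from Subtype.ext he]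
        rw [MonoidHom.mem_ker, hφc, mul_inv_eq_one, mul_inv_eq_iff_eq_mul] at h3
        exact h3.symm
      rwa [hcent, mem_bot] at h2
  refine ⟨s.act.range, s.M, inferInstance, inferInstance, inferInstance, inferInstance, ρ, φ.range, T, s.sub F,
    ψ.range, ⟨hinj, s.sq fun w hw => by rw [b.W_sq w hw]; exact one_mem _, hLn, hLs, htop, hcent, hFT, ?_, hgen, ?_, ?_,
    ?_, ?_, ?_⟩, ⟨e.symm⟩⟩
  · -- `F ∩ C(L) = 1`
    rw [eq_bot_iff]
    rintro v ⟨⟨w, hw, rfl⟩, hv⟩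
    rw [mem_bot, s.pr_eq_one]
    apply b.fix w hw
    intro n hn
    have h1 := hv (φ ⟨n, hn⟩) ⟨⟨n, hn⟩, rfl⟩
    rw [hφ', hρπ] at h1
    exact (s.mem_fx _ w).1 h1
  · have h1 := s.card_sub b.YF b.FW
    rw [b.card_F] at h1
    exact Nat.eq_of_mul_eq_mul_right Nat.card_pos h1
  · rw [hψr, hT]
    exact map_mono fun x hx => b.A_le hx
  · rintro _ ⟨x, rfl⟩
    rw [← map_mul, show x * x = 1 from Subtype.ext (b.A_sq x x.2), map_one]
  · have h1 := index_ker ψ
    rw [hψk] at h1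
    rw [← h1]
    exact b.card_A
  · refine le_trans (le_trans ?_ (s.index_CS_le (A := A.subgroupOf X) (A' := A) fun x hx => hx)) b.idx
    apply Nat.le_of_dvd (Nat.pos_of_ne_zero index_ne_zero_of_finite)
    apply index_dvd_of_le
    intro v hv y hy
    rw [hψr] at hy
    obtain ⟨x, hx, rfl⟩ := hy
    rw [hρπ]
    exact hv x hx

end Cfsg.Agent.OddCyclic.Emp3.Mod
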