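import Mathlib
import Cfsg.Agent.OddCyclic.Emp3.Mod
import Cfsg.Agent.OddCyclic.Emp3.NooG
import Cfsg.Agent.OddCyclic.Emp3.End168
import Cfsg.Agent.OddCyclic.BTwoLin.SocleGen
import Cfsg.Agent.OddCyclic.KZJOne
import Cfsg.Agent.OddCyclic.PumpJOne

/-!
# (6.6): the piece is not `L₂(p)`, `p ≥ 7`, nor `J₁` modulo `O₂`
-/

set_option autoImplicit false
set_option linter.unusedSectionVars false

namespace Cfsg.Agent.OddCyclic.Emp3.Big

open Subgroup Cfsg Cfsg.Agent.ZN Cfsg.Agent.OddCyclic.T1Module Cfsg.Agent.OddCyclic.FFBasic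
open Cfsg.Agent.OddCyclic.Emp3.Sec Cfsg.Agent.OddCyclic.EmpB Cfsg.Agent.OddCyclic.Emp3.Noo
open Cfsg.Agent.OddCyclic.Emp3.Mod Cfsg.Agent.OddCyclic.BTwoLin
open Cfsg.Agent.OddCyclic.Emp3.Prime (mem_o2_iff comm_of_gen)
open Cfsg.Agent.SporRec.J1.Defs (Local)

universe u

/-- `PSL(2, 2^f) = SL(2, 2^f)` -/
theorem exists_sl {K : Type*} [Group K] (h : ∃ (F : Type) (_ : Field F) (_ : Fintype F) (f : ℕ), 2 ≤ f ∧
    Fintype.card F = 2 ^ f ∧ Nonempty (K ≃* Matrix.ProjectiveSpecialLinearGroup (Fin 2) F)) :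
    ∃ (E : Type) (_ : Field E) (_ : Fintype E), CharP E 2 ∧ 4 ≤ Fintype.card E ∧
      Nonempty (K ≃* Matrix.SpecialLinearGroup (Fin 2) E) := by
  obtain ⟨F, _, _, f, hf, hF, ⟨e⟩⟩ := h
  have hc : CharP F 2 := PumpMain.charP_two hF
  obtain ⟨k⟩ := WeakTI.PslTwo.nonempty_equiv (F := F)
  refine ⟨F, inferInstance, inferInstance, hc, ?_, ⟨e.trans k.symm⟩⟩
  rw [hF]
  exact (show 4 = 2 ^ 2 from rfl) ▸ Nat.pow_le_pow_right (by norm_num) hf

variable {G : Type u} [Group G] [Finite G]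

theorem relIndex_o2 (N : Subgroup G) : (o2 N).relIndex N = Nat.card (N ⧸ pCore 2 N) := by
  have h1 : (o2 N).subgroupOf N = pCore 2 N := comap_map_eq_self_of_injective N.subtype_injective _
  rw [relIndex, h1]
  rfl

/-- (6.6): the case `c = 0` -/
theorem false_of_small {S : Sylow 2 G} {N W Y F A : Subgroup G} {f a a' : ℕ} (b : Bx S N W Y F A f a a' 0)
    (hmin : ∀ K ≤ N, N ≤ normalizer (K : Set G) → IsPGroup 2 K ∨ K = N) (hn2 : ¬ IsPGroup 2 N)
    (hF : ∀ (D : Subgroup ↥(N ⊔ A)) [D.Normal], RedFFDefs.FFC (↥(N ⊔ A) ⧸ D))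
    (hs : IsSimpleGroup (N ⧸ pCore 2 N)) (hna : ∃ x y : N ⧸ pCore 2 N, x * y ≠ y * x)
    (hsl : ∀ (E : Type) [Field E] [Fintype E] [CharP E 2], 4 ≤ Fintype.card E →
      Nonempty (N ⧸ pCore 2 N ≃* Matrix.SpecialLinearGroup (Fin 2) E) → False) : False := by
  have hYW := b.YF.trans b.FW
  have hNY : N ≤ normalizer (Y : Set G) := b.NY.trans (centralizer_le_normalizer _)
  have hWY : W ≤ normalizer (Y : Set G) := by
    refine le_trans ?_ (centralizer_le_normalizer _)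
    intro w hw
    rw [mem_centralizer_iff]
    exact fun y hy => b.W_comm y (hYW hy) w hw
  have hO := comm_of_gen hYW b.W_comm b.FW b.NW hNY (le_normalizer_o2 N) (fun v hv t ht => b.FQ t ht v hv) b.gen
  have sit : NooG.Sit N A W Y :=
    { YW := hYW
      WY := hWY
      sqW := fun w hw => by rw [b.W_sq w hw]; exact one_mem _
      NW := b.NW
      NY := hNY
      AW := b.A_le.trans b.SW
      AY := b.A_le.trans b.SY
      AN := b.A_le.trans b.nN
      sq := b.A_sq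
      min := hmin
      n2 := hn2
      triv := fun n hn w hw => hO w hw n hn
      ne := by
        by_contra hcon
        push Not at hcon
        have h2 : F ≤ Y := fun v hv => b.fix v hv fun n hn => hcon n hn v (b.FW hv)
        have h3 := b.card_F
        rw [le_antisymm h2 b.YF] at h3
        have h4 : 0 < Nat.card Y := Nat.card_pos
        have h5 : 2 ^ 1 < 2 ^ f := Nat.pow_lt_pow_right (by norm_num) (lt_of_lt_of_le one_lt_two b.f_two)
        nlinarith }
  have hAQ : ¬ A ≤ cq N := by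
    intro h1
    have h2 := b.card_A
    rw [inf_eq_left.2 h1, relIndex_self] at h2
    have h3 : 2 ^ 1 ≤ 2 ^ a := Nat.pow_le_pow_right (by norm_num) b.a_pos
    omega
  have hle : (W ⊓ centralizer (A : Set G)).relIndex W ≤ 2 ^ a :=
    b.idx.trans (Nat.pow_le_pow_right (by norm_num) (by have := b.a'_le; omega))
  rcases sit.noo' hF (((NooG.relIndex_cw_le hWY).trans hle).trans b.card_A.ge) hAQ with
    h1 | ⟨E, iE, iE', hc, h4, he⟩ | ⟨-, ⟨e⟩⟩ | ⟨h1, -⟩
  · -- order 3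
    rw [relIndex_o2] at h1
    have h3 : Fact (Nat.Prime 3) := ⟨Nat.prime_three⟩
    have h2 : IsCyclic (N ⧸ pCore 2 N) := isCyclic_of_prime_card h1
    obtain ⟨x, y, hxy⟩ := hna
    obtain ⟨g, hg⟩ := h2.exists_generator
    obtain ⟨i, rfl⟩ := hg x
    obtain ⟨j, rfl⟩ := hg y
    apply hxy
    simp only
    rw [← zpow_add, ← zpow_add, add_comm]
  · exact hsl E h4 he
  · obtain ⟨E, iE, iE', hc, h4, ⟨e'⟩⟩ := exists_sl (K := alternatingGroup (Fin 5)) PumpJOne.nonempty_psl_four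
    exact hsl E h4 ⟨e.trans e'⟩
  · -- order 168
    rw [relIndex_o2] at h1
    obtain ⟨H, V, _, _, _, _, ρ, L, T, F', A', m, ⟨e⟩⟩ := exists_md b.toBx0 b.FS hs hna
    have h2 := End168.card_le_four m.sq ρ m.norm m.simple (by rw [Nat.card_congr e.toEquiv, h1]) m.cent T m.FT m.FL
      m.A_sq m.AT (by
        intro h3
        have h4 := m.card_A
        rw [h3, card_bot] at h4
        have h5 : 2 ^ 1 ≤ 2 ^ a := Nat.pow_le_pow_right (by norm_num) b.a_pos
        omega) (by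
        rw [m.card_A]
        exact m.idx.trans (Nat.pow_le_pow_right (by norm_num) (by have := b.a'_le; omega)))
    rw [m.card_F] at h2
    have h3 : 2 ^ 3 ≤ 2 ^ f := Nat.pow_le_pow_right (by norm_num) b.f3
    omega

/-- **(6.6)** -/
theorem false_of {S : Sylow 2 G} {N W Y F A : Subgroup G} {f a a' c : ℕ} (b : Bx S N W Y F A f a a' c)
    (hmin : ∀ K ≤ N, N ≤ normalizer (K : Set G) → IsPGroup 2 K ∨ K = N) (hn2 : ¬ IsPGroup 2 N)
    (hF : ∀ (D : Subgroup ↥(N ⊔ A)) [D.Normal], RedFFDefs.FFC (↥(N ⊔ A) ⧸ D))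
    (hs : IsSimpleGroup (N ⧸ pCore 2 N)) (hna : ∃ x y : N ⧸ pCore 2 N, x * y ≠ y * x)
    (hsl : ∀ (E : Type) [Field E] [Fintype E] [CharP E 2], 4 ≤ Fintype.card E →
      Nonempty (N ⧸ pCore 2 N ≃* Matrix.SpecialLinearGroup (Fin 2) E) → False)
    (hcase : (∃ (E : Type) (_ : Field E) (_ : Fintype E), (Fintype.card E).Prime ∧ 5 ≤ Fintype.card E ∧
      Nonempty (N ⧸ pCore 2 N ≃* Matrix.ProjectiveSpecialLinearGroup (Fin 2) E)) ∨
      (Local (N ⧸ pCore 2 N) ∧ ∃ k : N ⧸ pCore 2 N, orderOf k = 2)) : False := by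
  have hc0 : c = 0 := by
    by_contra hc
    have hfa := b.c_imp hc
    obtain ⟨H, V, _, _, _, _, ρ, L, T, F', A', m, ⟨e⟩⟩ := exists_md b.toBx0 b.FS hs hna
    have hLn := m.norm
    have fa : SocleGen.Fa L A' := ⟨m.A_sq, fun x hx hcom => by
      have h1 : x ∈ centralizer (L : Set H) := by
        rw [mem_centralizer_iff]
        exact fun l hl => (hcom l hl).symm
      rwa [m.cent, mem_bot] at h1⟩
    have hf3 := b.f3
    rcases hcase with ⟨E, _, _, hp, h5, ⟨g⟩⟩ | ⟨hJ, k, hk⟩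
    · have h2 : (2 : E) ≠ 0 := Cfsg.Agent.GH.L2Aut.two_ne_zero_of_odd
        (hp.odd_of_ne_two (by omega))
      have h1 := SocleGen.card_le_four (Cfsg.Agent.GH.L2Aut.Rep.ofEquiv h2 (e.trans g)) fa (by
        rwa [Nat.card_eq_fintype_card])
      rw [m.card_A] at h1
      have h3 : 2 ^ 3 ≤ 2 ^ a := Nat.pow_le_pow_right (by norm_num) (by omega)
      omega
    · have h1 := SocleGen.card_le_eight fa (CompCovers.local_of_equiv e hJ) (k := e.symm k) (by
        rw [e.symm.orderOf_eq, hk])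
      rw [m.card_A] at h1
      have ha : a ≤ 3 := by
        by_contra h2
        have h3 : 2 ^ 4 ≤ 2 ^ a := Nat.pow_le_pow_right (by norm_num) (by omega)
        omega
      refine b.seven ?_ (by omega)
      rw [relIndex_o2, KZJOne.card_eq hJ hk]
      norm_num
  subst hc0
  exact false_of_small b hmin hn2 hF hs hna hsl

end Cfsg.Agent.OddCyclic.Emp3.Big
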