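import Cfsg.Agent.OddCyclic.Emp3.NooG

/-!
# (Empty), (III), section 4: the two factors `W₁`, `W₂`

`two_factor` : `|W : cw W Y A| ≥ |W₁ : cw W₁ D A| |W₂ : cw W₂ D A|` if `W₁ W₂ ≤ W` abelian, `W₁ ∩ W₂ ≤ D ≤ W₁, W₂`, `Y ≤ D`.
`sq_le_index` : `a` inverts `x` of order 3, `F₀ ≤ C_V(a)`, `F₀ ∩ C_V(x) = 1`: `|F₀| ^ 2 ≤ |V : C_V(x)|`.
-/

set_option autoImplicit false
set_option linter.unusedSectionVars false

namespace Cfsg.Agent.OddCyclic.Emp3.Count

open Subgroup
open Cfsg.Agent.OddCyclic.T1Module Cfsg.Agent.OddCyclic.FFBasic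
open Cfsg.Agent.OddCyclic.Emp3.NooG

/-! ### two factors -/

theorem two_factor_aux {M : Type*} [CommGroup M] [Finite M] {C C₁ C₂ M₁ M₂ : Subgroup M} (h₁ : C ⊓ M₁ ≤ C₁)
    (h₂ : (C ⊔ M₁) ⊓ M₂ ≤ C₂) : C₁.relIndex M₁ * C₂.relIndex M₂ ≤ C.index := by
  have key : ∀ {A B D : Subgroup M}, A ⊓ D ≤ B → B.relIndex D ≤ A.relIndex D := by
    intro A B D h
    rw [← inf_relIndex_right A D]
    exact Nat.le_of_dvd (Nat.pos_of_ne_zero (by rw [Subgroup.relIndex]; exact index_ne_zero_of_finite))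
      (relIndex_dvd_of_le_left D h)
  have e1 : C.relIndex (C ⊔ M₁) * (C ⊔ M₁).index = C.index := relIndex_mul_index le_sup_left
  have e2 : C.relIndex (C ⊔ M₁) = C.relIndex M₁ := by
    rw [sup_comm]; exact relIndex_sup_right M₁ C
  have e3 : (C ⊔ M₁).relIndex M₂ ≤ (C ⊔ M₁).index := by
    have h1 : (C ⊔ M₁).relIndex M₂ ≤ (C ⊔ M₁).relIndex ⊤ :=
      relIndex_le_of_le_right le_top (by rw [relIndex_top_right]; exact index_ne_zero_of_finite)
    rwa [relIndex_top_right] at h1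
  rw [← e1, e2]
  exact Nat.mul_le_mul (key h₁) ((key h₂).trans e3)

variable {G : Type*} [Group G] [Finite G]

theorem two_factor {W W₁ W₂ D Y A : Subgroup G} (hW : ∀ v ∈ W, ∀ w ∈ W, v * w = w * v) (h₁ : W₁ ≤ W) (h₂ : W₂ ≤ W)
    (hD : W₁ ⊓ W₂ ≤ D) (hD₁ : D ≤ W₁) (hY : Y ≤ D) (hA₁ : A ≤ normalizer (W₁ : Set G))
    (hA₂ : A ≤ normalizer (W₂ : Set G)) :
    (cw W₁ D A).relIndex W₁ * (cw W₂ D A).relIndex W₂ ≤ (cw W Y A).relIndex W := by
  let cW : CommGroup W :=
    { (inferInstance : Group W) with mul_comm := fun x y => Subtype.ext (hW x x.2 y y.2) }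
  have hnD : W ≤ normalizer (D : Set G) := by
    refine ZN.Block.le_normalizer_of_forall ?_
    intro w hw d hd
    have e : w * d * w⁻¹ = d := by rw [hW w hw d (h₁ (hD₁ hd)), mul_inv_cancel_right]
    rw [e]; exact hd
  have hcC : cw W Y A ≤ W := cw_le
  have key := @two_factor_aux W cW _ ((cw W Y A).subgroupOf W) ((cw W₁ D A).subgroupOf W)
    ((cw W₂ D A).subgroupOf W) (W₁.subgroupOf W) (W₂.subgroupOf W) ?_ ?_
  · have e1 : @Subgroup.relIndex W cW.toGroup ((cw W₁ D A).subgroupOf W) (W₁.subgroupOf W) =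
        (cw W₁ D A).relIndex W₁ := relIndex_subgroupOf h₁
    have e2 : @Subgroup.relIndex W cW.toGroup ((cw W₂ D A).subgroupOf W) (W₂.subgroupOf W) =
        (cw W₂ D A).relIndex W₂ := relIndex_subgroupOf h₂
    have e3 : @Subgroup.index W cW.toGroup ((cw W Y A).subgroupOf W) = (cw W Y A).relIndex W := rfl
    rw [e1, e2, e3] at key
    exact key
  · rintro w ⟨hw, hw1⟩
    refine ⟨hw1, hnD w.2, fun a ha => hY ?_⟩
    exact (mem_cw.1 hw).2.2 a ha
  · intro w hw
    have hw2 : (w : G) ∈ W₂ := hw.2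
    obtain ⟨c, hc, m, hm, hcm⟩ := (@Subgroup.mem_sup W cW _ _ _).1 hw.1
    refine ⟨hw2, hnD w.2, fun a ha => hD ⟨?_, ?_⟩⟩
    · have hc' : a * (c : G) * a⁻¹ * (c : G)⁻¹ ∈ Y := (mem_cw.1 hc).2.2 a ha
      have hm' : (m : G) ∈ W₁ := hm
      have e0 : (w : G) = (c : G) * m := by rw [← hcm]; rfl
      have hYW : Y ≤ W := hY.trans (hD₁.trans h₁)
      have e : a * (w : G) * a⁻¹ * (w : G)⁻¹ =
          (a * (c : G) * a⁻¹ * (c : G)⁻¹) * ((c : G) * (a * m * a⁻¹ * (m : G)⁻¹) * (c : G)⁻¹) := by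
        rw [e0]; group
      show a * (w : G) * a⁻¹ * (w : G)⁻¹ ∈ W₁
      rw [e]
      have h5 : a * m * a⁻¹ * (m : G)⁻¹ ∈ W₁ :=
        mul_mem ((mem_normalizer_iff.1 (hA₁ ha) _).1 hm') (inv_mem hm')
      have h6 : (c : G) * (a * m * a⁻¹ * (m : G)⁻¹) * (c : G)⁻¹ = a * m * a⁻¹ * (m : G)⁻¹ := by
        rw [hW c c.2 _ (h₁ h5), mul_inv_cancel_right]
      rw [h6]
      exact mul_mem (hD₁ (hY hc')) h5
    · exact W₂.mul_mem ((mem_normalizer_iff.1 (hA₂ ha) _).1 hw2) (W₂.inv_mem hw2)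

/-! ### an element of order 3 -/

/-- `a` inverts `x` of order 3, `F₀` is centralised by `a` and meets `C_V(x)` trivially -/
theorem sq_le_index {X V : Type*} [Group X] [CommGroup V] [Finite V] {ρ : X →* MulAut V} (hV : ∀ v : V, v * v = 1)
    {a x : X} (ha : a * a = 1) (hx : x ^ 3 = 1) (hax : a * x * a⁻¹ = x⁻¹) {F : Subgroup V}
    (hF : ∀ v ∈ F, ρ a v = v) (hFx : ∀ v ∈ F, ρ x v = v → v = 1) : Nat.card F * Nat.card F ≤ (fx ρ x).index := by
  have hmul : ∀ (g h : X) (v : V), ρ g (ρ h v) = ρ (g * h) v := fun g h v => by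
    rw [map_mul]; rfl
  have hinv : ∀ v : V, v⁻¹ = v := fun v => inv_eq_of_mul_eq_one_left (hV v)
  have hodd : Odd (orderOf x) := by
    have h1 : orderOf x ∣ 3 := orderOf_dvd_of_pow_eq_one hx
    rcases (Nat.dvd_prime Nat.prime_three).1 h1 with h | h <;> rw [h] <;> decide
  -- `P v = [x, x v]`
  let P : V →* V := (cm ρ x).comp (ρ x : V ≃* V).toMonoidHom
  have hP : ∀ v, P v = ρ (x * x) v * ρ x v := by
    intro v
    show ρ x (ρ x v) * (ρ x v)⁻¹ = _
    rw [hmul, hinv]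
  have hPF : ∀ v ∈ F, P v = 1 → v = 1 := by
    intro v hv h1
    apply hFx v hv
    rw [hP, mul_eq_one_iff_eq_inv, hinv, ← hmul] at h1
    exact (ρ x).injective h1
  have hPa : ∀ v ∈ F, ρ a (P v) = P v := by
    intro v hv
    have e1 : a * (x * x) = x * a := by
      have h1 : a * x = x⁻¹ * a := by rw [← hax]; group
      have h2 : x⁻¹ * x⁻¹ = x := by
        have h3 : x * x * x = 1 := by rw [← hx, pow_succ, pow_two]
        calc x⁻¹ * x⁻¹ = (x * x * x) * x⁻¹ * x⁻¹ := by rw [h3, one_mul]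
          _ = x := by group
      rw [← mul_assoc, h1, mul_assoc, h1, ← mul_assoc, h2]
    have e2 : a * x = x * x * a := by
      have h1 : a * x = x⁻¹ * a := by rw [← hax]; group
      have h3 : x⁻¹ = x * x := by
        have h4 : x * x * x = 1 := by rw [← hx, pow_succ, pow_two]
        exact inv_eq_of_mul_eq_one_left h4
      rw [h1, h3]
    rw [hP, map_mul, hmul, hmul, e1, e2, ← hmul x a, ← hmul (x * x) a, hF v hv, mul_comm]
  have hPr : ∀ v, P v ∈ (cm ρ x).range := fun v => ⟨_, rfl⟩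
  have hstab : ∀ v ∈ (cm ρ x).range, ρ x v ∈ (cm ρ x).range := fun v hv => apply_mem_range ρ rfl hv
  -- the two subgroups
  let C : Subgroup V := F.map P
  let C' : Subgroup V := C.map (ρ x : V ≃* V).toMonoidHom
  have hCF : Nat.card C = Nat.card F := by
    have hinj : Function.Injective (P.comp F.subtype) := by
      rw [injective_iff_map_eq_one]
      rintro ⟨v, hv⟩ h1
      exact Subtype.ext (hPF v hv h1)
    have e : C = (P.comp F.subtype).range := by
      rw [MonoidHom.range_comp, range_subtype]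
    rw [e]
    exact (Nat.card_congr (MonoidHom.ofInjective hinj).toEquiv).symm
  have hC'F : Nat.card C' = Nat.card F := by
    rw [← hCF]
    exact card_map_of_injective (ρ x).injective
  have hCr : C ≤ (cm ρ x).range := by
    rintro _ ⟨v, -, rfl⟩; exact hPr v
  have hC'r : C' ≤ (cm ρ x).range := by
    rintro _ ⟨v, hv, rfl⟩; exact hstab v (hCr hv)
  have hdisj : Disjoint C C' := by
    rw [Subgroup.disjoint_def]
    rintro v hv ⟨w, hw, hwv⟩
    have hva : ρ a v = v := by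
      obtain ⟨u, hu, rfl⟩ := hv
      exact hPa u hu
    have hwa : ρ a w = w := by
      obtain ⟨u, hu, rfl⟩ := hw
      exact hPa u hu
    have hwv' : ρ x w = v := hwv
    apply eq_one_of_fix hV hodd (hCr hv)
    -- `v` is fixed by `x a x⁻¹` and by `a`
    have h1 : ρ (x * a * x⁻¹) v = v := by
      rw [← hwv', hmul]
      have e : x * a * x⁻¹ * x = x * a := by group
      rw [e, ← hmul, hwa]
    have h2 : ρ (x * a * x⁻¹ * a) v = v := by rw [← hmul, hva, h1]
    have e : x * a * x⁻¹ * a = x * x := by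
      have h4 : a * x⁻¹ * a⁻¹ = x := by
        have h5 : a * x⁻¹ * a⁻¹ = (a * x * a⁻¹)⁻¹ := by group
        rw [h5, hax, inv_inv]
      have h6 : a⁻¹ = a := inv_eq_of_mul_eq_one_left ha
      rw [h6] at h4
      rw [mul_assoc, mul_assoc, ← mul_assoc a, h4]
    rw [e] at h2
    have h3 : v ∈ fx ρ (x * x) := h2
    exact fx_of_sq ρ hodd h3
  have h1 : Nat.card C * Nat.card C' = Nat.card (C ⊔ C' : Subgroup V) := by
    have e1 := relIndex_mul_relIndex (⊥ : Subgroup V) C (C ⊔ C') bot_le le_sup_left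
    rw [relIndex_bot_left, relIndex_bot_left, sup_comm C C', relIndex_sup_right C' C, ← inf_relIndex_right,
      hdisj.eq_bot, relIndex_bot_left, sup_comm C' C] at e1
    exact e1
  rw [← card_range_cm, ← hCF]
  nth_rewrite 2 [hCF]
  rw [← hC'F, h1]
  exact Nat.card_mono (Set.toFinite _) (sup_le hCr hC'r)

end Cfsg.Agent.OddCyclic.Emp3.Count
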