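import Mathlib
import Cfsg.Agent.OddCyclic.UniPiece
import Cfsg.Agent.OddCyclic.CompStart

/-!
# The pieces modulo `O₂`: prime order or simple nonabelian
-/

set_option autoImplicit false
set_option linter.unusedSectionVars false

namespace Cfsg.Agent.OddCyclic.Emp3.Kind

open Subgroup Cfsg Cfsg.Agent.ZN
open Cfsg.Agent.OddCyclic.UniStruct (Pc RM Cp NP NP_le NP_le_sup)
open Cfsg.Agent.OddCyclic.T1Defs (OddCyc)

universe u

variable {G : Type u} [Group G]

/-- `N/O₂(N)` is simple nonabelian -/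
def SimpK (N : Subgroup G) : Prop :=
  IsSimpleGroup (N ⧸ pCore 2 N) ∧ ∃ x y : N ⧸ pCore 2 N, x * y ≠ y * x

/-- `|N/O₂(N)|` is an odd prime -/
def PrimeK (N : Subgroup G) : Prop := ∃ r : ℕ, r.Prime ∧ r ≠ 2 ∧ (pCore 2 N).index = r

theorem simpK_of_cp [Finite G] {M N : Subgroup G} (h : Cp M N) : SimpK N := by
  have hn := Lib.Cores.pCore_normal (G := N) 2
  refine ⟨h.simp, ?_⟩
  by_contra hcon
  push Not at hcon
  have hs : IsSimpleGroup (N ⧸ pCore 2 N) := h.simp
  obtain ⟨a, ha⟩ := exists_ne (1 : N ⧸ pCore 2 N)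
  apply ha
  obtain ⟨n, rfl⟩ := QuotientGroup.mk'_surjective (pCore 2 N) a
  -- `N` is perfect
  have h1 : commutator N = ⊤ := by
    apply Subgroup.map_injective N.subtype_injective
    rw [_root_.commutator_def, Subgroup.map_commutator, ← MonoidHom.range_eq_map, range_subtype, h.perf]
  have h2 : n ∈ commutator N := by rw [h1]; trivial
  have h3 : commutator N ≤ (QuotientGroup.mk' (pCore 2 N)).ker := by
    rw [_root_.commutator_def, commutator_le]
    intro x _ y _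
    rw [MonoidHom.mem_ker, map_commutatorElement, commutatorElement_eq_one_iff_mul_comm]
    exact hcon _ _
  exact h3 h2

theorem primeK_of_rm [Finite G] {M : Subgroup G} {r : ℕ} {x : G} (h : RM M r x) : PrimeK (NP M x) := by
  have : Fact (Nat.Prime 2) := ⟨Nat.prime_two⟩
  have hn := Lib.Cores.pCore_normal (G := NP M x) 2
  have hNM : NP M x ≤ M := NP_le h.mem
  have hx : x ∈ NP M x := UniStruct.self_mem_NP M x
  refine ⟨r, h.prime, h.odd, ?_⟩
  -- `N ∩ O₂(M) ≤ O₂(N)`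
  have h1 : NP M x ⊓ o2 M ≤ o2 (NP M x) := by
    refine Block.le_o2 ((Block.o2_isPGroup M).to_le inf_le_right) inf_le_left ?_
    intro n hn'
    rw [mem_normalizer_iff]
    intro y
    have h2 := mem_normalizer_iff.1 (Block.le_normalizer_o2 M (hNM hn')) y
    have h3 := mem_normalizer_iff.1 (le_normalizer hn' : n ∈ normalizer (NP M x : Set G)) y
    rw [mem_inf, mem_inf, ← h2, ← h3]
  obtain ⟨π, hπ⟩ : ∃ π : NP M x →* NP M x ⧸ pCore 2 (NP M x), π = QuotientGroup.mk' _ := ⟨_, rfl⟩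
  have hπ1 : ∀ n : NP M x, (n : G) ∈ o2 M → π n = 1 := by
    intro n hn'
    rw [hπ, QuotientGroup.mk'_apply, QuotientGroup.eq_one_iff]
    obtain ⟨m, hm, he⟩ := h1 ⟨n.2, hn'⟩
    rwa [← Subtype.ext (show (m : G) = n from he)]
  have hgen : ∀ g : NP M x ⧸ pCore 2 (NP M x), g ∈ zpowers (π ⟨x, hx⟩) := by
    intro g
    obtain ⟨n, rfl⟩ : ∃ n, π n = g := by rw [hπ]; exact QuotientGroup.mk'_surjective _ g
    have h2 : (n : G) ∈ ((zpowers x ⊔ o2 M : Subgroup G) : Set G) := NP_le_sup h n.2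
    have h3 : zpowers x ≤ normalizer (o2 M : Set G) := by
      rw [zpowers_le]
      exact Block.le_normalizer_o2 M h.mem
    rw [coe_mul_of_left_le_normalizer_right _ _ h3] at h2
    obtain ⟨y, ⟨k, rfl⟩, q, hq, he⟩ := h2
    have hqN : q ∈ NP M x := by
      have e1 : q = (x ^ k)⁻¹ * (n : G) := by
        rw [← he]; group
      rw [e1]
      exact mul_mem (inv_mem (zpow_mem hx k)) n.2
    have e2 : n = (⟨x, hx⟩ : NP M x) ^ k * ⟨q, hqN⟩ := Subtype.ext he.symm
    rw [e2, map_mul, hπ1 ⟨q, hqN⟩ hq, mul_one, map_zpow]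
    exact zpow_mem (mem_zpowers _) k
  have hx1 : π ⟨x, hx⟩ ≠ 1 := by
    intro h2
    rw [hπ, QuotientGroup.mk'_apply, QuotientGroup.eq_one_iff] at h2
    exact h.not_two (Block.o2_isPGroup (NP M x)) ⟨_, h2, rfl⟩
  have hxr : orderOf (π ⟨x, hx⟩) = r := by
    have h2 : Fact r.Prime := ⟨h.prime⟩
    refine orderOf_eq_prime ?_ hx1
    rw [← map_pow, show (⟨x, hx⟩ : NP M x) ^ r = 1 from Subtype.ext (by
      show x ^ r = 1
      rw [← h.ord, pow_orderOf_eq_one]), map_one]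
  have h2 : zpowers (π ⟨x, hx⟩) = ⊤ := by
    rw [eq_top_iff]
    exact fun g _ => hgen g
  show Nat.card (NP M x ⧸ pCore 2 (NP M x)) = r
  rw [← hxr, ← Nat.card_zpowers, h2, card_top]

theorem kind [Finite G] {M N : Subgroup G} (h : Pc M N) : PrimeK N ∨ SimpK N := by
  rcases h with h | ⟨r, x, h, rfl⟩
  · exact Or.inr (simpK_of_cp h)
  · exact Or.inl (primeK_of_rm h)

end Cfsg.Agent.OddCyclic.Emp3.Kind
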