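import Mathlib
import Cfsg.Agent.OddCyclic.Emp3.Kind
import Cfsg.Agent.OddCyclic.Emp3.Big

/-!
# (Empty), part III, section 6: no line in the natural case, all types of pieces
-/

set_option autoImplicit false
set_option linter.unusedSectionVars false

namespace Cfsg.Agent.OddCyclic.Emp3.Dispatch

open Subgroup Cfsg Cfsg.Agent.ZN
open Cfsg.Agent.OddCyclic.EmpB (Bx Bx0)
open Cfsg.Agent.OddCyclic.Emp3.Noo (cq)
open Cfsg.Agent.OddCyclic.Emp3.Kind (PrimeK SimpK)
open Cfsg.Agent.OddCyclic.T1Defs (OddCyc)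
open Cfsg.Agent.OddCyclic.UniStruct (Pc)

universe u

variable {G : Type u} [Group G] [Finite G]

/-- (6.8) -/
def SlKill (G : Type u) [Group G] : Prop :=
  ∀ (S : Sylow 2 G) (N W Y F A : Subgroup G) (f a a' c : ℕ), Bx S N W Y F A f a a' c →
    ∀ (E : Type) [Field E] [Fintype E] [CharP E 2], 4 ≤ Fintype.card E →
      Nonempty (N ⧸ pCore 2 N ≃* Matrix.SpecialLinearGroup (Fin 2) E) → False

/-- (6.7) -/
def SzKill (G : Type u) [Group G] : Prop :=
  ∀ (S : Sylow 2 G) (N W Y F A : Subgroup G) (f a a' c : ℕ), Bx0 S N W Y F A f a a' c →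
    Cfsg.Lie.IsoSuzuki (N ⧸ pCore 2 N) → False

/-- the facts on the line beyond `Bx0` -/
structure Ex (S : Sylow 2 G) (N Y F : Subgroup G) (f : ℕ) : Prop where
  /-- (C4) -/
  c4 : ∀ p : ℕ, p.Prime → p ∣ 2 ^ f - 1 → ¬ p ∣ (o2 N).relIndex N
  FS : Odd f → ∀ s ∈ (S : Subgroup G), ∀ v ∈ F, s * v * s⁻¹ * v⁻¹ ∈ Y
  /-- (St+), for elements of odd prime order -/
  stp : ∀ x ∈ N, (orderOf x).Prime → Odd (orderOf x) → ∀ v ∈ F, v ∉ Y → x * v = v * x → x ∈ centralizer (F : Set G)

/-- `3 ∣ |N/O₂(N)|`: `f` is odd -/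
theorem bx_of_three {S : Sylow 2 G} {N W Y F A : Subgroup G} {f a a' c : ℕ} (b : Bx0 S N W Y F A f a a' c)
    (e : Ex S N Y F f) (h3 : 3 ∣ (o2 N).relIndex N) : Bx S N W Y F A f a a' c := by
  have hodd : Odd f := by
    by_contra hne
    rw [Nat.not_odd_iff_even] at hne
    obtain ⟨k, rfl⟩ := hne
    refine e.c4 3 Nat.prime_three ?_ h3
    have h1 : 2 ^ (k + k) = (2 ^ 2) ^ k := by rw [← pow_mul]; congr 1; ring
    have h2 := Nat.sub_dvd_pow_sub_pow (2 ^ 2) 1 k
    rw [one_pow] at h2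
    rw [h1]
    exact h2
  refine { toBx0 := b, FS := e.FS hodd, stp := e.stp, f3 := ?_, fodd := hodd, seven := ?_ }
  · have h1 := b.f_two
    obtain ⟨k, hk⟩ := hodd
    omega
  · rintro h7 rfl
    exact e.c4 7 (by norm_num) (by norm_num) h7

/-- **no piece** -/
theorem false_of {S : Sylow 2 G} {M N W Y F A : Subgroup G} {f a a' c : ℕ} (hc : OddCyc G)
    (hs : CompStart.SecZero G) (sl : SlKill G) (sz : SzKill G) (hM : M ≠ ⊤) (hN : Pc M N) (hSM : (S : Subgroup G) ≤ M)
    (hmin : ∀ K ≤ N, N ≤ normalizer (K : Set G) → IsPGroup 2 K ∨ K = N)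
    (b : Bx0 S N W Y F A f a a' c) (e : Ex S N Y F f) : False := by
  have hn := Lib.Cores.pCore_normal (G := N) 2
  have hn2 : ¬ IsPGroup 2 N := hN.not_isPGroup
  have hNM : N ≤ M := hN.le
  have hAM : A ≤ M := b.A_le.trans hSM
  have hNt : N ≠ ⊤ := fun h => hM (top_le_iff.1 (h ▸ hNM))
  rcases Kind.kind hN with ⟨r, hr, hr2, hi⟩ | ⟨hsimp, hna⟩
  · -- (6.5)
    refine Prime.false_of (N := N) (W := W) (Y := Y) (F := F) (A := A) (Q := cq N) (f := f) (r := r) (a := a)
      (a' := a') (c := c) ?_ hr hr2 hi ?_ b.f_two b.card_A b.a_pos b.a'_le b.c_imp b.idx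
    · exact
        { W_comm := b.W_comm
          W_sq := b.W_sq
          YF := b.YF
          FW := b.FW
          NW := b.NW
          NY := b.NY.trans (centralizer_le_normalizer _)
          AW := b.A_le.trans b.SW
          AY := b.A_le.trans b.SY
          AN := b.A_le.trans b.nN
          A_sq := b.A_sq
          FA := fun v hv s hs => by
            have h1 : v * s = s * v := mem_centralizer_iff.1 (b.A_cent hs) v hv
            have e1 : s * v * s⁻¹ * v⁻¹ = 1 := by rw [← h1]; group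
            rw [e1]
            exact one_mem _
          FO := fun v hv s hs => b.FQ s hs v hv
          gen := b.gen
          card_F := b.card_F
          fix := b.fix }
    · intro t ht h1
      exact ⟨normalizer_le_normalizer_o2 N (b.nN (b.A_le ht)), h1⟩
  · -- simple nonabelian
    have hkz : PumpMain.KZero (N ⧸ pCore 2 N) := hs N hNt (pCore 2 N) hsimp hna
    have hFFC : ∀ (D : Subgroup ↥(N ⊔ A)) [D.Normal], RedFFDefs.FFC (↥(N ⊔ A) ⧸ D) := by
      intro D hD
      exact FFSec.ffc_quotient hc hs (fun h => hM (top_le_iff.1 (h ▸ sup_le hNM hAM))) D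
    rcases hkz with ⟨E, iE, iE', hp, h5, he⟩ | h | h | ⟨hJ, k, hk⟩
    · have h3 : 3 ∣ (o2 N).relIndex N := by
        rw [Big.relIndex_o2, Nat.card_congr he.some.toEquiv]
        exact T1Core.three_dvd_psl
      have b' := bx_of_three b e h3
      refine Big.false_of b' hmin hn2 hFFC hsimp hna ?_ (Or.inl ⟨E, iE, iE', hp, h5, he⟩)
      intro E' _ _ _ h4 he'
      exact sl S N W Y F A f a a' c b' E' h4 he'
    · obtain ⟨E, iE, iE', hE2, h4, he⟩ := Big.exists_sl h
      have h3 : 3 ∣ (o2 N).relIndex N := by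
        rw [Big.relIndex_o2, Nat.card_congr he.some.toEquiv]
        exact Noo.three_dvd_sl
      exact sl S N W Y F A f a a' c (bx_of_three b e h3) E h4 he
    · exact sz S N W Y F A f a a' c b h
    · have h3 : 3 ∣ (o2 N).relIndex N := by
        rw [Big.relIndex_o2, KZJOne.card_eq hJ hk]
        norm_num
      have b' := bx_of_three b e h3
      refine Big.false_of b' hmin hn2 hFFC hsimp hna ?_ (Or.inr ⟨hJ, k, hk⟩)
      intro E' _ _ _ h4 he'
      exact sl S N W Y F A f a a' c b' E' h4 he'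

end Cfsg.Agent.OddCyclic.Emp3.Dispatch
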