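import Cfsg.Agent.OddCyclic.Emp3.MainOf
import Cfsg.Agent.OddCyclic.EmpN.Main

/-!
# (Empty), part III: `V = vv S` an FF-module gives an `S₃`-line
-/

set_option autoImplicit false
set_option linter.unusedSectionVars false

namespace Cfsg.Agent.OddCyclic.Emp3.Main

open Subgroup Cfsg Cfsg.Agent.ZN Cfsg.Agent.ZN.ChoiceBase Cfsg.Agent.ZN.ChoiceSit
open Cfsg.Agent.MinSimple Cfsg.Agent.MinSimple.EmptyTI Cfsg.Agent.MinSimple.EmptySix
open Cfsg.Agent.OddCyclic.T1Defs Cfsg.Agent.OddCyclic.T1Module Cfsg.Agent.OddCyclic.FFBasic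
  Cfsg.Agent.OddCyclic.EmpFF Cfsg.Agent.OddCyclic.EmpFFList Cfsg.Agent.OddCyclic.RedRep
open Cfsg.Agent.OddCyclic.EmpFrame

universe u

/-- **(III)**: `V` an FF-module gives an `S₃`-line -/
theorem main {G : Type u} [Group G] [Finite G] {S : Sylow 2 G} (h : ENS S) (hz : CompStart.SecZero G)
    (hn : ¬ NFF (vv (S : Subgroup G))) : ∃ V z, EmpLine.SLine S V z :=
  MainOf.main h hz hn fun hr => by
    intro L F₀ _ _ _ hl
    exact EmpN.main h hz hr hl

end Cfsg.Agent.OddCyclic.Emp3.Main
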