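import Cfsg.Agent.OddCyclic.Emp3.NNEnd
import Cfsg.Agent.OddCyclic.EmpFF
import Cfsg.Agent.OddCyclic.EmpFFNN

/-!
# (Empty), (III), section 4: (iv) is impossible

`false_of` : `ENS S`, `SecZero G`, `FFRep S r ρ ι` and `NN ρ T̄` (`V = N ⊕ N'` for `L / C_L(V) = L₃(2)`) give `False`.
-/

set_option autoImplicit false
set_option linter.unusedSectionVars false

namespace Cfsg.Agent.OddCyclic.Emp3.NNMain

open Subgroup Cfsg Cfsg.Agent.ZN Cfsg.Agent.ZN.ChoiceBase Cfsg.Agent.ZN.ChoiceSit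
open Cfsg.Agent.MinSimple Cfsg.Agent.MinSimple.EmptyTI Cfsg.Agent.MinSimple.EmptySix
open Cfsg.Agent.MinSimple.EmptyE.Closed (LL vv_comm vv_mul_self vv_le)
open Cfsg.Agent.OddCyclic.T1Defs Cfsg.Agent.OddCyclic.T1Module Cfsg.Agent.OddCyclic.FFBasic
  Cfsg.Agent.OddCyclic.RedFFDefs Cfsg.Agent.OddCyclic.RedRep Cfsg.Agent.OddCyclic.CompStart
  Cfsg.Agent.OddCyclic.EmpFF
open Cfsg.Agent.OddCyclic.EmpFrame
open Cfsg.Agent.OddCyclic.EmpG.Line (conj_mem conj_mem')
open Cfsg.Agent.OddCyclic.EmpG.Sec1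
open Cfsg.Agent.OddCyclic.Emp3.NNBase Cfsg.Agent.OddCyclic.Emp3.NNLine Cfsg.Agent.OddCyclic.Emp3.NNCount

universe u

variable {G : Type u} [Group G] [Finite G] {S : Sylow 2 G}

section decomp

variable {H V : Type u} [Group H] [CommGroup V] [Finite H] [Finite V] {r : LL (S : Subgroup G) →* H}
  {ρ : H →* MulAut V} {ι : V →* G}

/-- the kernel of `r` -/
theorem ker_eq (hr : Rep (LL (S : Subgroup G)) (vv (S : Subgroup G)) r ρ ι) :
    r.ker = (centralizer (vv (S : Subgroup G) : Set G)).subgroupOf (LL (S : Subgroup G)) := by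
  ext x
  rw [MonoidHom.mem_ker, hr.r_eq_one, mem_subgroupOf, mem_centralizer_iff]
  exact ⟨fun h y hy => (h y hy).symm, fun h y hy => (h y hy).symm⟩

theorem relIndex_eq (hr : Rep (LL (S : Subgroup G)) (vv (S : Subgroup G)) r ρ ι) :
    (centralizer (vv (S : Subgroup G) : Set G)).relIndex (LL (S : Subgroup G)) = Nat.card H := by
  rw [Subgroup.relIndex, ← ker_eq hr, Subgroup.index_ker, MonoidHom.range_eq_top.2 hr.surj, Subgroup.card_top]

theorem perf (hr : Rep (LL (S : Subgroup G)) (vv (S : Subgroup G)) r ρ ι) (hs : IsSimpleGroup H)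
    (hna : ∃ a b : H, a * b ≠ b * a) :
    NNThree.Perf ((centralizer (vv (S : Subgroup G) : Set G)).subgroupOf (LL (S : Subgroup G))) := by
  rw [← ker_eq hr]
  intro R hR hc
  have hmem : ∀ a b : H, a * b * a⁻¹ * b⁻¹ ∈ R.map r := by
    intro a b
    obtain ⟨a, rfl⟩ := hr.surj a
    obtain ⟨b, rfl⟩ := hr.surj b
    exact ⟨_, hc a b, by simp⟩
  have hn : (R.map r).Normal := by
    refine ⟨fun n hn g => ?_⟩
    have e : g * n * g⁻¹ = (g * n * g⁻¹ * n⁻¹) * n := by group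
    rw [e]
    exact mul_mem (hmem g n) hn
  rcases hs.eq_bot_or_eq_top_of_normal _ hn with h1 | h1
  · exfalso
    obtain ⟨a, b, hab⟩ := hna
    apply hab
    have h2 := hmem a b
    rw [h1, mem_bot, mul_inv_eq_one, mul_inv_eq_iff_eq_mul] at h2
    exact h2
  · have h2 : (R.map r).comap r = R := comap_map_eq_self hR
    rw [← h2, h1]
    exact comap_top r

variable (h : ENS S) (hr : Rep (LL (S : Subgroup G)) (vv (S : Subgroup G)) r ρ ι)

include h hr in
theorem card_zc : Nat.card (zc (S : Subgroup G)) = Nat.card (CS ρ (im (LL (S : Subgroup G)) (S : Subgroup G) r)) := by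
  have h1 : (CS ρ (im (LL (S : Subgroup G)) (S : Subgroup G) r)).map ι = zc (S : Subgroup G) := by
    ext y
    constructor
    · rintro ⟨v, hv, rfl⟩
      refine h.mem_zc_of_comm (hr.mem v) fun s hs => ?_
      exact (hr.fix (x := ⟨s, h.le_LL hs⟩)).1 (hv _ (mem_im h.le_LL hs))
    · intro hy
      obtain ⟨v, rfl⟩ := hr.exists_v (zc_le_vv _ hy)
      refine ⟨v, ?_, rfl⟩
      rintro _ ⟨x, hx, rfl⟩
      rw [hr.fix]
      exact (ChoiceBase.mem_zc.1 hy).2.2 x (mem_subgroupOf.1 hx)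
  rw [← h1, Subgroup.card_map_of_injective hr.iinj]

include h hr in
/-- the structure `NG` -/
theorem exists_ng (hn : EmpFFSevenD.NN ρ (im (LL (S : Subgroup G)) (S : Subgroup G) r)) :
    ∃ (V₁ V₂ : Subgroup G) (th : G → G),
      NG (S : Subgroup G) (LL (S : Subgroup G)) (vv (S : Subgroup G)) (zc (S : Subgroup G)) V₁ V₂ th := by
  classical
  obtain ⟨U₁, U₂, hinf, hsup, hc₁, hc₂, hi₁, hi₂, θ, hθ⟩ := EmpFFNN.exists_decomp hn
  obtain ⟨th, hth⟩ : ∃ th : G → G, ∀ v : U₁, th (ι v) = ι (θ v) := by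
    refine ⟨fun g => if hg : ∃ v : U₁, ι v = g then ι (θ hg.choose) else 1, fun v => ?_⟩
    have hg : ∃ w : U₁, ι w = ι v := ⟨v, rfl⟩
    have h1 : hg.choose = v := Subtype.ext (hr.iinj hg.choose_spec)
    simp only [hg, dif_pos, h1]
  have hmem₁ : ∀ v, v ∈ U₁.map ι ↔ ∃ w : U₁, ι w = v := fun v =>
    ⟨fun ⟨w, hw, e⟩ => ⟨⟨w, hw⟩, e⟩, fun ⟨w, e⟩ => ⟨w, w.2, e⟩⟩
  have hmem₂ : ∀ v, v ∈ U₂.map ι ↔ ∃ w : U₂, ι w = v := fun v =>
    ⟨fun ⟨w, hw, e⟩ => ⟨⟨w, hw⟩, e⟩, fun ⟨w, e⟩ => ⟨w, w.2, e⟩⟩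
  have hle₁ : U₁.map ι ≤ vv (S : Subgroup G) := by rintro _ ⟨v, -, rfl⟩; exact hr.mem v
  have hnorm₁ : ∀ g ∈ LL (S : Subgroup G), ∀ v ∈ U₁.map ι, g * v * g⁻¹ ∈ U₁.map ι := by
    rintro g hg _ ⟨v, hv, rfl⟩
    exact ⟨ρ (r ⟨g, hg⟩) v, hi₁ _ v hv, hr.act ⟨g, hg⟩ v⟩
  have hcard : Nat.card (U₁.map ι : Subgroup G) = 8 := by rw [Subgroup.card_map_of_injective hr.iinj, hc₁]
  refine ⟨U₁.map ι, U₂.map ι, th, ?_⟩
  exact
  { inf := by rw [← Subgroup.map_inf _ _ _ hr.iinj, hinf, Subgroup.map_bot]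
    sup := by rw [← Subgroup.map_sup, hsup, ← MonoidHom.range_eq_map, hr.range]
    comm := fun v hv w hw => vv_comm hv hw
    sq := fun v hv => vv_mul_self hv
    card₁ := hcard
    norm₁ := hnorm₁
    norm₂ := by
      rintro g hg _ ⟨v, hv, rfl⟩
      exact ⟨ρ (r ⟨g, hg⟩) v, hi₂ _ v hv, hr.act ⟨g, hg⟩ v⟩
    th_mem := by
      intro v hv
      obtain ⟨w, rfl⟩ := (hmem₁ v).1 hv
      rw [hth, hmem₂]
      exact ⟨_, rfl⟩
    th_mul := by
      intro v hv w hw
      obtain ⟨v, rfl⟩ := (hmem₁ v).1 hv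
      obtain ⟨w, rfl⟩ := (hmem₁ w).1 hw
      rw [hth, hth, ← map_mul, ← Subgroup.coe_mul, hth, map_mul, Subgroup.coe_mul, map_mul]
    th_inj := by
      intro v hv e
      obtain ⟨w, rfl⟩ := (hmem₁ v).1 hv
      rw [hth, ← map_one ι] at e
      have h1 : θ w = 1 := Subtype.ext (hr.iinj e)
      rw [← map_one θ] at h1
      rw [θ.injective h1]
      exact map_one ι
    th_surj := by
      intro w hw
      obtain ⟨w, rfl⟩ := (hmem₂ w).1 hw
      refine ⟨ι (θ.symm w), (hmem₁ _).2 ⟨_, rfl⟩, ?_⟩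
      rw [hth, MulEquiv.apply_symm_apply]
    th_conj := by
      intro g hg v hv
      obtain ⟨w, rfl⟩ := (hmem₁ v).1 hv
      have h1 := hr.act ⟨g, hg⟩ w
      have h2 := hr.act ⟨g, hg⟩ (θ w)
      have h3 := hθ (r ⟨g, hg⟩) w ⟨ρ (r ⟨g, hg⟩) w, hi₁ _ w w.2⟩ rfl
      show th (((⟨g, hg⟩ : LL (S : Subgroup G)) : G) * ι w * ((⟨g, hg⟩ : LL (S : Subgroup G)) : G)⁻¹) = _
      rw [← h1]
      have h4 := hth ⟨ρ (r ⟨g, hg⟩) w, hi₁ _ w w.2⟩
      rw [hth, ← h2, ← h3]
      exact h4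
    tri := by
      refine GH.C2SevenNat.tri_of_card (Q := centralizer (vv (S : Subgroup G) : Set G)) hnorm₁ hcard
        (fun v hv => vv_mul_self (hle₁ hv)) h.centralizer_vv_le_LL (fun g hg hgc => ?_) ?_
      · -- `g` centralises `V`
        have h1 : ∀ w : U₁, ρ (r ⟨g, hg⟩) w = w := fun w => hr.fix.2 (hgc _ ((hmem₁ _).2 ⟨w, rfl⟩))
        have h2 : ∀ w : U₂, ρ (r ⟨g, hg⟩) w = w := by
          intro w
          obtain ⟨w, rfl⟩ := θ.surjective w
          exact (hθ (r ⟨g, hg⟩) w w (h1 w).symm).symm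
        have h3 : (⊤ : Subgroup V) ≤ fx ρ (r ⟨g, hg⟩) := by
          rw [← hsup]
          exact sup_le (fun v hv => h1 ⟨v, hv⟩) (fun v hv => h2 ⟨v, hv⟩)
        rw [mem_centralizer_iff]
        intro y hy
        obtain ⟨v, rfl⟩ := hr.exists_v hy
        exact (hr.fix.1 (h3 (mem_top v))).symm
      · have h1 := card_mul_rel h.centralizer_vv_le_LL
        rw [relIndex_eq hr, hn.cardH, mul_comm] at h1
        exact h1.le
    SL := h.le_LL
    Zmem := fun v => ⟨fun hv => ⟨zc_le_vv _ hv, (ChoiceBase.mem_zc.1 hv).2.2⟩, fun hv => h.mem_zc_of_comm hv.1 hv.2⟩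
    cardZ := by rw [card_zc h hr, hn.cardZ] }

end decomp

/-- the line `F = V` -/
theorem exists_ln_vv (h : ENS S) {I N : Subgroup G} (hI : TIData (S : Subgroup G) I) (hN : JP (S : Subgroup G) I N) :
    Ln S I N (vv (S : Subgroup G)) (LL (S : Subgroup G) ⊓
      normalizer (((S : Subgroup G) ⊓ centralizer (vv (S : Subgroup G) : Set G) : Subgroup G) : Set G)) := by
  obtain ⟨z, hz, hz1⟩ := (zc (S : Subgroup G)).bot_or_exists_ne_one.resolve_left h.zc_ne_bot
  have hLc : LL (S : Subgroup G) ≤ normalizer ((centralizer (vv (S : Subgroup G) : Set G) : Subgroup G) : Set G) := by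
    intro x hx
    rw [mem_normalizer_iff_cj, cj_centralizer, mem_normalizer_iff_cj.1 hx]
  refine exists_ln h hI hN le_rfl h.vv_ne_bot h.le_LL le_rfl (h.not_LL_le hI)
    (inf_le_right.trans (cent_F_le' h hI hN le_rfl (zc_le_vv _ hz) hz1 hz)) fun D hD hn hd => ?_
  have e := zl_normalizer_vv (S : Subgroup G)
  have h1 : D ≤ centralizer (zl (S : Subgroup G) (LL (S : Subgroup G)) : Set G) := by
    refine Basic.le_centralizer_zl_of_pow h.le_LL S.isPGroup' (Basic.not_dvd_relIndex S h.le_LL) hD hn fun d hdD => ?_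
    rw [show zl (S : Subgroup G) (LL (S : Subgroup G)) = vv (S : Subgroup G) from e]
    obtain ⟨c, hc, t, ht, rfl⟩ := hd d hdD
    obtain ⟨k, hk⟩ := S.isPGroup' ⟨t, ht⟩
    have hk' : t ^ 2 ^ k = 1 := congrArg Subtype.val hk
    have htn := hLc (h.le_LL ht)
    have h5 := EmpG.Pcs.pow_mul_mem htn (conj_mem' htn hc) (2 ^ k)
    have e1 : t * (t⁻¹ * c * t) = c * t := by group
    rw [e1, hk', inv_one, mul_one] at h5
    exact ⟨k, h5⟩
  rwa [show zl (S : Subgroup G) (LL (S : Subgroup G)) = vv (S : Subgroup G) from e] at h1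

/-- **(iv) is impossible** -/
theorem false_of (h : ENS S) (hz : SecZero G) {H V : Type u} [Group H] [CommGroup V] [Finite H] [Finite V]
    {r : LL (S : Subgroup G) →* H} {ρ : H →* MulAut V} {ι : V →* G} (hr : FFRep S r ρ ι)
    (hn : EmpFFSevenD.NN ρ (im (LL (S : Subgroup G)) (S : Subgroup G) r)) : False := by
  obtain ⟨I, hI⟩ := h.exists_tiData
  obtain ⟨N, hN⟩ := h.exists_jp hI
  obtain ⟨V₁, V₂, th, hng⟩ := exists_ng h hr.rep hn
  obtain ⟨z, t⟩ := hng.exists_nz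
  have L := exists_ln_vv h hI hN
  obtain ⟨P, hP⟩ : ∃ P : Subgroup G, P = LL (S : Subgroup G) ⊓
      normalizer (((S : Subgroup G) ⊓ centralizer (vv (S : Subgroup G) : Set G) : Subgroup G) : Set G) := ⟨_, rfl⟩
  rw [← hP] at L
  have hPL : P ≤ LL (S : Subgroup G) := hP ▸ inf_le_left
  have hzM : centralizer ({z} : Set G) ≤ normalizer (I : Set G) := ENS.centralizer_le_M hI t.zZ t.z_ne
  -- `Y = Z`
  have hY : yy N (vv (S : Subgroup G)) = zc (S : Subgroup G) := by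
    refine t.eq_Z inf_le_left (fun y hy => L.zc_le_Y hy (zc_le_vv _ hy)) (fun g hg hgz y hy => ?_) ?_
    · have hgN : g ∈ normalizer (N : Set G) := hN.pc.norm (hzM (mem_centralizer_singleton_iff.2 hgz))
      have h1 : g ∈ normalizer (yy N (vv (S : Subgroup G)) : Set G) := by
        rw [mem_normalizer_iff_cj, cj_inf, cj_centralizer, mem_normalizer_iff_cj.1 hg, mem_normalizer_iff_cj.1 hgN]
      exact conj_mem h1 hy
    · have h1 := L.card_sq_le
      rw [card_V hng] at h1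
      nlinarith
  have hBL : bb I P ≤ LL (S : Subgroup G) := inf_le_left.trans hPL
  have hBz : ∀ b ∈ bb I P, b * z = z * b := by
    intro b hb
    refine t.comm_of_norm (hBL hb) fun v hv => ?_
    have h1 := L.BY hb
    rw [hY] at h1
    exact conj_mem h1 hv
  have hLc : LL (S : Subgroup G) ≤ normalizer ((centralizer (vv (S : Subgroup G) : Set G) : Subgroup G) : Set G) := by
    intro x hx
    rw [mem_normalizer_iff_cj, cj_centralizer, mem_normalizer_iff_cj.1 hx]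
  have hcM : centralizer (vv (S : Subgroup G) : Set G) ≤ normalizer (I : Set G) :=
    cent_F_le' h hI hN le_rfl (zc_le_vv _ t.zZ) t.z_ne t.zZ
  have hcov : ∀ g ∈ LL (S : Subgroup G), g * z = z * g → ∃ b ∈ bb I P, ∀ v ∈ vv (S : Subgroup G),
      g * v * g⁻¹ = b * v * b⁻¹ := by
    intro g hg hgz
    have hgM := hzM (mem_centralizer_singleton_iff.2 hgz)
    have hfr := Basic.frattini h.le_LL S.isPGroup' (Basic.not_dvd_relIndex S h.le_LL) hLc
    rw [← hP] at hfr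
    have h1 := hfr hg
    rw [← SetLike.mem_coe, sup_comm, Subgroup.coe_mul_of_left_le_normalizer_right _ _ (hPL.trans hLc)] at h1
    obtain ⟨p, hp, c, hc, rfl⟩ := h1
    have hpM : p ∈ normalizer (I : Set G) := by
      have e : p = p * c * c⁻¹ := by group
      rw [e]
      exact mul_mem hgM (inv_mem (hcM hc))
    refine ⟨p, Subgroup.mem_inf.2 ⟨hp, hpM⟩, fun v hv => ?_⟩
    have h2 : c * v = v * c := (mem_centralizer_iff.1 hc v hv).symm
    calc p * c * v * (p * c)⁻¹ = p * (c * v) * c⁻¹ * p⁻¹ := by group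
      _ = p * v * p⁻¹ := by rw [h2]; group
  have nt : NT (S : Subgroup G) (LL (S : Subgroup G)) (vv (S : Subgroup G)) (zc (S : Subgroup G)) V₁ V₂ th z (bb I P)
      (o2 (bb I P)) :=
    { t with
      BL := hBL
      Bz := hBz
      cov := hcov
      TB := Block.o2_le _
      two := Block.o2_isPGroup _
      BT := Block.le_normalizer_o2 _ }
  have hMt : normalizer (I : Set G) ≠ ⊤ := fun h0 => h.not_LL_le hI (by rw [h0]; exact le_top)
  refine NNEnd.false_of L nt hY (fun K hK D => ?_) (by rw [relIndex_eq hr.rep, hn.cardH]) (perf hr.rep hn.simple ?_)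
  · exact FFSec.ffc_quotient h.hyp.cyc hz (fun h0 => hMt (top_le_iff.1 (h0 ▸ hK))) D
  · by_contra hcon
    push Not at hcon
    have hs := hn.simple
    let _ : CommGroup H := { (inferInstance : Group H) with mul_comm := hcon }
    have h1 : (Nat.card H).Prime := IsSimpleGroup.prime_card
    rw [hn.cardH] at h1
    norm_num at h1

end Cfsg.Agent.OddCyclic.Emp3.NNMain
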