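import Cfsg.Agent.OddCyclic.Emp3.SLineB
import Cfsg.Agent.OddCyclic.Emp3.NNMain
import Cfsg.Agent.OddCyclic.EmpO4Five

/-!
# (Empty), part III: `V = vv S` an FF-module gives an `S₃`-line (up to the natural case)
-/

set_option autoImplicit false
set_option linter.unusedSectionVars false

namespace Cfsg.Agent.OddCyclic.Emp3.MainOf

open Subgroup Cfsg Cfsg.Agent.ZN Cfsg.Agent.ZN.ChoiceBase Cfsg.Agent.ZN.ChoiceSit
open Cfsg.Agent.MinSimple Cfsg.Agent.MinSimple.EmptyTI Cfsg.Agent.MinSimple.EmptySix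
open Cfsg.Agent.MinSimple.EmptyE.Closed (LL)
open Cfsg.Agent.OddCyclic.T1Defs Cfsg.Agent.OddCyclic.T1Module Cfsg.Agent.OddCyclic.FFBasic
  Cfsg.Agent.OddCyclic.EmpFF Cfsg.Agent.OddCyclic.EmpFFList Cfsg.Agent.OddCyclic.RedRep
open Cfsg.Agent.OddCyclic.EmpFrame

universe u

/-- **(III)**: `V` an FF-module gives an `S₃`-line -/
theorem main {G : Type u} [Group G] [Finite G] {S : Sylow 2 G} (h : ENS S) (hz : CompStart.SecZero G)
    (hn : ¬ NFF (vv (S : Subgroup G)))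
    (nat : ∀ {H V : Type u} [Group H] [CommGroup V] [Finite H] [Finite V] {r : LL (S : Subgroup G) →* H}
      {ρ : H →* MulAut V} {ι : V →* G} (_ : FFRep S r ρ ι) {L : Subgroup H} {F₀ : Type} [Field F₀] [Fintype F₀]
      [CharP F₀ 2] (_ : Lin ρ L F₀), ∃ V z, EmpLine.SLine S V z) : ∃ V z, EmpLine.SLine S V z := by
  obtain ⟨H, V, _, _, _, _, r, ρ, ι, hr⟩ := exists_ffrep h hz
  rcases hr.list hn with h1 | ⟨L, F, _, _, _, h1⟩ | ⟨e, h1⟩ | h1 | h1
  · exact SLine.of_outA h hr h1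
  · exact nat hr h1
  · exact (EmpO4.false_of_five h hz hr h1).elim
  · exact SLineB.of_outB h hr h1
  · exact (NNMain.false_of h hz hr h1).elim

end Cfsg.Agent.OddCyclic.Emp3.MainOf
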