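import Mathlib
import Cfsg.Agent.GH.C2SevenBase
import Cfsg.Agent.ZN.Block
import Cfsg.Agent.OddCyclic.EmpG.Line

/-!
# (Empty), (III), section 4: `V = N ⊗ F₂²` for `L / C_L(V) = L₃(2)`

`NG S L V Z V₁ V₂ th`: `L` normalises `V₁`, `V₂`, `V = V₁ × V₂` elementary abelian, `|V₁| = 8`, `th : V₁ → V₂` an
isomorphism of `L`-modules, `L` is transitive on the independent triples of `V₁`, `Z = C_V(S)` has order 4.
-/

set_option autoImplicit false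
set_option linter.unusedSectionVars false

namespace Cfsg.Agent.OddCyclic.Emp3.NNBase

open Subgroup
open Cfsg.Agent.GH.C2SevenBase (Ind)
open Cfsg.Agent.ZN (o2)
open Cfsg.Agent.OddCyclic.EmpG.Graph (ci)

variable {G : Type*} [Group G]

/-- The module `N ⊗ F₂²` of `L₃(2)`. -/
structure NG (S L V Z V₁ V₂ : Subgroup G) (th : G → G) : Prop where
  inf : V₁ ⊓ V₂ = ⊥
  sup : V₁ ⊔ V₂ = V
  comm : ∀ v ∈ V, ∀ w ∈ V, v * w = w * v
  sq : ∀ v ∈ V, v * v = 1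
  card₁ : Nat.card V₁ = 8
  norm₁ : ∀ g ∈ L, ∀ v ∈ V₁, g * v * g⁻¹ ∈ V₁
  norm₂ : ∀ g ∈ L, ∀ v ∈ V₂, g * v * g⁻¹ ∈ V₂
  th_mem : ∀ v ∈ V₁, th v ∈ V₂
  th_mul : ∀ v ∈ V₁, ∀ w ∈ V₁, th (v * w) = th v * th w
  th_inj : ∀ v ∈ V₁, th v = 1 → v = 1
  th_surj : ∀ w ∈ V₂, ∃ v ∈ V₁, th v = w
  th_conj : ∀ g ∈ L, ∀ v ∈ V₁, th (g * v * g⁻¹) = g * th v * g⁻¹
  tri : ∀ a ∈ V₁, ∀ b ∈ V₁, ∀ c ∈ V₁, ∀ a' ∈ V₁, ∀ b' ∈ V₁, ∀ c' ∈ V₁, Ind a b c → Ind a' b' c' →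
    ∃ g ∈ L, g * a * g⁻¹ = a' ∧ g * b * g⁻¹ = b' ∧ g * c * g⁻¹ = c'
  SL : S ≤ L
  Zmem : ∀ v, v ∈ Z ↔ v ∈ V ∧ ∀ s ∈ S, s * v = v * s
  cardZ : Nat.card Z = 4

theorem conj_inj {g x y : G} (h : g * x * g⁻¹ = g * y * g⁻¹) : x = y := by
  have h1 := mul_right_cancel h
  exact mul_left_cancel h1

theorem conj_eq {g x : G} (h : g * x = x * g) : g * x * g⁻¹ = x := by rw [h, mul_inv_cancel_right]

theorem eq_conj {g x : G} (h : g * x * g⁻¹ = x) : g * x = x * g := mul_inv_eq_iff_eq_mul.1 h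

namespace NG

variable {S L V Z V₁ V₂ : Subgroup G} {th : G → G} (h : NG S L V Z V₁ V₂ th)
include h

theorem le₁ : V₁ ≤ V := by rw [← h.sup]; exact le_sup_left

theorem le₂ : V₂ ≤ V := by rw [← h.sup]; exact le_sup_right

theorem inv {v : G} (hv : v ∈ V) : v⁻¹ = v := inv_eq_of_mul_eq_one_left (h.sq v hv)

theorem th_one : th 1 = 1 := by
  have h1 := h.th_mul 1 (one_mem _) 1 (one_mem _)
  rw [mul_one] at h1
  exact (mul_eq_left.1 h1.symm)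

theorem th_memV {v : G} (hv : v ∈ V₁) : th v ∈ V := h.le₂ (h.th_mem v hv)

theorem th_eq {v w : G} (hv : v ∈ V₁) (hw : w ∈ V₁) (e : th v = th w) : v = w := by
  have h1 : th (v * w) = 1 := by rw [h.th_mul v hv w hw, e, h.sq _ (h.th_memV hw)]
  have h2 := h.th_inj _ (mul_mem hv hw) h1
  rw [mul_eq_one_iff_eq_inv, h.inv (h.le₁ hw)] at h2
  exact h2

open Pointwise in
/-- every element of `V` is `a * th b` -/
theorem exists_dec {v : G} (hv : v ∈ V) : ∃ a ∈ V₁, ∃ b ∈ V₁, v = a * th b := by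
  have hn : V₁ ≤ normalizer (V₂ : Set G) := by
    refine ZN.Block.le_normalizer_of_forall ?_
    intro x hx y hy
    rw [conj_eq (h.comm x (h.le₁ hx) y (h.le₂ hy))]
    exact hy
  have hv' : v ∈ (V₁ : Set G) * (V₂ : Set G) := by
    rw [← Subgroup.coe_mul_of_left_le_normalizer_right _ _ hn, h.sup]
    exact hv
  obtain ⟨a, ha, c, hc, rfl⟩ := hv'
  obtain ⟨b, hb, rfl⟩ := h.th_surj c hc
  exact ⟨a, ha, b, hb, rfl⟩

theorem dec_one {a b : G} (ha : a ∈ V₁) (hb : b ∈ V₁) (e : a * th b = 1) : a = 1 ∧ b = 1 := by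
  have h1 : a = th b := by
    rw [mul_eq_one_iff_eq_inv, h.inv (h.th_memV hb)] at e
    exact e
  have h2 : a ∈ V₁ ⊓ V₂ := ⟨ha, by rw [h1]; exact h.th_mem b hb⟩
  rw [h.inf, mem_bot] at h2
  refine ⟨h2, h.th_inj b hb ?_⟩
  rw [← h1, h2]

theorem dec_uniq {a b a' b' : G} (ha : a ∈ V₁) (hb : b ∈ V₁) (ha' : a' ∈ V₁) (hb' : b' ∈ V₁)
    (e : a * th b = a' * th b') : a = a' ∧ b = b' := by
  have h1 : (a * a') * th (b * b') = 1 := by
    rw [h.th_mul b hb b' hb']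
    calc a * a' * (th b * th b') = a * (a' * th b) * th b' := by group
      _ = a * (th b * a') * th b' := by rw [h.comm a' (h.le₁ ha') (th b) (h.th_memV hb)]
      _ = (a * th b) * (a' * th b') := by group
      _ = 1 := by rw [e]; exact h.sq _ (mul_mem (h.le₁ ha') (h.th_memV hb'))
  obtain ⟨h2, h3⟩ := h.dec_one (mul_mem ha ha') (mul_mem hb hb') h1
  rw [mul_eq_one_iff_eq_inv, h.inv (h.le₁ ha')] at h2
  rw [mul_eq_one_iff_eq_inv, h.inv (h.le₁ hb')] at h3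
  exact ⟨h2, h3⟩

theorem conj_dec {g a b : G} (hg : g ∈ L) (hb : b ∈ V₁) :
    g * (a * th b) * g⁻¹ = (g * a * g⁻¹) * th (g * b * g⁻¹) := by
  rw [h.th_conj g hg b hb]; group

/-- `g` commutes with `a * th b` iff it commutes with `a` and `b` -/
theorem comm_dec {g a b : G} (hg : g ∈ L) (ha : a ∈ V₁) (hb : b ∈ V₁) :
    g * (a * th b) = (a * th b) * g ↔ g * a = a * g ∧ g * b = b * g := by
  constructor
  · intro e
    have e1 := conj_eq e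
    rw [h.conj_dec hg hb] at e1
    obtain ⟨h1, h2⟩ := h.dec_uniq (h.norm₁ g hg a ha) (h.norm₁ g hg b hb) ha hb e1
    exact ⟨eq_conj h1, eq_conj h2⟩
  · rintro ⟨h1, h2⟩
    apply eq_conj
    rw [h.conj_dec hg hb, conj_eq h1, conj_eq h2]

theorem comm_th {g b : G} (hg : g ∈ L) (hb : b ∈ V₁) : g * th b = th b * g ↔ g * b = b * g := by
  have h1 := h.comm_dec hg (one_mem V₁) hb
  rw [one_mul] at h1
  rw [h1]
  simp

theorem Z_le : Z ≤ V := fun v hv => ((h.Zmem v).1 hv).1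

theorem Z_dec {a b : G} (ha : a ∈ V₁) (hb : b ∈ V₁) : a * th b ∈ Z ↔ a ∈ Z ∧ b ∈ Z := by
  rw [h.Zmem, h.Zmem, h.Zmem]
  constructor
  · rintro ⟨-, h1⟩
    exact ⟨⟨h.le₁ ha, fun s hs => ((h.comm_dec (h.SL hs) ha hb).1 (h1 s hs)).1⟩,
      h.le₁ hb, fun s hs => ((h.comm_dec (h.SL hs) ha hb).1 (h1 s hs)).2⟩
  · rintro ⟨⟨-, h1⟩, -, h2⟩
    exact ⟨mul_mem (h.le₁ ha) (h.th_memV hb), fun s hs => (h.comm_dec (h.SL hs) ha hb).2 ⟨h1 s hs, h2 s hs⟩⟩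

theorem th_Z {b : G} (hb : b ∈ V₁) : th b ∈ Z ↔ b ∈ Z := by
  have h1 := h.Z_dec (one_mem V₁) hb
  rw [one_mul] at h1
  rw [h1]
  exact ⟨fun h2 => h2.2, fun h2 => ⟨one_mem _, h2⟩⟩

variable [Finite G]

theorem card_inf : Nat.card (V₁ ⊓ Z : Subgroup G) = 2 := by
  have h1 : Nat.card Z = Nat.card (V₁ ⊓ Z : Subgroup G) * Nat.card (V₁ ⊓ Z : Subgroup G) := by
    rw [← Nat.card_prod]
    refine (Nat.card_congr (Equiv.ofBijective (fun p : (V₁ ⊓ Z : Subgroup G) × (V₁ ⊓ Z : Subgroup G) =>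
      (⟨(p.1 : G) * th p.2, (h.Z_dec p.1.2.1 p.2.2.1).2 ⟨p.1.2.2, p.2.2.2⟩⟩ : Z)) ⟨?_, ?_⟩)).symm
    · rintro ⟨⟨a, ha⟩, ⟨b, hb⟩⟩ ⟨⟨a', ha'⟩, ⟨b', hb'⟩⟩ e
      obtain ⟨h1, h2⟩ := h.dec_uniq ha.1 hb.1 ha'.1 hb'.1 (congrArg Subtype.val e)
      exact Prod.ext (Subtype.ext h1) (Subtype.ext h2)
    · rintro ⟨v, hv⟩
      obtain ⟨a, ha, b, hb, rfl⟩ := h.exists_dec (h.Z_le hv)
      obtain ⟨h1, h2⟩ := (h.Z_dec ha hb).1 hv
      exact ⟨(⟨a, ha, h1⟩, ⟨b, hb, h2⟩), rfl⟩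
  rw [h.cardZ] at h1
  nlinarith

/-- the generator `z` of `V₁ ∩ Z` -/
theorem exists_z : ∃ z ∈ V₁, z ∈ Z ∧ z ≠ 1 ∧ ∀ v ∈ V₁, v ∈ Z → v = 1 ∨ v = z := by
  have h1 := (Nat.card_eq_two_iff' (1 : (V₁ ⊓ Z : Subgroup G))).1 h.card_inf
  obtain ⟨⟨z, hz⟩, hz1, hu⟩ := h1
  refine ⟨z, hz.1, hz.2, fun h0 => hz1 (Subtype.ext h0), fun v hv hvZ => ?_⟩
  by_cases hv1 : v = 1
  · exact Or.inl hv1
  · right
    have := hu ⟨v, hv, hvZ⟩ (fun h0 => hv1 (congrArg Subtype.val h0))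
    exact congrArg Subtype.val this

end NG

/-- with the generator `z` of `V₁ ∩ Z` -/
structure NZ (S L V Z V₁ V₂ : Subgroup G) (th : G → G) (z : G) : Prop extends NG S L V Z V₁ V₂ th where
  z₁ : z ∈ V₁
  zZ : z ∈ Z
  z_ne : z ≠ 1
  only : ∀ v ∈ V₁, v ∈ Z → v = 1 ∨ v = z

theorem NG.exists_nz [Finite G] {S L V Z V₁ V₂ : Subgroup G} {th : G → G} (h : NG S L V Z V₁ V₂ th) :
    ∃ z, NZ S L V Z V₁ V₂ th z := by
  obtain ⟨z, h1, h2, h3, h4⟩ := h.exists_z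
  exact ⟨z, h, h1, h2, h3, h4⟩

namespace NZ

variable {S L V Z V₁ V₂ : Subgroup G} {th : G → G} {z : G} (h : NZ S L V Z V₁ V₂ th z)
include h

theorem Z_cases {v : G} (hv : v ∈ Z) : v = 1 ∨ v = z ∨ v = th z ∨ v = z * th z := by
  obtain ⟨a, ha, b, hb, rfl⟩ := h.exists_dec (h.Z_le hv)
  obtain ⟨h1, h2⟩ := (h.Z_dec ha hb).1 hv
  rcases h.only a ha h1 with rfl | rfl <;> rcases h.only b hb h2 with rfl | rfl
  · left; rw [h.th_one, one_mul]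
  · right; right; left; rw [one_mul]
  · right; left; rw [h.th_one, mul_one]
  · right; right; right; rfl

theorem thz : th z ∈ Z := (h.th_Z h.z₁).2 h.zZ

/-- `C_L(z)` centralises `Z` -/
theorem comm_Z {g : G} (hg : g ∈ L) (hz : g * z = z * g) {v : G} (hv : v ∈ Z) : g * v = v * g := by
  have h1 : g * th z = th z * g := (h.comm_th hg h.z₁).2 hz
  rcases h.Z_cases hv with rfl | rfl | rfl | rfl
  · rw [mul_one, one_mul]
  · exact hz
  · exact h1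
  · rw [← mul_assoc, hz, mul_assoc, h1, mul_assoc]

/-- elements of `L` normalising `Z` fix `z` -/
theorem comm_of_norm {g : G} (hg : g ∈ L) (hn : ∀ v ∈ Z, g * v * g⁻¹ ∈ Z) : g * z = z * g := by
  apply eq_conj
  rcases h.only _ (h.norm₁ g hg z h.z₁) (hn z h.zZ) with h1 | h1
  · exfalso
    apply h.z_ne
    have e : z = g⁻¹ * (g * z * g⁻¹) * g := by group
    rw [e, h1]; group
  · exact h1

theorem ind {a b : G} (ha : a ∈ V₁) (hb : b ∈ V₁) (haZ : a ∉ Z) (hbZ : b ∉ Z) (hab : a * b ∉ Z) : Ind z a b := by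
  have haZ' : ∀ x ∈ Z, a ≠ x := fun x hx e => haZ (e ▸ hx)
  have hbZ' : ∀ x ∈ Z, b ≠ x := fun x hx e => hbZ (e ▸ hx)
  have h1 : b ≠ a := by
    rintro rfl
    rw [h.sq b (h.le₁ hb)] at hab
    exact hab (one_mem _)
  have h2 : b ≠ z * a := by
    intro e
    apply hab
    rw [e, ← mul_assoc, h.comm a (h.le₁ ha) z (h.le₁ h.z₁), mul_assoc, h.sq a (h.le₁ ha), mul_one]
    exact h.zZ
  exact ⟨h.z_ne, haZ' 1 (one_mem _), haZ' z h.zZ, hbZ' 1 (one_mem _), hbZ' z h.zZ, h1, h2⟩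

variable [Finite G]

/-- a third element independent of `z`, `a` -/
theorem exists_third {a : G} (ha : a ∈ V₁) (haZ : a ∉ Z) : ∃ b ∈ V₁, b ∉ Z ∧ a * b ∉ Z := by
  classical
  by_contra hcon
  push Not at hcon
  -- `V₁ ⊆ {1, z, a, a z}`
  have hle : (V₁ : Set G) ⊆ ↑({1, z, a, a * z} : Finset G) := by
    intro b hb
    simp only [Finset.coe_insert, Finset.coe_singleton, Set.mem_insert_iff, Set.mem_singleton_iff]
    by_cases hbZ : b ∈ Z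
    · rcases h.only b hb hbZ with h1 | h1
      · exact Or.inl h1
      · exact Or.inr (Or.inl h1)
    · have h1 := hcon b hb hbZ
      have hm : b = a * (a * b) := by rw [← mul_assoc, h.sq a (h.le₁ ha), one_mul]
      rcases h.only _ (mul_mem ha hb) h1 with h2 | h2
      · rw [h2, mul_one] at hm
        exact Or.inr (Or.inr (Or.inl hm))
      · rw [h2] at hm
        exact Or.inr (Or.inr (Or.inr hm))
  have h1 := Set.ncard_le_ncard hle (Set.toFinite _)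
  rw [Set.ncard_coe_finset] at h1
  have h2 : Set.ncard (V₁ : Set G) = 8 := by
    rw [← h.card₁, ← Nat.card_coe_set_eq]; rfl
  have h3 : ({1, z, a, a * z} : Finset G).card ≤ 4 := Finset.card_le_four
  omega

/-- `C_L(z)` is transitive on the pairs `(a, b)` with `z, a, b` independent -/
theorem trans {a b a' b' : G} (ha : a ∈ V₁) (hb : b ∈ V₁) (haZ : a ∉ Z) (hbZ : b ∉ Z) (hab : a * b ∉ Z)
    (ha' : a' ∈ V₁) (hb' : b' ∈ V₁) (haZ' : a' ∉ Z) (hbZ' : b' ∉ Z) (hab' : a' * b' ∉ Z) :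
    ∃ g ∈ L, g * z = z * g ∧ g * a * g⁻¹ = a' ∧ g * b * g⁻¹ = b' := by
  obtain ⟨g, hg, h1, h2, h3⟩ := h.tri z h.z₁ a ha b hb z h.z₁ a' ha' b' hb' (h.ind ha hb haZ hbZ hab)
    (h.ind ha' hb' haZ' hbZ' hab')
  exact ⟨g, hg, eq_conj h1, h2, h3⟩

/-- (d): `Z ≤ Y ≤ V` invariant under `C_L(z)`, `|Y| ≤ 8`: `Y = Z` -/
theorem eq_Z {Y : Subgroup G} (hY : Y ≤ V) (hZ : Z ≤ Y) (hn : ∀ g ∈ L, g * z = z * g → ∀ y ∈ Y, g * y * g⁻¹ ∈ Y)
    (h8 : Nat.card Y ≤ 8) : Y = Z := by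
  classical
  refine le_antisymm ?_ hZ
  by_contra hcon
  obtain ⟨y, hy, hyZ⟩ := SetLike.not_le_iff_exists.1 hcon
  obtain ⟨a, ha, b, hb, rfl⟩ := h.exists_dec (hY hy)
  rw [h.Z_dec ha hb, not_and_or] at hyZ
  -- there is `g ∈ C_L(z)` with `y y^g ∉ Z`, `y^g ∉ Z`
  have key : ∃ g ∈ L, g * z = z * g ∧ (a * th b) * (g * (a * th b) * g⁻¹) ∉ Z := by
    have hform : ∀ g ∈ L, (a * th b) * (g * (a * th b) * g⁻¹) ∈ Z ↔
        a * (g * a * g⁻¹) ∈ Z ∧ b * (g * b * g⁻¹) ∈ Z := by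
      intro g hg
      rw [← h.Z_dec (mul_mem ha (h.norm₁ g hg a ha)) (mul_mem hb (h.norm₁ g hg b hb)), h.conj_dec hg hb,
        h.th_mul b hb _ (h.norm₁ g hg b hb)]
      have e : a * th b * (g * a * g⁻¹ * th (g * b * g⁻¹)) =
          a * (g * a * g⁻¹) * (th b * th (g * b * g⁻¹)) := by
        have h1 := h.comm (th b) (h.th_memV hb) _ (h.le₁ (h.norm₁ g hg a ha))
        calc a * th b * (g * a * g⁻¹ * th (g * b * g⁻¹)) = a * (th b * (g * a * g⁻¹)) * th (g * b * g⁻¹) := by group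
          _ = a * ((g * a * g⁻¹) * th b) * th (g * b * g⁻¹) := by rw [h1]
          _ = _ := by group
      rw [e]
    rcases hyZ with haZ | hbZ
    · obtain ⟨c, hc, hcZ, hac⟩ := h.exists_third ha haZ
      have hcaZ : c * a ∉ Z := by rw [h.comm c (h.le₁ hc) a (h.le₁ ha)]; exact hac
      obtain ⟨g, hg, h1, h2, h3⟩ := h.trans ha hc haZ hcZ hac hc ha hcZ haZ hcaZ
      refine ⟨g, hg, h1, fun hmem => ?_⟩
      rw [hform g hg, h2] at hmem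
      exact hac hmem.1
    · obtain ⟨c, hc, hcZ, hac⟩ := h.exists_third hb hbZ
      have hcaZ : c * b ∉ Z := by rw [h.comm c (h.le₁ hc) b (h.le₁ hb)]; exact hac
      obtain ⟨g, hg, h1, h2, h3⟩ := h.trans hb hc hbZ hcZ hac hc hb hcZ hbZ hcaZ
      refine ⟨g, hg, h1, fun hmem => ?_⟩
      rw [hform g hg, h2] at hmem
      exact hac hmem.2
  obtain ⟨g, hg, hgz, hgy⟩ := key
  obtain ⟨y, hyd⟩ : ∃ y, y = a * th b := ⟨_, rfl⟩
  rw [← hyd] at hy hgy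
  have hyZ : y ∉ Z := by rw [hyd, h.Z_dec ha hb, not_and_or]; exact hyZ
  have hg2 : g * y * g⁻¹ ∈ Y := hn g hg hgz y hy
  have hg3 : g * y * g⁻¹ ∉ Z := by
    intro h1
    apply hyZ
    have h2 : g⁻¹ ∈ L := inv_mem hg
    have h3 : g⁻¹ * z = z * g⁻¹ := by
      rw [← mul_left_cancel_iff (a := g), ← mul_assoc, mul_inv_cancel, one_mul, ← mul_assoc, hgz, mul_assoc,
        mul_inv_cancel, mul_one]
    have h4 := conj_eq (h.comm_Z h2 h3 h1)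
    have e : g⁻¹ * (g * y * g⁻¹) * g⁻¹⁻¹ = y := by group
    rw [e] at h4
    rw [h4]; exact h1
  -- `|Y| ≥ 16`
  have hd1 : Nat.card Z ∣ Nat.card Y := card_dvd_of_le hZ
  have hrel : Z.relIndex Y ≤ 2 := by
    have h1 := relIndex_mul_relIndex (⊥ : Subgroup G) Z Y bot_le hZ
    rw [relIndex_bot_left, relIndex_bot_left, h.cardZ] at h1
    omega
  have hc : ∀ x ∈ Y, x ∉ Z → ∀ w ∈ Y, w ∉ Z → x * w ∈ Z := by
    have hr2 : Z.relIndex Y = 2 := by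
      have h1 : Z.relIndex Y ≠ 0 := by rw [Subgroup.relIndex]; exact index_ne_zero_of_finite
      have h2 : Z.relIndex Y ≠ 1 := fun h2 => hyZ (relIndex_eq_one.1 h2 hy)
      omega
    intro x hx hxZ w hw hwZ
    exact ZN.Block.mul_mem_of_relIndex_two hr2 hx hw hxZ hwZ
  exact hgy (hc y hy hyZ _ hg2 hg3)

end NZ

end Cfsg.Agent.OddCyclic.Emp3.NNBase
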