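import Cfsg.Agent.OddCyclic.Emp3.NNLine
import Cfsg.Agent.OddCyclic.Emp3.Count
import Cfsg.Agent.OddCyclic.Emp3.Seven
import Cfsg.Agent.OddCyclic.EmpG.Sec1
import Cfsg.Agent.OddCyclic.EmpG.SecOne3

/-!
# (Empty), (III), section 4: the modules `U₁`, `U₂`

`L : Ln S I N V P`, `V = N ⊗ F₂²` (`t : NT …`), `C_V(N) = Z`:  `W₁ = ⟨V₁^N⟩`, `W₂ = ⟨V₂^N⟩`.

* `sit_of` : (NOO) applies to `W_i Z / D`, `D = (W₁ ∩ W₂) Z`;
* `seven` : `N / O₂(N)` is simple of order 168 and `|W : C_W(A)| ≤ 8`.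
-/

set_option autoImplicit false
set_option linter.unusedSectionVars false

namespace Cfsg.Agent.OddCyclic.Emp3.NNCount

open Subgroup Cfsg Cfsg.Agent.ZN Cfsg.Agent.ZN.ChoiceBase Cfsg.Agent.ZN.ChoiceSit
open Cfsg.Agent.MinSimple Cfsg.Agent.MinSimple.EmptyTI Cfsg.Agent.MinSimple.EmptySix
open Cfsg.Agent.MinSimple.EmptyE.Closed (LL vv_mul_self vv_le)
open Cfsg.Agent.OddCyclic.EmpFrame
open Cfsg.Agent.OddCyclic.EmpG.Line (conj_mem conj_mem')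
open Cfsg.Agent.OddCyclic.EmpG.Pcs
open Cfsg.Agent.OddCyclic.EmpG.Sec1
open Cfsg.Agent.OddCyclic.Emp3.Noo (cq mem_cq normalizer_le_o2)
open Cfsg.Agent.OddCyclic.Emp3.NooG (cw mem_cw le_cw relIndex_cw_le Sit)
open Cfsg.Agent.OddCyclic.Emp3.NNBase Cfsg.Agent.OddCyclic.Emp3.NNLine

universe u

variable {G : Type u} [Group G] [Finite G]

theorem normalizer_sup {X A B : Subgroup G} (h1 : X ≤ normalizer (A : Set G)) (h2 : X ≤ normalizer (B : Set G)) :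
    X ≤ normalizer ((A ⊔ B : Subgroup G) : Set G) := by
  intro x hx
  have e1 := mem_normalizer_iff_cj.1 (h1 hx)
  have e2 := mem_normalizer_iff_cj.1 (h2 hx)
  rw [mem_normalizer_iff_cj]
  show Subgroup.map (MulAut.conj x).toMonoidHom (A ⊔ B) = A ⊔ B
  rw [Subgroup.map_sup]
  exact congrArg₂ (· ⊔ ·) e1 e2

theorem normalizer_of_comm {X A : Subgroup G} (h : ∀ x ∈ X, ∀ a ∈ A, x * a = a * x) :
    X ≤ normalizer (A : Set G) := by
  refine Block.le_normalizer_of_forall fun x hx a ha => ?_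
  rw [h x hx a ha, mul_inv_cancel_right]
  exact ha

/-- `B` normalises `⟨F^N⟩` -/
theorem le_normalizer_jcl_of {X F N : Subgroup G} (h1 : X ≤ normalizer (F : Set G)) (h2 : X ≤ normalizer (N : Set G)) :
    X ≤ normalizer (jcl F N : Set G) := by
  intro x hx
  rw [mem_normalizer_iff_cj, ← jcl_cj, mem_normalizer_iff_cj.1 (h1 hx), mem_normalizer_iff_cj.1 (h2 hx)]

variable {S : Sylow 2 G} {I N P : Subgroup G}

section W

variable (L : Ln S I N (vv (S : Subgroup G)) P) (hW : ∀ x ∈ jcl (vv (S : Subgroup G)) N,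
  ∀ y ∈ jcl (vv (S : Subgroup G)) N, x * y = y * x)

include L hW

/-- `[Q, ⟨F^N⟩] ≤ X` if `[T, F] ≤ X`, `X ≤ Y` -/
theorem comm_jcl {F X : Subgroup G} (hF : F ≤ vv (S : Subgroup G)) (hX : X ≤ yy N (vv (S : Subgroup G)))
    (hT : ∀ t ∈ o2 (bb I P), ∀ x ∈ F, t * x * t⁻¹ * x⁻¹ ∈ X) :
    ∀ q ∈ o2 (N ⊔ bb I P), ∀ w ∈ jcl F N, q * w * q⁻¹ * w⁻¹ ∈ X := by
  intro q hq
  have hQT : o2 (N ⊔ bb I P) ≤ o2 (bb I P) := UniStruct.o2_le_o2 S L.SB le_sup_right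
  have hFW : jcl F N ≤ jcl (vv (S : Subgroup G)) N := jcl_le fun n hn => (cj_mono n hF).trans (cj_le_jcl hn)
  have hXW : X ≤ jcl (vv (S : Subgroup G)) N := hX.trans (inf_le_left.trans (le_jcl _ _))
  have hWX : jcl (vv (S : Subgroup G)) N ≤ normalizer (X : Set G) :=
    normalizer_of_comm fun w hw x hx => hW w hw x (hXW hx)
  have hNX : N ≤ normalizer (X : Set G) := normalizer_of_comm fun n hn x hx => L.NY x (hX hx) n hn
  have h1 : jcl F N ≤ c1 X q := jcl_le fun n hn => by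
    rintro w hw
    have hw' := hWX (hFW (cj_le_jcl hn hw))
    rw [mem_cj] at hw
    refine ⟨hw', ?_⟩
    have hnH : n ∈ N ⊔ bb I P := mem_sup_left hn
    have h2 := hT _ (hQT (conj_mem' (Block.le_normalizer_o2 _ hnH) hq)) _ hw
    have h3 := conj_mem (hNX hn) h2
    have e : n * (n⁻¹ * q * n * (n⁻¹ * w * n) * (n⁻¹ * q * n)⁻¹ * (n⁻¹ * w * n)⁻¹) * n⁻¹ = q * w * q⁻¹ * w⁻¹ := by
      group
    rwa [e] at h3
  exact fun w hw => (h1 hw).2

/-- the setting of (NOO) for `⟨F^N⟩ Y / D` -/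
theorem sit_of (hsq : ∀ x ∈ jcl (vv (S : Subgroup G)) N, x * x = 1) {F D A : Subgroup G}
    (hF : F ≤ vv (S : Subgroup G)) (hBF : bb I P ≤ normalizer (F : Set G))
    (hT : ∀ t ∈ o2 (bb I P), ∀ x ∈ F, t * x * t⁻¹ * x⁻¹ ∈ yy N (vv (S : Subgroup G)))
    (hne : ¬ F ≤ yy N (vv (S : Subgroup G))) (hYD : yy N (vv (S : Subgroup G)) ≤ D)
    (hD : D ≤ jcl F N ⊔ yy N (vv (S : Subgroup G))) (hDN : ∀ d ∈ D, ∀ n ∈ N, n * d = d * n)
    (hA : A ≤ bb I P) (hAD : A ≤ normalizer (D : Set G)) (hA2 : ∀ a ∈ A, a * a = 1) :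
    Sit N A (jcl F N ⊔ yy N (vv (S : Subgroup G))) D := by
  have hFW : jcl F N ≤ jcl (vv (S : Subgroup G)) N := jcl_le fun n hn => (cj_mono n hF).trans (cj_le_jcl hn)
  have hYW : yy N (vv (S : Subgroup G)) ≤ jcl (vv (S : Subgroup G)) N := inf_le_left.trans (le_jcl _ _)
  have hUW : jcl F N ⊔ yy N (vv (S : Subgroup G)) ≤ jcl (vv (S : Subgroup G)) N := sup_le hFW hYW
  have hDW := hD.trans hUW
  have hBN : bb I P ≤ normalizer (N : Set G) := Ln.BM.trans L.hN.pc.norm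
  refine
    { YW := hD
      WY := normalizer_of_comm fun w hw d hd => hW w (hUW hw) d (hDW hd)
      sqW := fun w hw => by rw [hsq w (hUW hw)]; exact one_mem _
      NW := normalizer_sup (le_normalizer_jcl _ _) (le_sup_left.trans L.HY)
      NY := normalizer_of_comm fun n hn d hd => hDN d hd n hn
      AW := normalizer_sup (le_normalizer_jcl_of (hA.trans hBF) (hA.trans hBN)) (hA.trans L.BY)
      AY := hAD
      AN := hA.trans hBN
      sq := hA2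
      min := fun K hK hn => pc_min L.h.hyp.cyc L.hN.pc hK hn
      n2 := L.hN.pc.not_isPGroup
      triv := ?_
      ne := ?_ }
  · intro n hn w hw
    have hnQ := o2N_le_H L.hN L.SB Ln.BM hn
    have h1 := comm_jcl L hW hF le_rfl hT n hnQ
    have hWY : jcl (vv (S : Subgroup G)) N ≤ normalizer (yy N (vv (S : Subgroup G)) : Set G) :=
      normalizer_of_comm fun w hw x hx => hW w hw x (hYW hx)
    have h2 : jcl F N ⊔ yy N (vv (S : Subgroup G)) ≤ c1 (yy N (vv (S : Subgroup G))) n := by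
      refine sup_le (fun w hw => ⟨hWY (hFW hw), h1 w hw⟩) fun y hy => ⟨hWY (hYW hy), ?_⟩
      have h3 := L.NY y hy n (Block.o2_le N hn)
      rw [h3]
      have e : y * n * n⁻¹ * y⁻¹ = 1 := by group
      rw [e]; exact one_mem _
    exact hYD (h2 hw).2
  · by_contra hcon
    push Not at hcon
    apply hne
    intro v hv
    have h1 := pc_comm_of L.h.hyp.cyc L.hN.pc (v := v) (Y := D) (fun y hy => hsq y (hDW hy)) hDN (fun n hn => by
      have h2 := hcon n hn v (mem_sup_left (le_jcl _ _ hv))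
      have e : v * n * v⁻¹ * n⁻¹ = (n * v * n⁻¹ * v⁻¹)⁻¹ := by group
      rw [e]; exact inv_mem h2)
    exact Ln.mem_Y (hF hv) fun n hn => (h1 n hn).symm

end W

section main

variable {V₁ V₂ : Subgroup G} {th : G → G} {z : G}
  (L : Ln S I N (vv (S : Subgroup G)) P)
  (t : NT (S : Subgroup G) (LL (S : Subgroup G)) (vv (S : Subgroup G)) (zc (S : Subgroup G)) V₁ V₂ th z (bb I P)
    (o2 (bb I P)))
  (hY : yy N (vv (S : Subgroup G)) = zc (S : Subgroup G))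

include t in
theorem comm₂ {s v : G} (hs : s ∈ o2 (bb I P)) (hv : v ∈ V₂) : s * v * s⁻¹ * v⁻¹ ∈ V₂ ⊓ zc (S : Subgroup G) := by
  obtain ⟨a, ha, rfl⟩ := t.th_surj v hv
  have h1 := t.comm₁ hs ha
  have hsa := t.norm₁ s (t.TL hs) a ha
  have e : s * th a * s⁻¹ * (th a)⁻¹ = th (s * a * s⁻¹ * a⁻¹) := by
    rw [t.th_mul _ hsa _ (inv_mem ha), t.th_conj s (t.TL hs) a ha, t.inv (t.th_memV ha), t.inv (t.le₁ ha)]
  rw [e]
  exact ⟨t.th_mem _ h1.1, (t.th_Z h1.1).2 h1.2⟩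

include t hY in
theorem lp3 : ∀ x ∈ vv (S : Subgroup G), ∀ s ∈ o2 (bb I P), s * x * s⁻¹ * x⁻¹ ∈ yy N (vv (S : Subgroup G)) := by
  intro x hx s hs
  rw [hY]
  exact t.commV hs hx

include L t hY in
/-- (*) for `F = V`, `k = 2` -/
theorem exists_star : ∃ (A : Subgroup G) (a a' c : ℕ), Star S I N (vv (S : Subgroup G)) P A 2 0 a a' c := by
  refine L.star (lp3 t hY) (fun E hE _ => t.kk hE) (fun w _ _ => ?_) (fun y h1 h2 _ => ?_)
  · rw [pow_zero]; exact Nat.one_le_iff_ne_zero.2 (by rw [Subgroup.relIndex]; exact index_ne_zero_of_finite)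
  · exact ev_of_two (fun E hE _ => t.kk hE) (fun v hv => vv_mul_self hv) h1 h2

include L t hY in
/-- **section 4, first part** -/
theorem seven {A : Subgroup G} {a a' c : ℕ} (st : Star S I N (vv (S : Subgroup G)) P A 2 0 a a' c)
    (hF : ∀ (D : Subgroup ↥(N ⊔ A)) [D.Normal], RedFFDefs.FFC (↥(N ⊔ A) ⧸ D)) :
    (o2 N).relIndex N = 168 ∧ IsSimpleGroup (N ⧸ pCore 2 N) ∧
      (jcl (vv (S : Subgroup G)) N ⊓ centralizer (A : Set G)).relIndex (jcl (vv (S : Subgroup G)) N) ≤ 8 := by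
  have hA : A ≤ bb I P := st.AS.trans L.SB
  have hAN : A ≤ normalizer (N : Set G) := hA.trans (Ln.BM.trans L.hN.pc.norm)
  have e1 := st.one_le
  have e2 := st.a'_le
  have e3 := st.kc
  by_cases h7 : (o2 N).relIndex N = 168 ∧ IsSimpleGroup (N ⧸ pCore 2 N)
  · refine ⟨h7.1, h7.2, ?_⟩
    have h8 := Seven.relIndex_le_four h7.2 h7.1 hAN st.Asq
    rw [st.ia] at h8
    have ha2 : a ≤ 2 := by
      by_contra h9
      have := Nat.pow_le_pow_right (n := 2) (by norm_num) (show 3 ≤ a by omega)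
      omega
    refine st.iW.trans ?_
    have : a' + c ≤ 3 := by omega
    calc 2 ^ (a' + c) ≤ 2 ^ 3 := Nat.pow_le_pow_right (by norm_num) this
      _ = 8 := by norm_num
  exfalso
  -- (1.3)
  have hzc : N ≤ centralizer (zc (o2 (N ⊔ bb I P)) : Set G) :=
    EmpG.SecOne3.comm_zc_of_weak L.h L.h.empw L.hI L.hN h7 L.SB Ln.BM
  obtain ⟨W, hWd⟩ : ∃ W, W = jcl (vv (S : Subgroup G)) N := ⟨_, rfl⟩
  obtain ⟨W₁, h₁d⟩ : ∃ W₁, W₁ = jcl V₁ N := ⟨_, rfl⟩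
  obtain ⟨W₂, h₂d⟩ : ∃ W₂, W₂ = jcl V₂ N := ⟨_, rfl⟩
  obtain ⟨D, hDd⟩ : ∃ D, D = (W₁ ⊓ W₂) ⊔ yy N (vv (S : Subgroup G)) := ⟨_, rfl⟩
  have hVW : vv (S : Subgroup G) ≤ W := hWd ▸ le_jcl _ _
  have hYW : yy N (vv (S : Subgroup G)) ≤ W := inf_le_left.trans hVW
  have hV₁ : V₁ ≤ W₁ := h₁d ▸ le_jcl _ _
  have hV₂ : V₂ ≤ W₂ := h₂d ▸ le_jcl _ _
  have h₁W : W₁ ≤ W := by
    rw [h₁d, hWd]; exact jcl_le fun n hn => (cj_mono n t.le₁).trans (cj_le_jcl hn)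
  have h₂W : W₂ ≤ W := by
    rw [h₂d, hWd]; exact jcl_le fun n hn => (cj_mono n t.le₂).trans (cj_le_jcl hn)
  have hWc : ∀ x ∈ W, ∀ y ∈ W, x * y = y * x := by rw [hWd]; exact st.Wcomm
  have hWs : ∀ x ∈ W, x * x = 1 := by rw [hWd]; exact st.Wsq
  have hB₁ : bb I P ≤ normalizer (V₁ : Set G) :=
    Block.le_normalizer_of_forall fun b hb v hv => t.norm₁ b (t.BL hb) v hv
  have hB₂ : bb I P ≤ normalizer (V₂ : Set G) :=
    Block.le_normalizer_of_forall fun b hb v hv => t.norm₂ b (t.BL hb) v hv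
  have hAW₁ : A ≤ normalizer (W₁ : Set G) := by rw [h₁d]; exact le_normalizer_jcl_of (hA.trans hB₁) hAN
  have hAW₂ : A ≤ normalizer (W₂ : Set G) := by rw [h₂d]; exact le_normalizer_jcl_of (hA.trans hB₂) hAN
  -- `[W_i, Q]`
  have hc₁ : ∀ q ∈ o2 (N ⊔ bb I P), ∀ w ∈ W₁, q * w * q⁻¹ * w⁻¹ ∈ V₁ ⊓ zc (S : Subgroup G) := by
    rw [h₁d]
    exact comm_jcl L st.Wcomm t.le₁ (by rw [hY]; exact inf_le_right) fun s hs x hx => t.comm₁ hs hx
  have hc₂ : ∀ q ∈ o2 (N ⊔ bb I P), ∀ w ∈ W₂, q * w * q⁻¹ * w⁻¹ ∈ V₂ ⊓ zc (S : Subgroup G) := by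
    rw [h₂d]
    exact comm_jcl L st.Wcomm t.le₂ (by rw [hY]; exact inf_le_right) fun s hs x hx => comm₂ t hs hx
  -- `N` centralises `W₁ ∩ W₂`
  have hD₀ : ∀ d ∈ W₁ ⊓ W₂, ∀ n ∈ N, n * d = d * n := by
    intro d hd n hn
    have h1 : d ∈ zc (o2 (N ⊔ bb I P)) := by
      refine mem_zc.2 ⟨st.WQ (by rw [← hWd]; exact h₁W hd.1), by rw [pow_two]; exact hWs d (h₁W hd.1), fun q hq => ?_⟩
      have h2 : q * d * q⁻¹ * d⁻¹ ∈ V₁ ⊓ V₂ := ⟨(hc₁ q hq d hd.1).1, (hc₂ q hq d hd.2).1⟩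
      rw [t.inf, mem_bot, mul_inv_eq_one, mul_inv_eq_iff_eq_mul] at h2
      exact h2
    exact (mem_centralizer_iff.1 (hzc hn) d h1).symm
  have hDN : ∀ d ∈ D, ∀ n ∈ N, n * d = d * n := by
    have h1 : D ≤ centralizer (N : Set G) := by
      rw [hDd]
      refine sup_le (fun d hd => mem_centralizer_iff.2 fun n hn => hD₀ d hd n hn) inf_le_right
    exact fun d hd n hn => mem_centralizer_iff.1 (h1 hd) n hn
  have hAD : A ≤ normalizer (D : Set G) := by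
    rw [hDd]
    exact normalizer_sup ((le_inf hAW₁ hAW₂).trans inf_normalizer_le_normalizer_inf) (hA.trans L.BY)
  have hYD : yy N (vv (S : Subgroup G)) ≤ D := hDd ▸ le_sup_right
  have hD₁ : D ≤ W₁ ⊔ yy N (vv (S : Subgroup G)) := by
    rw [hDd]; exact sup_le (inf_le_left.trans le_sup_left) le_sup_right
  have hD₂ : D ≤ W₂ ⊔ yy N (vv (S : Subgroup G)) := by
    rw [hDd]; exact sup_le (inf_le_right.trans le_sup_left) le_sup_right
  have hne₁ : ¬ V₁ ≤ yy N (vv (S : Subgroup G)) := by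
    rw [hY]
    intro h0
    have h1 := t.card_inf
    rw [inf_eq_left.2 h0, t.card₁] at h1
    omega
  have hne₂ : ¬ V₂ ≤ yy N (vv (S : Subgroup G)) := by
    rw [hY] at hne₁ ⊢
    exact fun h0 => hne₁ fun a ha => (t.th_Z ha).1 (h0 (t.th_mem a ha))
  have hlp := lp3 t hY
  have sit₁ : Sit N A (W₁ ⊔ yy N (vv (S : Subgroup G))) D := by
    rw [h₁d]
    exact sit_of L st.Wcomm st.Wsq t.le₁ hB₁ (fun s hs x hx => hlp x (t.le₁ hx) s hs) hne₁ hYD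
      (by rw [← h₁d]; exact hD₁) hDN hA hAD st.Asq
  have sit₂ : Sit N A (W₂ ⊔ yy N (vv (S : Subgroup G))) D := by
    rw [h₂d]
    exact sit_of L st.Wcomm st.Wsq t.le₂ hB₂ (fun s hs x hx => hlp x (t.le₂ hx) s hs) hne₂ hYD
      (by rw [← h₂d]; exact hD₂) hDN hA hAD st.Asq
  -- the intersection
  have hdec : ∀ y ∈ yy N (vv (S : Subgroup G)), ∃ y₁ ∈ V₁, ∃ y₂ ∈ V₂, y₁ ∈ yy N (vv (S : Subgroup G)) ∧
      y₂ ∈ yy N (vv (S : Subgroup G)) ∧ y = y₁ * y₂ := by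
    rw [hY]
    intro y hy
    obtain ⟨a, ha, b, hb, rfl⟩ := t.exists_dec (t.Z_le hy)
    obtain ⟨h1, h2⟩ := (t.Z_dec ha hb).1 hy
    exact ⟨a, ha, th b, t.th_mem b hb, h1, (t.th_Z hb).2 h2, rfl⟩
  have hWY : ∀ {K : Subgroup G}, K ≤ W → K ≤ normalizer (yy N (vv (S : Subgroup G)) : Set G) := fun hK =>
    normalizer_of_comm fun w hw x hx => hWc w (hK hw) x (hYW hx)
  have hmem : ∀ {K : Subgroup G}, K ≤ W → ∀ x ∈ K ⊔ yy N (vv (S : Subgroup G)), ∃ k ∈ K,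
      ∃ y ∈ yy N (vv (S : Subgroup G)), x = k * y := by
    intro K hK x hx
    rw [← SetLike.mem_coe, Subgroup.coe_mul_of_left_le_normalizer_right _ _ (hWY hK)] at hx
    obtain ⟨k, hk, y, hy, rfl⟩ := hx
    exact ⟨k, hk, y, hy, rfl⟩
  have hDinf : (W₁ ⊔ yy N (vv (S : Subgroup G))) ⊓ (W₂ ⊔ yy N (vv (S : Subgroup G))) ≤ D := by
    rintro x ⟨hx1, hx2⟩
    obtain ⟨w₁, hw₁, y, hy, e1⟩ := hmem h₁W x hx1
    obtain ⟨w₂, hw₂, y', hy', e2⟩ := hmem h₂W x hx2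
    obtain ⟨a, ha, b, hb, haY, hbY, rfl⟩ := hdec y hy
    obtain ⟨a', ha', b', hb', haY', hbY', rfl⟩ := hdec y' hy'
    -- `u₁ b = u₂ a'`
    obtain ⟨u₁, hu₁⟩ : ∃ u, u = w₁ * a := ⟨_, rfl⟩
    obtain ⟨u₂, hu₂⟩ : ∃ u, u = w₂ * b' := ⟨_, rfl⟩
    have hu₁W : u₁ ∈ W₁ := by rw [hu₁]; exact mul_mem hw₁ (hV₁ ha)
    have hu₂W : u₂ ∈ W₂ := by rw [hu₂]; exact mul_mem hw₂ (hV₂ hb')
    have e3 : x = u₁ * b := by rw [e1, hu₁]; group
    have e4 : x = u₂ * a' := by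
      rw [e2, hu₂, hWc a' (hYW haY') b' (hYW hbY')]; group
    have hd₁ : u₁ * a' ∈ W₁ := mul_mem hu₁W (hV₁ ha')
    have hd₂ : u₁ * a' = u₂ * b := by
      have e5 : u₁ = u₂ * a' * b := by
        rw [← e4, e3, mul_assoc, hWs b (hYW hbY), mul_one]
      calc u₁ * a' = u₂ * a' * (b * a') := by rw [e5]; group
        _ = u₂ * a' * (a' * b) := by rw [hWc b (hYW hbY) a' (hYW haY')]
        _ = u₂ * (a' * a') * b := by group
        _ = u₂ * b := by rw [hWs a' (hYW haY'), mul_one]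
    have hd : u₁ * a' ∈ W₁ ⊓ W₂ := ⟨hd₁, by rw [hd₂]; exact mul_mem hu₂W (hV₂ hb)⟩
    have e6 : x = u₁ * a' * (a' * b) := by
      rw [e3]
      calc u₁ * b = u₁ * 1 * b := by rw [mul_one]
        _ = u₁ * (a' * a') * b := by rw [hWs a' (hYW haY')]
        _ = _ := by group
    rw [e6, hDd]
    exact mul_mem (mem_sup_left hd) (mem_sup_right (mul_mem haY' hbY))
  have hfac := Count.two_factor (Y := yy N (vv (S : Subgroup G))) (A := A) hWc (sup_le h₁W hYW) (sup_le h₂W hYW)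
    hDinf hD₁ hYD sit₁.AW sit₂.AW
  have hiW := st.iW'
  rw [← hWd] at hiW
  have n₁ := (sit₁.noo hF).resolve_right h7
  have n₂ := (sit₂.noo hF).resolve_right h7
  rw [st.ia] at n₁ n₂
  have n₃ : 2 ^ (a + a) ≤ 2 ^ (a' + c) := by
    rw [pow_add]
    exact (Nat.mul_le_mul n₁ n₂).trans (hfac.trans hiW)
  have n₄ := (Nat.pow_le_pow_iff_right (by norm_num)).1 n₃
  omega

end main

end Cfsg.Agent.OddCyclic.Emp3.NNCount
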