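import Mathlib
import Cfsg.Agent.OddCyclic.CompBasic
import Cfsg.Agent.OddCyclic.CycConj

/-!
# Normal subgroups with perfect quotient in groups with cyclic odd Sylow subgroups

`not_dvd` : `D` normal in `H`, `H` with cyclic odd Sylow subgroups, `H / D` perfect, `p` an odd prime dividing `|H / D|`:
`p` does not divide `|D|`.
-/

set_option autoImplicit false
set_option linter.unusedSectionVars false

namespace Cfsg.Agent.OddCyclic.Emp3.NNThree

open Subgroup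
open Cfsg.Agent.OddCyclic.T1Defs (OddCyc)

variable {H : Type*} [Group H]

/-- `H / D` is perfect -/
def Perf (D : Subgroup H) : Prop := ∀ R : Subgroup H, D ≤ R → (∀ a b : H, a * b * a⁻¹ * b⁻¹ ∈ R) → R = ⊤

/-- a covering subgroup -/
theorem exists_mul {D C : Subgroup H} [hD : D.Normal] (h : D ⊔ C = ⊤) (a : H) : ∃ d ∈ D, ∃ c ∈ C, a = d * c := by
  have h1 : a ∈ D ⊔ C := h ▸ mem_top a
  obtain ⟨d, hd, c, hc, e⟩ := mem_sup_of_normal_left.1 h1
  exact ⟨d, hd, c, hc, e.symm⟩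

/-- commutators modulo `D` -/
theorem comm_mem {D R : Subgroup H} [hD : D.Normal] (hDR : D ≤ R) {d d' c c' : H} (hd : d ∈ D) (hd' : d' ∈ D)
    (h : c * c' * c⁻¹ * c'⁻¹ ∈ R) : (d * c) * (d' * c') * (d * c)⁻¹ * (d' * c')⁻¹ ∈ R := by
  have h1 : (c * c' * c⁻¹ * c'⁻¹)⁻¹ * ((d * c) * (d' * c') * (d * c)⁻¹ * (d' * c')⁻¹) ∈ D := by
    rw [← QuotientGroup.eq]
    have e1 : (QuotientGroup.mk d : H ⧸ D) = 1 := (QuotientGroup.eq_one_iff _).2 hd
    have e2 : (QuotientGroup.mk d' : H ⧸ D) = 1 := (QuotientGroup.eq_one_iff _).2 hd'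
    simp only [QuotientGroup.mk_mul, QuotientGroup.mk_inv, e1, e2, one_mul]
  have h2 := R.mul_mem h (hDR h1)
  rwa [mul_inv_cancel_left] at h2

theorem perf_of_cover {D C : Subgroup H} [hD : D.Normal] (h : D ⊔ C = ⊤) (hp : Perf D) : Perf (D.subgroupOf C) := by
  intro R hR hc
  have h1 : D ⊔ R.map C.subtype = ⊤ := by
    refine hp _ le_sup_left fun a b => ?_
    obtain ⟨d, hd, c, hc', rfl⟩ := exists_mul h a
    obtain ⟨d', hd', c', hc'', rfl⟩ := exists_mul h b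
    refine comm_mem le_sup_left hd hd' (mem_sup_right ?_)
    exact ⟨_, hc ⟨c, hc'⟩ ⟨c', hc''⟩, rfl⟩
  rw [eq_top_iff]
  rintro ⟨c, hc'⟩ -
  obtain ⟨d, hd, r, hr, e⟩ := exists_mul h1 c
  obtain ⟨⟨r, hrC⟩, hrR, rfl⟩ := hr
  have e : c = d * r := e
  have hdC : d ∈ C := by
    have e1 : d = c * r⁻¹ := by rw [e]; group
    rw [e1]
    exact mul_mem hc' (inv_mem hrC)
  have h2 : (⟨d, hdC⟩ : C) ∈ R := hR hd
  have e2 : (⟨c, hc'⟩ : C) = ⟨d, hdC⟩ * ⟨r, hrC⟩ := Subtype.ext e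
  rw [e2]
  exact mul_mem h2 hrR

variable [Finite H]

/-- a perfect normal subgroup covering `H / D` -/
theorem exists_perfect {D : Subgroup H} [hD : D.Normal] (hp : Perf D) :
    ∃ R : Subgroup H, R.Normal ∧ R ⊔ D = ⊤ ∧ Group.IsPerfect R := by
  obtain ⟨R, ⟨hRn, hRD⟩, hmin⟩ := Set.exists_min_image {R : Subgroup H | R.Normal ∧ R ⊔ D = ⊤} (fun R => Nat.card R)
    (Set.toFinite _) ⟨⊤, inferInstance, top_sup_eq _⟩
  refine ⟨R, hRn, hRD, ?_⟩
  rw [Subgroup.isPerfect_iff]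
  have h1 : ⁅R, R⁆ ≤ R := commutator_le_right R R
  have h2 : ⁅R, R⁆ ⊔ D = ⊤ := by
    refine hp _ le_sup_right fun a b => ?_
    obtain ⟨d, hd, c, hc, rfl⟩ := exists_mul (D := D) (C := R) (by rw [sup_comm]; exact hRD) a
    obtain ⟨d', hd', c', hc', rfl⟩ := exists_mul (D := D) (C := R) (by rw [sup_comm]; exact hRD) b
    exact comm_mem le_sup_right hd hd' (mem_sup_left (commutator_mem_commutator hc hc'))
  have h3 := hmin ⁅R, R⁆ ⟨commutator_normal R R, h2⟩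
  exact eq_of_le_of_card_ge h1 h3

theorem not_dvd (hc : OddCyc H) {D : Subgroup H} [hD : D.Normal] (hperf : Perf D) {p : ℕ} (hp : p.Prime) (hp2 : p ≠ 2)
    (hd : p ∣ D.index) : ¬ p ∣ Nat.card D := by
  intro hpD
  have hpf : Fact p.Prime := ⟨hp⟩
  obtain ⟨⟨z, hzD⟩, hz⟩ := exists_prime_orderOf_dvd_card' (G := D) p hpD
  rw [Subgroup.orderOf_mk] at hz
  -- `D C_H(z) = H`
  have hcov : D ⊔ centralizer ({z} : Set H) = ⊤ := by
    refine hperf _ le_sup_left fun a b => ?_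
    have key : ∀ a : H, ∃ d ∈ D, ∃ n, (∀ x ∈ zpowers z, n * x * n⁻¹ ∈ zpowers z) ∧ a = d * n := by
      intro a
      obtain ⟨g, hg, e⟩ := CycConj.prime_power hc hp hp2 (a := 1) (H := D) hzD (hD.conj_mem z hzD a)
        (by rw [hz, pow_one]) (by
          rw [pow_one, ← MulAut.conj_apply, ← hz]
          exact orderOf_injective (MulAut.conj a).toMonoidHom (MulAut.conj a).injective z)
      refine ⟨g⁻¹, inv_mem hg, g * a, ?_, by group⟩
      rintro _ ⟨i, rfl⟩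
      have h1 : g * a * z ^ i * (g * a)⁻¹ = (g * (a * z * a⁻¹) * g⁻¹) ^ i := by
        rw [show g * (a * z * a⁻¹) * g⁻¹ = MulAut.conj (g * a) z by rw [MulAut.conj_apply]; group, ← map_zpow,
          MulAut.conj_apply]
      show g * a * z ^ i * (g * a)⁻¹ ∈ _
      rw [h1, ← e]
      exact zpow_mem (mem_zpowers _) i
    obtain ⟨d, hd, n, hn, rfl⟩ := key a
    obtain ⟨d', hd', n', hn', rfl⟩ := key b
    refine comm_mem le_sup_left hd hd' (mem_sup_right ?_)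
    -- `n`, `n'` act on `⟨z⟩` by powers
    have hpow : ∀ {n : H}, (∀ x ∈ zpowers z, n * x * n⁻¹ ∈ zpowers z) → ∃ i : ℤ, ∀ x ∈ zpowers z,
        n * x * n⁻¹ = x ^ i := by
      intro n hn
      obtain ⟨i, hi⟩ := hn z (mem_zpowers z)
      refine ⟨i, ?_⟩
      rintro _ ⟨j, rfl⟩
      have hi' : z ^ i = n * z * n⁻¹ := hi
      show n * z ^ j * n⁻¹ = (z ^ j) ^ i
      rw [← zpow_mul, mul_comm j i, zpow_mul, hi', ← MulAut.conj_apply, ← MulAut.conj_apply, map_zpow]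
    obtain ⟨i, hi⟩ := hpow hn
    obtain ⟨j, hj⟩ := hpow hn'
    -- `x` with `z = n' n x (n' n)⁻¹`
    have hfin : ∀ {n : H}, (∀ x ∈ zpowers z, n * x * n⁻¹ ∈ zpowers z) → ∀ y ∈ zpowers z, ∃ x ∈ zpowers z,
        n * x * n⁻¹ = y := by
      intro n hn y hy
      have hinj : Function.Injective (fun x : zpowers z => (⟨n * x * n⁻¹, hn x x.2⟩ : zpowers z)) := by
        intro x y h
        have h1 : n * (x : H) * n⁻¹ = n * y * n⁻¹ := congrArg Subtype.val h
        exact Subtype.ext (mul_left_cancel (mul_right_cancel h1))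
      obtain ⟨x, hx⟩ := (Finite.injective_iff_surjective.1 hinj) ⟨y, hy⟩
      exact ⟨x, x.2, congrArg Subtype.val hx⟩
    obtain ⟨y, hy, hy'⟩ := hfin hn' z (mem_zpowers z)
    obtain ⟨x, hx, hx'⟩ := hfin hn y hy
    rw [mem_centralizer_singleton_iff]
    have e1 : n' * (n * x * n⁻¹) * n'⁻¹ = z := by rw [hx', hy']
    have e2 : n * (n' * x * n'⁻¹) * n⁻¹ = z := by
      rw [← e1, hj x hx, hi _ (zpow_mem hx j), hi x hx, hj _ (zpow_mem hx i), ← zpow_mul, ← zpow_mul, mul_comm]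
    have e3 : n * n' * n⁻¹ * n'⁻¹ * z * (n * n' * n⁻¹ * n'⁻¹)⁻¹ = z := by
      calc n * n' * n⁻¹ * n'⁻¹ * z * (n * n' * n⁻¹ * n'⁻¹)⁻¹ =
          n * n' * n⁻¹ * n'⁻¹ * (n' * (n * x * n⁻¹) * n'⁻¹) * (n * n' * n⁻¹ * n'⁻¹)⁻¹ := by rw [e1]
        _ = n * (n' * x * n'⁻¹) * n⁻¹ := by group
        _ = z := e2
    exact mul_inv_eq_iff_eq_mul.1 e3
  -- the group `C = C_H(z)`
  obtain ⟨C, hC⟩ : ∃ C, C = centralizer ({z} : Set H) := ⟨_, rfl⟩
  rw [← hC] at hcov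
  have hzC : z ∈ C := by rw [hC, mem_centralizer_singleton_iff]
  obtain ⟨R, hRn, hRD, hRp⟩ := exists_perfect (perf_of_cover hcov hperf)
  have hcC := CompBasic.oddCyc_subgroup hc C
  have hind : p ∣ (D.subgroupOf C).relIndex R := by
    have h1 : (D.subgroupOf C).relIndex (R ⊔ D.subgroupOf C) = (D.subgroupOf C).relIndex R :=
      relIndex_sup_right R (D.subgroupOf C)
    rw [hRD, relIndex_top_right] at h1
    rw [← h1]
    have h2 : (D.subgroupOf C).index = D.index := by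
      have h3 : D.relIndex (C ⊔ D) = D.relIndex C := relIndex_sup_right C D
      rw [sup_comm, hcov, relIndex_top_right] at h3
      rw [h3]; rfl
    rw [h2]; exact hd
  have hpR : p ∣ Nat.card R := hind.trans (relIndex_dvd_card _ _)
  have hz' : orderOf (⟨z, hzC⟩ : C) = p := by rw [Subgroup.orderOf_mk, hz]
  have hzR := CompBasic.mem_of_orderOf hcC hp hp2 hRn hpR hz'
  refine CompBasic.false_of_center (CompBasic.oddCyc_subgroup hcC R) hRp hp hp2 (z := ⟨⟨z, hzC⟩, hzR⟩) ?_ ?_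
  · rw [mem_center_iff]
    rintro ⟨⟨g, hg⟩, hgR⟩
    apply Subtype.ext
    apply Subtype.ext
    rw [hC, mem_centralizer_singleton_iff] at hg
    exact hg
  · rw [Subgroup.orderOf_mk, hz']

end Cfsg.Agent.OddCyclic.Emp3.NNThree
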