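import Cfsg.Agent.OddCyclic.Emp3.NNCount
import Cfsg.Agent.OddCyclic.Emp3.NNThree
import Cfsg.Agent.OddCyclic.FFPsl

/-!
# (Empty), (III), section 4: `N / O₂(N) = L₃(2)`

`V = N ⊗ F₂²`; `A₁ ∈ 𝒜(S)`, `a ∈ A₁` moves `N / O₂(N)`, `x ∈ N` of order 3 is inverted by `a`.

* `clo` : `C_V(x)` is closed: `x` centralises `v` if it centralises `1 ≠ u ∈ V` and `C_L(u) ≤ C(v)`;
* `fix_le` : `C_V(x) = Z`;
* `false_of` : the contradiction.
-/

set_option autoImplicit false
set_option linter.unusedSectionVars false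

namespace Cfsg.Agent.OddCyclic.Emp3.NNEnd

open Subgroup Cfsg Cfsg.Agent.ZN Cfsg.Agent.ZN.ChoiceBase Cfsg.Agent.ZN.ChoiceSit
open Cfsg.Agent.MinSimple Cfsg.Agent.MinSimple.EmptyTI Cfsg.Agent.MinSimple.EmptySix
open Cfsg.Agent.MinSimple.EmptyE.Closed (LL vv_mul_self vv_le mem_cl jj_le_centralizer_vv)
open Cfsg.Agent.OddCyclic.T1Defs (OddCyc)
open Cfsg.Agent.OddCyclic.T1Module Cfsg.Agent.OddCyclic.FFBasic
open Cfsg.Agent.OddCyclic.EmpFrame
open Cfsg.Agent.OddCyclic.EmpG.Line (conj_mem conj_mem' comm_of_odd)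
open Cfsg.Agent.OddCyclic.EmpG.Pcs
open Cfsg.Agent.OddCyclic.EmpG.Sec1
open Cfsg.Agent.OddCyclic.Emp3.Noo (cq mem_cq normalizer_le_o2)
open Cfsg.Agent.OddCyclic.Emp3.NooG
open Cfsg.Agent.OddCyclic.Emp3.NNBase Cfsg.Agent.OddCyclic.Emp3.NNLine Cfsg.Agent.OddCyclic.Emp3.NNCount
open Cfsg.Agent.GH.C2SevenBase (Ind)

universe u

variable {G : Type u} [Group G] [Finite G]

theorem comm_of_pow {g z : G} {m n : ℕ} (h : Nat.Coprime m n) (h1 : g ^ m * z = z * g ^ m)
    (h2 : g ^ n * z = z * g ^ n) : g * z = z * g := by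
  have h3 : g ^ m ∈ centralizer ({z} : Set G) := mem_centralizer_singleton_iff.2 h1
  have h4 : g ^ n ∈ centralizer ({z} : Set G) := mem_centralizer_singleton_iff.2 h2
  have h5 : zpowers g ≤ centralizer ({z} : Set G) := by
    rw [CycConj.zpowers_eq_of_pow h]
    exact sup_le (zpowers_le.2 h3) (zpowers_le.2 h4)
  exact mem_centralizer_singleton_iff.1 (h5 (mem_zpowers g))

/-- `N` does not centralise ...: some `A₁ ∈ 𝒜(S)` moves `N / O₂(N)` -/
theorem exists_move {S : Sylow 2 G} {I N : Subgroup G} (hN : JP (S : Subgroup G) I N) :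
    ∃ a ∈ jj (S : Subgroup G), a * a = 1 ∧ a ∉ cq N := by
  obtain ⟨j, hj, n, hn, hjn⟩ := hN.moves
  by_contra hcon
  push Not at hcon
  have h1 : jj (S : Subgroup G) ≤ cq N := by
    rw [ChoiceBase.jj_eq]
    refine sSup_le fun A hA a ha => hcon a ?_ ?_
    · exact le_jj hA ha
    · have h2 := hA.1.2
      rw [← pow_two]
      exact h2 a ha
  exact hjn (o2_piece_le hN ((mem_cq.1 (h1 hj)).2 n hn))

section clo

variable {S : Sylow 2 G} {a x : G} (h : ENS S) (ha : a ∈ jj (S : Subgroup G)) (hx : x ^ 3 = 1)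
  (hax : a * x * a⁻¹ = x⁻¹)

include h ha hx hax in
/-- `C_V(x)` is closed -/
theorem clo {u v : G} (hu : u ∈ vv (S : Subgroup G)) (hu1 : u ≠ 1) (hxu : x * u = u * x)
    (hv : v ∈ vv (S : Subgroup G)) (hc : ∀ g ∈ LL (S : Subgroup G), g * u = u * g → g * v = v * g) :
    x * v = v * x := by
  obtain ⟨T, hT, -⟩ := exists_syl (T := (⊥ : Subgroup G)) (X := LL (S : Subgroup G) ⊓ centralizer ({u} : Set G))
    (IsPGroup.of_bot) bot_le
  have h1 : v ∈ vv (S : Subgroup G) ⊓ centralizer (T : Set G) := by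
    refine ⟨hv, mem_centralizer_iff.2 fun g hg => ?_⟩
    have hg' := hT.1 hg
    exact hc g hg'.1 (mem_centralizer_singleton_iff.1 hg'.2)
  have h2 := (mem_cl.1 (h.inf_centralizer_le hu hu1 hT h1)).2
  have h3 : a * v = v * a := h2 a (le_jcl _ _ ha)
  have h4 : x * a * x⁻¹ * v = v * (x * a * x⁻¹) := by
    refine h2 _ (cj_le_jcl (g := x) (mem_centralizer_singleton_iff.2 hxu) ?_)
    rw [mem_cj]
    have e : x⁻¹ * (x * a * x⁻¹) * x = a := by group
    rwa [e]
  have h5 : x * a * x⁻¹ * a⁻¹ ∈ centralizer ({v} : Set G) :=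
    mul_mem (mem_centralizer_singleton_iff.2 h4) (inv_mem (mem_centralizer_singleton_iff.2 h3))
  have e : x * a * x⁻¹ * a⁻¹ = x * x := by
    have e1 : a * x⁻¹ * a⁻¹ = (a * x * a⁻¹)⁻¹ := by group
    calc x * a * x⁻¹ * a⁻¹ = x * (a * x⁻¹ * a⁻¹) := by group
      _ = x * x := by rw [e1, hax, inv_inv]
  rw [e] at h5
  have h6 : x = (x * x) * (x * x) := by
    calc x = x * x ^ 3 := by rw [hx, mul_one]
      _ = (x * x) * (x * x) := by rw [pow_succ, pow_two]; group
  have h7 : x ∈ centralizer ({v} : Set G) := by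
    rw [h6]; exact mul_mem h5 h5
  exact mem_centralizer_singleton_iff.1 h7

end clo

section fix

variable {S : Sylow 2 G} {I N P : Subgroup G} {V₁ V₂ : Subgroup G} {th : G → G} {z : G}

/-- `C_V(x) ≤ Z` -/
theorem fix_le (h : ENS S)
    (t : NZ (S : Subgroup G) (LL (S : Subgroup G)) (vv (S : Subgroup G)) (zc (S : Subgroup G)) V₁ V₂ th z)
    (hidx : (centralizer (vv (S : Subgroup G) : Set G)).relIndex (LL (S : Subgroup G)) = 168)
    (hperf : NNThree.Perf ((centralizer (vv (S : Subgroup G) : Set G)).subgroupOf (LL (S : Subgroup G))))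
    {a x : G} (ha : a ∈ jj (S : Subgroup G)) (hx : orderOf x = 3) (hax : a * x * a⁻¹ = x⁻¹)
    (hxZ : ∀ y ∈ zc (S : Subgroup G), x * y = y * x) {v : G} (hv : v ∈ vv (S : Subgroup G)) (hxv : x * v = v * x) :
    v ∈ zc (S : Subgroup G) := by
  have hx3 : x ^ 3 = 1 := by rw [← hx]; exact pow_orderOf_eq_one x
  -- the centraliser of `V` is a `3'`-group
  have hn : ((centralizer (vv (S : Subgroup G) : Set G)).subgroupOf (LL (S : Subgroup G))).Normal := by
    refine normal_subgroupOf_of_le_normalizer fun g hg => ?_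
    rw [mem_normalizer_iff_cj, cj_centralizer, mem_normalizer_iff_cj.1 hg]
  have h3V : ¬ 3 ∣ Nat.card (centralizer (vv (S : Subgroup G) : Set G)) := by
    have h1 := NNThree.not_dvd (CompBasic.oddCyc_subgroup h.hyp.cyc (LL (S : Subgroup G))) hperf Nat.prime_three
      (by norm_num) (by
        show 3 ∣ (centralizer (vv (S : Subgroup G) : Set G)).relIndex (LL (S : Subgroup G))
        rw [hidx]; norm_num)
    rwa [Nat.card_congr (Subgroup.subgroupOfEquivOfLe h.centralizer_vv_le_LL).toEquiv] at h1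
  by_contra hvZ
  have hv1 : v ≠ 1 := fun h0 => hvZ (h0 ▸ one_mem _)
  obtain ⟨a₀, ha₀, b₀, hb₀, rfl⟩ := t.exists_dec hv
  -- a vector of `V₁ - Z` centralised by `x`
  obtain ⟨b, hb, hbZ, hxb⟩ : ∃ b ∈ V₁, b ∉ zc (S : Subgroup G) ∧ x * b = b * x := by
    have h1 : x * a₀ = a₀ * x := clo h ha hx3 hax hv hv1 hxv (t.le₁ ha₀) fun g hg hc => ((t.comm_dec hg ha₀ hb₀).1 hc).1
    have h2 : x * b₀ = b₀ * x := clo h ha hx3 hax hv hv1 hxv (t.le₁ hb₀) fun g hg hc => ((t.comm_dec hg ha₀ hb₀).1 hc).2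
    rw [t.Z_dec ha₀ hb₀, not_and_or] at hvZ
    rcases hvZ with h3 | h3
    · exact ⟨a₀, ha₀, h3, h1⟩
    · exact ⟨b₀, hb₀, h3, h2⟩
  have hb1 : b ≠ 1 := fun h0 => hbZ (h0 ▸ one_mem _)
  have hxtb : x * th b = th b * x :=
    clo h ha hx3 hax (t.le₁ hb) hb1 hxb (t.th_memV hb) fun g hg hc => (t.comm_th hg hb).2 hc
  have hxz := hxZ z t.zZ
  have hxtz := hxZ (th z) t.thz
  -- the group `F = ⟨z, b, th z, th b⟩`
  obtain ⟨F, hF⟩ : ∃ F : Subgroup G, F = closure {z, b, th z, th b} := ⟨_, rfl⟩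
  have hzF : z ∈ F := by rw [hF]; exact subset_closure (by simp)
  have hbF : b ∈ F := by rw [hF]; exact subset_closure (by simp)
  have htzF : th z ∈ F := by rw [hF]; exact subset_closure (by simp)
  have htbF : th b ∈ F := by rw [hF]; exact subset_closure (by simp)
  have hxF : x ∈ centralizer (F : Set G) := by
    have h1 : F ≤ centralizer ({x} : Set G) := by
      rw [hF, closure_le]
      rintro y hy
      simp only [Set.mem_insert_iff, Set.mem_singleton_iff] at hy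
      rw [SetLike.mem_coe, mem_centralizer_singleton_iff]
      rcases hy with rfl | rfl | rfl | rfl
      · exact hxz.symm
      · exact hxb.symm
      · exact hxtz.symm
      · exact hxtb.symm
    rw [mem_centralizer_iff]
    intro y hy
    exact mem_centralizer_singleton_iff.1 (h1 hy)
  obtain ⟨c, hc, hcZ, hbc⟩ := t.exists_third hb hbZ
  have hi := t.ind hb hc hbZ hcZ hbc
  have hzb : z * b ∈ V₁ := mul_mem t.z₁ hb
  have hbb : b * b = 1 := t.sq b (t.le₁ hb)
  have hzz : z * z = 1 := t.sq z (t.le₁ t.z₁)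
  have hcomm : z * b = b * z := t.comm z (t.le₁ t.z₁) b (t.le₁ hb)
  -- `b, z b, c` are independent
  have hi' : Ind b (z * b) c := by
    obtain ⟨i1, i2, i3, i4, i5, i6, i7⟩ := hi
    refine ⟨i2, ?_, ?_, i4, i6, ?_, ?_⟩
    · intro h0
      apply i3
      calc b = z * (z * b) := by rw [← mul_assoc, hzz, one_mul]
        _ = z := by rw [h0, mul_one]
    · intro h0
      exact i1 (mul_eq_right.1 h0)
    · intro h0
      exact i7 h0
    · intro h0
      apply i5
      rw [h0, hcomm, ← mul_assoc, hbb, one_mul]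
  obtain ⟨g, hg, g1, g2, g3⟩ := t.tri z t.z₁ b hb c hc b hb (z * b) hzb c hc hi hi'
  -- `g` normalises `F`
  have hgF : g ∈ normalizer (F : Set G) := by
    have h1 : cj g F ≤ F := by
      rw [cj_le_iff]
      rw [hF, closure_le, ← hF]
      intro y hy
      simp only [Set.mem_insert_iff, Set.mem_singleton_iff] at hy
      rw [SetLike.mem_coe, mem_cj, inv_inv]
      rcases hy with rfl | rfl | rfl | rfl
      · rw [g1]; exact hbF
      · rw [g2]; exact mul_mem hzF hbF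
      · rw [← t.th_conj g hg z t.z₁, g1]; exact htbF
      · rw [← t.th_conj g hg b hb, g2, t.th_mul z t.z₁ b hb]; exact mul_mem htzF htbF
    rw [mem_normalizer_iff_cj]
    exact eq_of_le_of_card_ge h1 (card_cj g F).ge
  -- `g ^ 3` centralises `z`
  have hg3 : g ^ 3 * z = z * g ^ 3 := by
    apply eq_conj
    have e : g ^ 3 * z * (g ^ 3)⁻¹ = g * (g * (g * z * g⁻¹) * g⁻¹) * g⁻¹ := by
      rw [pow_succ, pow_two]; group
    rw [e, g1, g2]
    have e2 : g * (z * b) * g⁻¹ = (g * z * g⁻¹) * (g * b * g⁻¹) := by group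
    rw [e2, g1, g2, hcomm, ← mul_assoc, hbb, one_mul]
  -- the 3-part
  obtain ⟨k, m, hm3, hkm⟩ := Nat.exists_eq_pow_mul_and_not_dvd (orderOf_pos g).ne' 3 (by norm_num)
  have hm0 : m ≠ 0 := by rintro rfl; exact hm3 (dvd_zero _)
  obtain ⟨y, hy⟩ : ∃ y, y = g ^ m := ⟨_, rfl⟩
  have hyo : orderOf y = 3 ^ k := by
    rw [hy, orderOf_pow_of_dvd hm0 (hkm ▸ dvd_mul_left _ _), hkm]
    exact Nat.mul_div_cancel _ (Nat.pos_of_ne_zero hm0)
  have hyL : y ∈ LL (S : Subgroup G) := hy ▸ pow_mem hg m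
  -- `y ^ 3` centralises `V`
  have hy3 : y ^ 3 = 1 := by
    have h1 : y ^ 3 ∈ centralizer (vv (S : Subgroup G) : Set G) := by
      obtain ⟨q, hq⟩ : ∃ q : LL (S : Subgroup G) ⧸ (centralizer (vv (S : Subgroup G) : Set G)).subgroupOf
        (LL (S : Subgroup G)), q = QuotientGroup.mk ⟨y, hyL⟩ := ⟨_, rfl⟩
      have h2 : orderOf q ∣ 3 ^ k := by
        rw [← hyo, ← Subgroup.orderOf_mk y hyL, hq]
        exact orderOf_map_dvd (QuotientGroup.mk' _) _
      have h3 : orderOf q ∣ 168 := by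
        rw [← hidx]
        exact orderOf_dvd_natCard q
      have h4 : orderOf q ∣ 3 := by
        obtain ⟨j, hj, hj'⟩ := (Nat.dvd_prime_pow Nat.prime_three).1 h2
        have hj2 : j < 2 := by
          by_contra hcon
          have h5 : 3 ^ 2 ∣ 168 := (pow_dvd_pow 3 (by omega : 2 ≤ j)).trans (hj' ▸ h3)
          norm_num at h5
        rw [hj']
        have : j ≤ 1 := by omega
        calc 3 ^ j ∣ 3 ^ 1 := pow_dvd_pow 3 this
          _ = 3 := pow_one 3
      have h5 : q ^ 3 = 1 := orderOf_dvd_iff_pow_eq_one.1 h4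
      rw [hq, ← QuotientGroup.mk_pow, QuotientGroup.eq_one_iff] at h5
      exact h5
    have h2 : orderOf (y ^ 3) ∣ 3 ^ k := (orderOf_pow_dvd 3).trans hyo.dvd
    have h3 : orderOf (y ^ 3) ∣ Nat.card (centralizer (vv (S : Subgroup G) : Set G)) :=
      Subgroup.orderOf_dvd_natCard _ h1
    obtain ⟨j, hj, hj'⟩ := (Nat.dvd_prime_pow Nat.prime_three).1 h2
    rw [← orderOf_eq_one_iff, hj']
    by_contra hcon
    have hj0 : j ≠ 0 := by rintro rfl; exact hcon (pow_zero 3)
    exact h3V ((dvd_pow_self 3 hj0).trans (hj' ▸ h3))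
  -- `y` centralises `z`
  have hyz : y * z = z * y := by
    by_cases hy1 : y = 1
    · rw [hy1, one_mul, mul_one]
    · have ho : orderOf y = 3 := orderOf_eq_prime_iff.2 ⟨hy3, hy1⟩
      have hyF : y ∈ normalizer (F : Set G) := hy ▸ pow_mem hgF m
      have h1 : y ∈ centralizer (F : Set G) := by
        refine UniStruct.mem_of_normal h.hyp.cyc (centralizer_le_normalizer _) ?_ Nat.prime_three (by norm_num) ?_ hyF ho
        · intro s hs
          rw [mem_normalizer_iff_cj, cj_centralizer, mem_normalizer_iff_cj.1 hs]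
        · rw [← hx]; exact Subgroup.orderOf_dvd_natCard _ hxF
      exact (mem_centralizer_iff.1 h1 z hzF).symm
  rw [hy] at hyz
  have hcop : Nat.Coprime m 3 := by
    rw [Nat.coprime_comm, Nat.Prime.coprime_iff_not_dvd Nat.prime_three]
    exact hm3
  have h6 := conj_eq (comm_of_pow hcop hyz hg3)
  rw [g1] at h6
  exact hbZ (h6 ▸ t.zZ)

end fix

section final

variable {S : Sylow 2 G} {I N P : Subgroup G} {V₁ V₂ : Subgroup G} {th : G → G} {z : G}
  (L : Ln S I N (vv (S : Subgroup G)) P)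
  (t : NT (S : Subgroup G) (LL (S : Subgroup G)) (vv (S : Subgroup G)) (zc (S : Subgroup G)) V₁ V₂ th z (bb I P)
    (o2 (bb I P)))
  (hY : yy N (vv (S : Subgroup G)) = zc (S : Subgroup G))

include L t hY in
/-- **section 4** -/
theorem false_of (hFFC : ∀ K : Subgroup G, K ≤ normalizer (I : Set G) → ∀ (D : Subgroup K) [D.Normal],
      RedFFDefs.FFC (K ⧸ D))
    (hidx : (centralizer (vv (S : Subgroup G) : Set G)).relIndex (LL (S : Subgroup G)) = 168)
    (hperf : NNThree.Perf ((centralizer (vv (S : Subgroup G) : Set G)).subgroupOf (LL (S : Subgroup G)))) : False := by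
  obtain ⟨A, a, a', c, st⟩ := exists_star L t hY
  obtain ⟨h168, hs, h8⟩ := seven L t hY st fun D =>
    hFFC (N ⊔ A) (sup_le L.hN.pc.le (st.AS.trans L.hI.S_le)) D
  have h := L.h
  have hA : A ≤ bb I P := st.AS.trans L.SB
  -- the element `x`
  obtain ⟨j, hj, hj2, hjN⟩ := exists_move L.hN
  have hjB : j ∈ bb I P := L.SB ((ChoiceBase.jj_le _) hj)
  have hBN : bb I P ≤ normalizer (N : Set G) := Ln.BM.trans L.hN.pc.norm
  obtain ⟨x, hxN, hx, hjx⟩ := Seven.exists_three hs h168 (hBN hjB) hj2 hjN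
  have hxZ : ∀ y ∈ zc (S : Subgroup G), x * y = y * x := by
    rw [← hY]
    exact fun y hy => L.NY y hy x hxN
  have hfix : ∀ v ∈ vv (S : Subgroup G), x * v = v * x → v ∈ zc (S : Subgroup G) := fun v hv hxv =>
    fix_le h t.toNZ hidx hperf hj hx hjx hxZ hv hxv
  -- the action on `W / Z`
  obtain ⟨W, hWd⟩ : ∃ W, W = jcl (vv (S : Subgroup G)) N := ⟨_, rfl⟩
  have hVW : vv (S : Subgroup G) ≤ W := hWd ▸ le_jcl _ _
  have hYW : yy N (vv (S : Subgroup G)) ≤ W := inf_le_left.trans hVW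
  have hWY : W ≤ normalizer (yy N (vv (S : Subgroup G)) : Set G) := by
    refine normalizer_of_comm fun w hw y hy => ?_
    have hy' := hYW hy
    rw [hWd] at hw hy'
    exact st.Wcomm w hw y hy'
  have hKW : N ⊔ bb I P ≤ normalizer (W : Set G) := by
    rw [hWd]
    refine sup_le (le_normalizer_jcl _ _) (le_normalizer_jcl_of ?_ hBN)
    exact inf_le_left.trans L.PF
  have s : SecA (N ⊔ bb I P) W (yy N (vv (S : Subgroup G))) :=
    { YW := hYW
      WY := hWY
      sq := fun w hw => by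
        rw [hWd] at hw
        rw [st.Wsq w hw]; exact one_mem _
      KW := hKW
      KY := L.HY }
  have hcK := CompBasic.oddCyc_subgroup h.hyp.cyc (N ⊔ bb I P)
  obtain ⟨F, hF⟩ : ∃ F : Subgroup (UQ s), F = ((vv (S : Subgroup G)).subgroupOf W).map (mk s) := ⟨_, rfl⟩
  have hcF : Nat.card F = 16 := by
    rw [hF, ← Subgroup.relIndex_ker, mk_ker, relIndex_subgroupOf hVW]
    have h1 := card_mul_rel (X := yy N (vv (S : Subgroup G))) (V := vv (S : Subgroup G)) inf_le_left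
    rw [card_V t.toNG] at h1
    have h2 : Nat.card (yy N (vv (S : Subgroup G))) = 4 := by
      have := t.cardZ
      rw [← hY] at this
      exact this
    rw [h2] at h1
    omega
  have hxK : x ∈ N ⊔ bb I P := mem_sup_left hxN
  have hjK : j ∈ N ⊔ bb I P := mem_sup_right hjB
  have hxo : Odd (orderOf x) := by rw [hx]; decide
  have hbig : 256 ≤ (fx (act s) (⟨x, hxK⟩ : ↥(N ⊔ bb I P))).index := by
    have h1 := Count.sq_le_index (ρ := act s) (uq_sq s) (a := ⟨j, hjK⟩) (x := ⟨x, hxK⟩) (Subtype.ext hj2)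
      (Subtype.ext (by
        have := pow_orderOf_eq_one x
        rw [hx] at this
        exact this)) (Subtype.ext hjx) (F := F) (by
        rw [hF]
        rintro _ ⟨w, hw, rfl⟩
        rw [act_eq_iff]
        have h2 : j * (w : G) = w * j :=
          (mem_centralizer_iff.1 (jj_le_centralizer_vv hj) w hw).symm
        show j * (w : G) * j⁻¹ * (w : G)⁻¹ ∈ _
        rw [conj_eq h2, mul_inv_cancel]
        exact one_mem _) (by
        rw [hF]
        rintro _ ⟨w, hw, rfl⟩ h2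
        rw [act_eq_iff] at h2
        have h3 : x * (w : G) * x⁻¹ * (w : G)⁻¹ ∈ yy N (vv (S : Subgroup G)) := h2
        rw [NooG.mk_eq_one, hY]
        refine hfix w hw ?_
        have h4 : (w : G) * x * (w : G)⁻¹ * x⁻¹ ∈ yy N (vv (S : Subgroup G)) := by
          have e : (w : G) * x * (w : G)⁻¹ * x⁻¹ = (x * (w : G) * x⁻¹ * (w : G)⁻¹)⁻¹ := by group
          rw [e]; exact inv_mem h3
        exact (comm_of_odd hxo (L.NY _ h4 x hxN) (L.Fsq _ h4.1)).symm)
    rw [hcF] at h1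
    exact h1
  -- an involution of `A`
  obtain ⟨u, huA, hu⟩ := SetLike.not_le_iff_exists.1 st.nA
  obtain ⟨y, hyN, hy, huy⟩ := Seven.exists_three hs h168 (hBN (hA huA)) (st.Asq u huA) hu
  have hyK : y ∈ N ⊔ bb I P := mem_sup_left hyN
  have huK : u ∈ N ⊔ bb I P := mem_sup_right (hA huA)
  have h1 := FFPsl.index_eq_of_orderOf (ρ := act s) hcK Nat.prime_three (by norm_num)
    (y := (⟨x, hxK⟩ : ↥(N ⊔ bb I P))) (z := ⟨y, hyK⟩) (by rw [Subgroup.orderOf_mk, hx]) (by rw [Subgroup.orderOf_mk, hy])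
  have h2 := half' (act s) (a := (⟨u, huK⟩ : ↥(N ⊔ bb I P))) (y := ⟨y, hyK⟩)
    (by rw [Subgroup.orderOf_mk, hy]; decide) (Subtype.ext huy)
  have hAK : A ≤ N ⊔ bb I P := hA.trans le_sup_right
  have h3 : (fx (act s) (⟨u, huK⟩ : ↥(N ⊔ bb I P))).index ≤ 8 := by
    have h4 : CS (act s) (A.subgroupOf (N ⊔ bb I P)) ≤ fx (act s) (⟨u, huK⟩ : ↥(N ⊔ bb I P)) :=
      fun v hv => hv ⟨u, huK⟩ (mem_subgroupOf.2 huA)
    have h5 := Subgroup.index_antitone h4
    rw [index_CS s hAK] at h5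
    have h6 := relIndex_cw_le (W := W) (Y := yy N (vv (S : Subgroup G))) (A := A) hWY
    rw [← hWd] at h8
    exact h5.trans (h6.trans h8)
  rw [← h1] at h2
  have h4 : (fx (act s) (⟨u, huK⟩ : ↥(N ⊔ bb I P))).index ^ 2 ≤ 8 ^ 2 := Nat.pow_le_pow_left h3 2
  omega

end final

end Cfsg.Agent.OddCyclic.Emp3.NNEnd
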