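import Cfsg.Agent.OddCyclic.Emp3.NNBase
import Cfsg.Agent.GH.C2SevenNat
import Cfsg.Agent.OddCyclic.EmpNSBase

/-!
# (Empty), (III), section 4: the line `F = V` for `V = N ⊗ F₂²`

`NT`: with `B ≤ C_L(z)` covering `C_L(z) / C_L(V)` and a normal 2-subgroup `T` of `B`:
* `comm₁`, `commV`: `[V₁, T] ≤ ⟨z⟩`, `[V, T] ≤ Z`;
* `kk`: `k = 2`; `EV`.
-/

set_option autoImplicit false
set_option linter.unusedSectionVars false

namespace Cfsg.Agent.OddCyclic.Emp3.NNLine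

open Subgroup
open Cfsg.Agent.ZN (o2)
open Cfsg.Agent.ZN.ChoiceBase (cj mem_cj cj_mono cj_inv_cj cj_cj_inv cj_cj)
open Cfsg.Agent.OddCyclic.Emp3.NNBase
open Cfsg.Agent.OddCyclic.EmpG.Graph (ci)
open Cfsg.Agent.GH.C2SevenBase (Ind)

variable {G : Type*} [Group G]

/-- with `B` and `T` -/
structure NT (S L V Z V₁ V₂ : Subgroup G) (th : G → G) (z : G) (B T : Subgroup G) : Prop
    extends NZ S L V Z V₁ V₂ th z where
  BL : B ≤ L
  Bz : ∀ b ∈ B, b * z = z * b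
  cov : ∀ g ∈ L, g * z = z * g → ∃ b ∈ B, ∀ v ∈ V, g * v * g⁻¹ = b * v * b⁻¹
  TB : T ≤ B
  two : IsPGroup 2 T
  BT : B ≤ normalizer (T : Set G)

/-- card of a subgroup compatible with the decomposition -/
theorem card_dec [Finite G] {S L V Z V₁ V₂ : Subgroup G} {th : G → G} (h : NG S L V Z V₁ V₂ th) {X : Subgroup G}
    (hX : X ≤ V) (hd : ∀ a ∈ V₁, ∀ b ∈ V₁, a * th b ∈ X ↔ a ∈ X ∧ b ∈ X) :
    Nat.card X = Nat.card (V₁ ⊓ X : Subgroup G) ^ 2 := by
  rw [pow_two, ← Nat.card_prod]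
  refine (Nat.card_congr (Equiv.ofBijective (fun p : (V₁ ⊓ X : Subgroup G) × (V₁ ⊓ X : Subgroup G) =>
    (⟨(p.1 : G) * th p.2, (hd _ p.1.2.1 _ p.2.2.1).2 ⟨p.1.2.2, p.2.2.2⟩⟩ : X)) ⟨?_, ?_⟩)).symm
  · rintro ⟨⟨a, ha⟩, ⟨b, hb⟩⟩ ⟨⟨a', ha'⟩, ⟨b', hb'⟩⟩ e
    obtain ⟨h1, h2⟩ := h.dec_uniq ha.1 hb.1 ha'.1 hb'.1 (congrArg Subtype.val e)
    exact Prod.ext (Subtype.ext h1) (Subtype.ext h2)
  · rintro ⟨v, hv⟩
    obtain ⟨a, ha, b, hb, rfl⟩ := h.exists_dec (hX hv)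
    obtain ⟨h1, h2⟩ := (hd a ha b hb).1 hv
    exact ⟨(⟨a, ha, h1⟩, ⟨b, hb, h2⟩), rfl⟩

theorem card_V [Finite G] {S L V Z V₁ V₂ : Subgroup G} {th : G → G} (h : NG S L V Z V₁ V₂ th) :
    Nat.card V = 64 := by
  rw [card_dec h le_rfl fun a ha b hb => ⟨fun _ => ⟨h.le₁ ha, h.le₁ hb⟩, fun _ => mul_mem (h.le₁ ha) (h.th_memV hb)⟩,
    inf_eq_left.2 h.le₁, h.card₁]
  norm_num

theorem card_mul_rel {X V : Subgroup G} (h : X ≤ V) : Nat.card X * X.relIndex V = Nat.card V := by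
  have h1 := relIndex_mul_relIndex (⊥ : Subgroup G) X V bot_le h
  rwa [relIndex_bot_left, relIndex_bot_left] at h1

theorem relIndex_dec [Finite G] {S L V Z V₁ V₂ : Subgroup G} {th : G → G} (h : NG S L V Z V₁ V₂ th) {X : Subgroup G}
    (hX : X ≤ V) (hd : ∀ a ∈ V₁, ∀ b ∈ V₁, a * th b ∈ X ↔ a ∈ X ∧ b ∈ X) :
    X.relIndex V = X.relIndex V₁ ^ 2 := by
  have h1 := card_mul_rel hX
  have h2 := card_mul_rel (X := V₁ ⊓ X) (V := V₁) inf_le_left
  rw [inf_comm, inf_relIndex_right, inf_comm, h.card₁] at h2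
  rw [card_V h, card_dec h hX hd] at h1
  have h3 : Nat.card (V₁ ⊓ X : Subgroup G) ^ 2 * X.relIndex V =
      Nat.card (V₁ ⊓ X : Subgroup G) ^ 2 * X.relIndex V₁ ^ 2 := by
    rw [h1, ← mul_pow, h2]; norm_num
  exact Nat.eq_of_mul_eq_mul_left (pow_pos Nat.card_pos 2) h3

/-- the centraliser of `E` in `V` -/
theorem relIndex_cent [Finite G] {S L V Z V₁ V₂ : Subgroup G} {th : G → G} (h : NG S L V Z V₁ V₂ th) {E : Subgroup G}
    (hE : E ≤ L) : ci E V = (centralizer (E : Set G)).relIndex V₁ ^ 2 := by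
  have h1 : ci E V = (V ⊓ centralizer (E : Set G)).relIndex V := by
    rw [inf_comm, inf_relIndex_right]
  have h2 : (centralizer (E : Set G)).relIndex V₁ = (V ⊓ centralizer (E : Set G)).relIndex V₁ := by
    rw [← inf_relIndex_right (centralizer (E : Set G)) V₁, ← inf_relIndex_right (V ⊓ centralizer (E : Set G)) V₁]
    congr 1
    rw [inf_comm V, inf_assoc, inf_eq_right.2 h.le₁]
  rw [h1, h2]
  refine relIndex_dec h inf_le_left fun a ha b hb => ?_
  have hab := mul_mem (h.le₁ ha) (h.th_memV hb)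
  simp only [mem_inf, hab, h.le₁ ha, h.le₁ hb, true_and, mem_centralizer_iff]
  constructor
  · intro h3
    exact ⟨fun e he => ((h.comm_dec (hE he) ha hb).1 (h3 e he)).1, fun e he => ((h.comm_dec (hE he) ha hb).1 (h3 e he)).2⟩
  · rintro ⟨h3, h4⟩ e he
    exact (h.comm_dec (hE he) ha hb).2 ⟨h3 e he, h4 e he⟩

/-- `C_L(V) = C_L(V₁)` -/
theorem comm_V_iff {S L V Z V₁ V₂ : Subgroup G} {th : G → G} (h : NG S L V Z V₁ V₂ th) {g : G}
    (hg : g ∈ L) : (∀ v ∈ V, g * v = v * g) ↔ ∀ v ∈ V₁, g * v = v * g := by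
  constructor
  · intro h1 v hv
    exact h1 v (h.le₁ hv)
  · intro h1 v hv
    obtain ⟨a, ha, b, hb, rfl⟩ := h.exists_dec hv
    exact (h.comm_dec hg ha hb).2 ⟨h1 a ha, h1 b hb⟩

namespace NT

variable {S L V Z V₁ V₂ : Subgroup G} {th : G → G} {z : G} {B T : Subgroup G}
  (h : NT S L V Z V₁ V₂ th z B T)
include h

theorem TL : T ≤ L := h.TB.trans h.BL

theorem Tz {t : G} (ht : t ∈ T) : t * z = z * t := h.Bz t (h.TB ht)

theorem mem_inf_iff {v : G} : v ∈ V₁ ⊓ Z ↔ v = 1 ∨ v = z := by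
  constructor
  · rintro ⟨h1, h2⟩
    exact h.only v h1 h2
  · rintro (rfl | rfl)
    · exact one_mem _
    · exact ⟨h.z₁, h.zZ⟩

variable [Finite G]

/-- (f): `[V₁, T] ≤ ⟨z⟩` -/
theorem comm₁ {t v : G} (ht : t ∈ T) (hv : v ∈ V₁) : t * v * t⁻¹ * v⁻¹ ∈ V₁ ⊓ Z := by
  -- some `a`
  obtain ⟨a, ha, haF, hta⟩ : ∃ a ∈ V₁, a ∉ V₁ ⊓ Z ∧ ∀ t ∈ T, t * a * t⁻¹ * a⁻¹ ∈ V₁ ⊓ Z := by
    refine EmpNSBase.exists_fix h.two ?_ ?_ ?_ ?_ inf_le_left ?_
    · exact IsPGroup.of_card (n := 3) (by rw [h.card₁]; norm_num)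
    · exact ZN.Block.le_normalizer_of_forall fun t ht v hv => h.norm₁ t (h.TL ht) v hv
    · refine ZN.Block.le_normalizer_of_forall fun t ht v hv => ?_
      rcases h.mem_inf_iff.1 hv with rfl | rfl
      · simp
      · rwa [conj_eq (h.Tz ht)]
    · refine ZN.Block.le_normalizer_of_forall fun t ht v hv => ?_
      rwa [conj_eq (h.comm t (h.le₁ ht) v (h.le₁ hv.1))]
    · intro h0
      have h1 := h.card_inf
      rw [h0, h.card₁] at h1
      omega
  have haZ : a ∉ Z := fun h1 => haF ⟨ha, h1⟩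
  by_cases hvZ : v ∈ Z
  · have h1 : t * v = v * t := by
      rcases h.only v hv hvZ with rfl | rfl
      · rw [mul_one, one_mul]
      · exact h.Tz ht
    rw [conj_eq h1, mul_inv_cancel]
    exact one_mem _
  · obtain ⟨b, hb, hbZ, hab⟩ := h.exists_third ha haZ
    obtain ⟨w, hw, hwZ, hvw⟩ := h.exists_third hv hvZ
    obtain ⟨g, hg, hgz, h1, -⟩ := h.trans ha hb haZ hbZ hab hv hw hvZ hwZ hvw
    obtain ⟨c, hc, hcv⟩ := h.cov g hg hgz
    rw [hcv a (h.le₁ ha)] at h1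
    have h2 := hta _ (ZN.Block.conj_mem_of_normalizer' h.BT hc ht)
    have e : t * v * t⁻¹ * v⁻¹ =
        c * ((c⁻¹ * t * c) * a * (c⁻¹ * t * c)⁻¹ * a⁻¹) * c⁻¹ := by rw [← h1]; group
    rw [e]
    rcases h.mem_inf_iff.1 h2 with h3 | h3
    · rw [h3, mul_one, mul_inv_cancel]; exact one_mem _
    · rw [h3, conj_eq (h.Bz c hc)]; exact ⟨h.z₁, h.zZ⟩

/-- (f): `[V, T] ≤ Z` -/
theorem commV {t v : G} (ht : t ∈ T) (hv : v ∈ V) : t * v * t⁻¹ * v⁻¹ ∈ Z := by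
  obtain ⟨a, ha, b, hb, rfl⟩ := h.exists_dec hv
  have h1 := h.comm₁ ht ha
  have h2 := h.comm₁ ht hb
  have hta := h.norm₁ t (h.TL ht) a ha
  have htb := h.norm₁ t (h.TL ht) b hb
  rw [h.inv hv, h.conj_dec (h.TL ht) hb]
  rw [h.inv (h.le₁ ha)] at h1
  rw [h.inv (h.le₁ hb)] at h2
  have e : t * a * t⁻¹ * th (t * b * t⁻¹) * (a * th b) = (t * a * t⁻¹ * a) * th (t * b * t⁻¹ * b) := by
    rw [h.th_mul _ htb _ hb]
    calc t * a * t⁻¹ * th (t * b * t⁻¹) * (a * th b) = t * a * t⁻¹ * (th (t * b * t⁻¹) * a) * th b := by group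
      _ = t * a * t⁻¹ * (a * th (t * b * t⁻¹)) * th b := by rw [h.comm _ (h.th_memV htb) a (h.le₁ ha)]
      _ = _ := by group
  rw [e]
  exact (h.Z_dec (mul_mem hta ha) (mul_mem htb hb)).2 ⟨h1.2, h2.2⟩

/-- each element of `V₁` is centralised by a subgroup of index `≤ 2` -/
theorem rel_two {E : Subgroup G} (hE : E ≤ T) {v : G} (hv : v ∈ V₁) : (centralizer {v}).relIndex E ≤ 2 := by
  by_cases hall : E ≤ centralizer {v}
  · rw [relIndex_eq_one.2 hall]; norm_num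
  · obtain ⟨e₀, he₀, hn⟩ := SetLike.not_le_iff_exists.1 hall
    have hnc : ∀ {e}, e ∈ E → e ∉ centralizer ({v} : Set G) → e * v * e⁻¹ = z * v := by
      intro e he hne
      rcases h.mem_inf_iff.1 (h.comm₁ (hE he) hv) with h1 | h1
      · exfalso
        apply hne
        rw [mem_centralizer_singleton_iff]
        exact eq_conj (mul_inv_eq_one.1 h1)
      · exact mul_inv_eq_iff_eq_mul.1 h1
    refine le_of_eq (relIndex_eq_two_iff.2 ⟨e₀, he₀, fun b hb => ?_⟩)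
    by_cases hbc : b ∈ centralizer ({v} : Set G)
    · right
      refine ⟨hbc, fun h1 => hn ?_⟩
      exact (Subgroup.mul_mem_cancel_left _ hbc).1 h1
    · left
      refine ⟨?_, hbc⟩
      rw [mem_centralizer_singleton_iff]
      apply eq_conj
      have h1 : b * e₀ * v * (b * e₀)⁻¹ = b * (e₀ * v * e₀⁻¹) * b⁻¹ := by group
      rw [h1, hnc he₀ hn]
      have h2 : b * (z * v) * b⁻¹ = (b * z * b⁻¹) * (b * v * b⁻¹) := by group
      rw [h2, hnc hb hbc, conj_eq (h.Tz (hE hb)), ← mul_assoc, h.sq z (h.le₁ h.z₁), one_mul]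

/-- `|E : C_E(V)| ≤ |V₁ : C_{V₁}(E)|` -/
theorem pair {E : Subgroup G} (hE : E ≤ T) : ci V E ≤ (centralizer (E : Set G)).relIndex V₁ := by
  have hEL := hE.trans h.TL
  obtain ⟨c, hc⟩ : ∃ c, c = (centralizer (E : Set G)).relIndex V₁ := ⟨_, rfl⟩
  have hc0 : c ≠ 0 := by rw [hc, Subgroup.relIndex]; exact index_ne_zero_of_finite
  have hc8 : c ∣ 8 := by rw [hc, ← h.card₁]; exact relIndex_dvd_card _ _
  rw [← hc]
  have hcase : c = 1 ∨ c = 2 ∨ 4 ≤ c := by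
    have h1 : c ≤ 8 := Nat.le_of_dvd (by norm_num) hc8
    interval_cases c <;> revert hc8 <;> decide
  rcases hcase with h1 | h1 | h1
  · -- `E` centralises `V`
    rw [h1]
    rw [h1] at hc
    have h2 := relIndex_eq_one.1 hc.symm
    refine le_of_eq (relIndex_eq_one.2 fun e he => ?_)
    rw [mem_centralizer_iff]
    intro v hv
    refine ((comm_V_iff h.toNG (hEL he)).2 (fun w hw => ?_) v hv).symm
    exact (mem_centralizer_iff.1 (h2 hw) e he)
  · rw [h1]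
    rw [h1] at hc
    obtain ⟨a, ha, han⟩ := ZN.Block.exists_not_mem_of_relIndex (K := centralizer (E : Set G)) (B := V₁) (by omega)
    have h2 : (centralizer ({a} : Set G)) ⊓ E ≤ centralizer (V : Set G) := by
      rintro e ⟨he1, he⟩
      rw [mem_centralizer_iff]
      intro v hv
      refine ((comm_V_iff h.toNG (hEL he)).2 (fun w hw => ?_) v hv).symm
      by_cases hwc : w ∈ centralizer (E : Set G)
      · exact mem_centralizer_iff.1 hwc e he
      · have h3 := ZN.Block.mul_mem_of_relIndex_two hc.symm hw ha hwc han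
        have h4 := mem_centralizer_iff.1 h3 e he
        have h5 := mem_centralizer_singleton_iff.1 he1
        calc e * w = e * (w * a) * a⁻¹ := by group
          _ = w * a * e * a⁻¹ := by rw [h4]
          _ = w * (a * e) * a⁻¹ := by group
          _ = w * e := by rw [← h5]; group
    calc ci V E ≤ (centralizer ({a} : Set G)).relIndex E := ?_
      _ ≤ 2 := h.rel_two hE ha
    show (centralizer (V : Set G)).relIndex E ≤ _
    rw [← inf_relIndex_right (centralizer ({a} : Set G)) E]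
    exact relIndex_le_of_le_left h2 (by rw [Subgroup.relIndex]; exact index_ne_zero_of_finite)
  · -- in general
    obtain ⟨a, ha, haZ⟩ : ∃ a ∈ V₁, a ∉ Z := by
      by_contra hcon
      push Not at hcon
      have h2 : V₁ ⊓ Z = V₁ := inf_eq_left.2 hcon
      have h3 := h.card_inf
      rw [h2, h.card₁] at h3
      omega
    obtain ⟨b, hb, hbZ, hab⟩ := h.exists_third ha haZ
    have h2 : (centralizer ({a} : Set G)) ⊓ (centralizer ({b} : Set G)) ⊓ E ≤ centralizer (V : Set G) := by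
      rintro e ⟨⟨he1, he2⟩, he⟩
      rw [mem_centralizer_iff]
      intro v hv
      refine ((comm_V_iff h.toNG (hEL he)).2 (fun w hw => ?_) v hv).symm
      exact GH.C2SevenNat.cent_of_tri h.card₁ (fun v hv => h.sq v (h.le₁ hv)) h.z₁ ha hb (h.ind ha hb haZ hbZ hab)
        (h.Tz (hE he)) (mem_centralizer_singleton_iff.1 he1) (mem_centralizer_singleton_iff.1 he2) w hw
    calc ci V E ≤ (centralizer ({a} : Set G) ⊓ centralizer ({b} : Set G)).relIndex E := ?_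
      _ ≤ (centralizer ({a} : Set G)).relIndex E * (centralizer ({b} : Set G)).relIndex E := relIndex_inf_le
      _ ≤ 2 * 2 := Nat.mul_le_mul (h.rel_two hE ha) (h.rel_two hE hb)
      _ ≤ c := h1
    show (centralizer (V : Set G)).relIndex E ≤ _
    rw [← inf_relIndex_right (centralizer ({a} : Set G) ⊓ centralizer ({b} : Set G)) E]
    exact relIndex_le_of_le_left h2 (by rw [Subgroup.relIndex]; exact index_ne_zero_of_finite)

/-- (g): `k = 2` -/
theorem kk {E : Subgroup G} (hE : E ≤ T) : ci V E ^ 2 ≤ ci E V := by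
  rw [relIndex_cent h.toNG (hE.trans h.TL)]
  exact Nat.pow_le_pow_left (h.pair hE) 2

end NT

/-- (EV) from `k = 2` -/
theorem ev_of_two [Finite G] {V T : Subgroup G} (kk : ∀ E : Subgroup G, E ≤ T → (∀ x ∈ E, x * x = 1) → ci V E ^ 2 ≤ ci E V)
    (hsq : ∀ v ∈ V, v * v = 1) {y : G} (h1 : cj y V ≤ T) (h2 : V ≤ cj y T) : ∀ x ∈ V, ∀ w ∈ cj y V, x * w = w * x := by
  have hsq' : ∀ g : G, ∀ x ∈ cj g V, x * x = 1 := by
    intro g x hx
    have h3 := hsq _ (mem_cj.1 hx)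
    have e : x * x = g * ((g⁻¹ * x * g) * (g⁻¹ * x * g)) * g⁻¹ := by group
    rw [e, h3]; group
  have h3 := kk _ h1 (hsq' y)
  have h4 := kk (cj y⁻¹ V) (by
    have := cj_mono y⁻¹ h2
    rwa [cj_inv_cj] at this) (hsq' _)
  have e1 : ci V (cj y⁻¹ V) = ci (cj y V) V := by
    rw [← EmpG.Line.ci_cj y, cj_cj_inv]
  have e2 : ci (cj y⁻¹ V) V = ci V (cj y V) := by
    rw [← EmpG.Line.ci_cj y, cj_cj_inv]
  rw [e1, e2] at h4
  have hp : 0 < ci V (cj y V) := EmpG.Graph.ci_pos _ _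
  have h5 : ci V (cj y V) = 1 := by
    obtain ⟨p, hp'⟩ : ∃ p, p = ci V (cj y V) := ⟨_, rfl⟩
    obtain ⟨q, hq'⟩ : ∃ q, q = ci (cj y V) V := ⟨_, rfl⟩
    rw [← hp', ← hq'] at h3 h4
    rw [← hp'] at hp ⊢
    by_contra hne
    have h6 : 2 ≤ p := by omega
    have h7 : p < p ^ 2 := by nlinarith
    have h8 : q ≤ q ^ 2 := Nat.le_self_pow (by norm_num) q
    omega
  intro x hx w hw
  have h6 := relIndex_eq_one.1 h5 hw
  exact mem_centralizer_iff.1 h6 x hx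

end Cfsg.Agent.OddCyclic.Emp3.NNLine
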