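import Cfsg.Agent.OddCyclic.RedFFDefs
import Cfsg.Agent.OddCyclic.FFOuterPerm

/-!
# (Empty), (III): the outcome of FFC: best offenders are exact, except for `L₃(2)`

* `out_le`: `|A| ≤ |V : C_V(A)|` for a best offender `A` with outcome `OutS3`, `OutLin`, `OutFive`;
* `exists_bo`, `exists_bo_lt`: best offenders inside offenders, over-offenders.
-/

set_option autoImplicit false
set_option linter.unusedSectionVars false

namespace Cfsg.Agent.OddCyclic.Emp3.Out

open Subgroup Equiv
open Cfsg.Agent.OddCyclic.T1Module Cfsg.Agent.OddCyclic.FFBasic Cfsg.Agent.OddCyclic.FFRed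
  Cfsg.Agent.OddCyclic.FFSl2 Cfsg.Agent.OddCyclic.RedFFDefs Cfsg.Agent.OddCyclic.FFOuterPerm

local notation "P5" => Equiv.Perm (Fin 5)

theorem swap_comm_cases : ∀ a b i j : Fin 5, a ≠ b → i ≠ j → swap a b * swap i j = swap i j * swap a b →
    swap a b = swap i j ∨ (a ≠ i ∧ a ≠ j ∧ b ≠ i ∧ b ≠ j) := by decide +kernel

theorem no_six : ∀ a b i j k l : Fin 5, a ≠ b → i ≠ j → k ≠ l → (a ≠ i ∧ a ≠ j ∧ b ≠ i ∧ b ≠ j) →
    (a ≠ k ∧ a ≠ l ∧ b ≠ k ∧ b ≠ l) → (i ≠ k ∧ i ≠ l ∧ j ≠ k ∧ j ≠ l) → False := by decide +kernel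

section five

variable {V : Type*} [CommGroup V] [Finite V] {ρ : P5 →* MulAut V}

theorem two_le_index {C D : Subgroup V} (h : C ≤ D) (hne : C ≠ D) (hV : D.index = 2) : 4 ≤ C.index := by
  have h1 := relIndex_mul_index h
  have h2 : C.relIndex D ≠ 1 := fun h0 => hne (le_antisymm h (relIndex_eq_one.1 h0))
  have h3 : C.relIndex D ≠ 0 := fun h0 => by
    rw [h0, zero_mul] at h1
    exact index_ne_zero_of_finite h1.symm
  rw [← h1, hV]
  omega

theorem fx_swap_ne (hV : ∀ v : V, v * v = 1) (hinj : ∀ g : P5, g ≠ 1 → ∃ v, ρ g v ≠ v)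
    (h2 : ∀ i j : Fin 5, i ≠ j → (fx ρ (swap i j)).index = 2) {i j k l : Fin 5} (hij : i ≠ j) (hkl : k ≠ l)
    (hd : i ≠ k ∧ i ≠ l ∧ j ≠ k ∧ j ≠ l) : fx ρ (swap i j) ≠ fx ρ (swap k l) := by
  intro he
  have h1 := index_top_of_eq hij hkl hd.1 hd.2.1 hd.2.2.1 hd.2.2.2 he
  have h3 : (CS ρ ⊤).index = 2 := by rw [h1]; exact h2 0 1 (by decide)
  obtain ⟨y, hy⟩ : ∃ y : P5, orderOf y = 3 := by
    refine ⟨swap 0 1 * swap 1 2, orderOf_eq_prime ?_ ?_⟩ <;> decide
  have hy1 : y ≠ 1 := fun h0 => by rw [h0, orderOf_one] at hy; omega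
  obtain ⟨d, hd0, hdi, hd3⟩ := prim hV Nat.prime_three (by norm_num) hy (hinj y hy1)
  have h4 : (fx ρ y).index ∣ 2 := by
    rw [← h3]
    exact index_dvd_of_le (CS_le_fx (mem_top y))
  rw [hdi] at h4
  have h5 : 2 ^ d = 2 ^ 1 := by
    rcases (Nat.dvd_prime Nat.prime_two).1 h4 with h5 | h5
    · exfalso
      have : 1 < 2 ^ d := Nat.one_lt_two_pow hd0.ne'
      omega
    · rw [h5, pow_one]
  rw [h5] at hd3
  omega

/-- the subgroup `{1, s, t, s t}` -/
def four {G : Type*} [Group G] (s t : G) (hs : s * s = 1) (ht : t * t = 1) (hst : s * t = t * s) : Subgroup G where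
  carrier := {x | x = 1 ∨ x = s ∨ x = t ∨ x = s * t}
  one_mem' := Or.inl rfl
  mul_mem' := by
    have e1 : s * (s * t) = t := by rw [← mul_assoc, hs, one_mul]
    have e2 : t * (s * t) = s := by rw [hst, ← mul_assoc, ht, one_mul]
    have e3 : s * t * s = t := by rw [hst, mul_assoc, hs, mul_one]
    have e4 : s * t * t = s := by rw [mul_assoc, ht, mul_one]
    have e5 : s * t * (s * t) = 1 := by rw [mul_assoc, e2, hs]
    rintro x y (rfl | rfl | rfl | rfl) (rfl | rfl | rfl | rfl)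
    · exact Or.inl (mul_one _)
    · exact Or.inr (Or.inl (one_mul _))
    · exact Or.inr (Or.inr (Or.inl (one_mul _)))
    · exact Or.inr (Or.inr (Or.inr (one_mul _)))
    · exact Or.inr (Or.inl (mul_one _))
    · exact Or.inl hs
    · exact Or.inr (Or.inr (Or.inr rfl))
    · exact Or.inr (Or.inr (Or.inl e1))
    · exact Or.inr (Or.inr (Or.inl (mul_one _)))
    · exact Or.inr (Or.inr (Or.inr hst.symm))
    · exact Or.inl ht
    · exact Or.inr (Or.inl e2)
    · exact Or.inr (Or.inr (Or.inr (mul_one _)))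
    · exact Or.inr (Or.inr (Or.inl e3))
    · exact Or.inr (Or.inl e4)
    · exact Or.inl e5
  inv_mem' := by
    have e1 : s⁻¹ = s := inv_eq_of_mul_eq_one_left hs
    have e2 : t⁻¹ = t := inv_eq_of_mul_eq_one_left ht
    rintro x (rfl | rfl | rfl | rfl)
    · exact Or.inl inv_one
    · exact Or.inr (Or.inl e1)
    · exact Or.inr (Or.inr (Or.inl e2))
    · exact Or.inr (Or.inr (Or.inr (by rw [mul_inv_rev, e1, e2, hst])))

theorem card_four_le {G : Type*} [Group G] (s t : G) (hs : s * s = 1) (ht : t * t = 1) (hst : s * t = t * s) :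
    Nat.card (four s t hs ht hst) ≤ 4 := by
  classical
  have h1 : ((four s t hs ht hst : Subgroup G) : Set G) = ↑({1, s, t, s * t} : Finset G) := by
    ext x
    simp only [Finset.coe_insert, Finset.coe_singleton, Set.mem_insert_iff, Set.mem_singleton_iff]
    rfl
  have h2 : Nat.card (four s t hs ht hst) = Set.ncard ((four s t hs ht hst : Subgroup G) : Set G) := rfl
  rw [h2, h1, Set.ncard_coe_finset]
  exact Finset.card_le_four

theorem four_fin {G : Type*} [Group G] (s t : G) (hs : s * s = 1) (ht : t * t = 1) (hst : s * t = t * s) :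
    Finite (four s t hs ht hst) := by
  classical
  have h1 : ((four s t hs ht hst : Subgroup G) : Set G) = ↑({1, s, t, s * t} : Finset G) := by
    ext x
    simp only [Finset.coe_insert, Finset.coe_singleton, Set.mem_insert_iff, Set.mem_singleton_iff]
    rfl
  have h2 : ((four s t hs ht hst : Subgroup G) : Set G).Finite := by
    rw [h1]; exact Finset.finite_toSet _
  exact h2

theorem five_card (hV : ∀ v : V, v * v = 1) (hinj : ∀ g : P5, g ≠ 1 → ∃ v, ρ g v ≠ v)
    (h2 : ∀ i j : Fin 5, i ≠ j → (fx ρ (swap i j)).index = 2) {A : Subgroup P5} (hsq : ∀ a ∈ A, a * a = 1)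
    (hA : A ≤ closure {t : P5 | t ∈ A ∧ ∃ i j : Fin 5, i ≠ j ∧ t = swap i j}) : Nat.card A ≤ (CS ρ A).index := by
  by_cases h : ∃ i j : Fin 5, i ≠ j ∧ swap i j ∈ A
  · obtain ⟨i, j, hij, ht⟩ := h
    by_cases h' : ∃ k l : Fin 5, k ≠ l ∧ swap k l ∈ A ∧ swap i j ≠ swap k l
    · obtain ⟨k, l, hkl, hs, hne⟩ := h'
      have hc : swap i j * swap k l = swap k l * swap i j := comm_of_sq hsq ht hs
      rcases swap_comm_cases i j k l hij hkl hc with h1 | h1
      · exact absurd h1 hne
      · have hle : A ≤ four (swap i j) (swap k l) (hsq _ ht) (hsq _ hs) hc := by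
          refine hA.trans ?_
          rw [closure_le]
          rintro t ⟨htA, a, b, hab, rfl⟩
          rcases swap_comm_cases a b i j hab hij (comm_of_sq hsq htA ht) with h3 | h3
          · exact Or.inr (Or.inl h3)
          · rcases swap_comm_cases a b k l hab hkl (comm_of_sq hsq htA hs) with h4 | h4
            · exact Or.inr (Or.inr (Or.inl h4))
            · exact (no_six a b i j k l hab hij hkl h3 h4 h1).elim
        have hfin := four_fin (swap i j) (swap k l) (hsq _ ht) (hsq _ hs) hc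
        have h3 : Nat.card A ≤ 4 := (Nat.card_mono (Set.toFinite _) hle).trans (card_four_le _ _ _ _ _)
        refine h3.trans ?_
        have h4 : CS ρ A ≤ fx ρ (swap i j) ⊓ fx ρ (swap k l) := le_inf (CS_le_fx ht) (CS_le_fx hs)
        have h5 : 4 ≤ (fx ρ (swap i j) ⊓ fx ρ (swap k l)).index := by
          refine two_le_index inf_le_left ?_ (h2 i j hij)
          intro h6
          have h7 : fx ρ (swap i j) ≤ fx ρ (swap k l) := inf_eq_left.1 h6
          refine fx_swap_ne hV hinj h2 hij hkl h1 (eq_of_le_of_card_ge h7 ?_)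
          have h8 := (fx ρ (swap i j)).card_mul_index
          have h9 := (fx ρ (swap k l)).card_mul_index
          rw [h2 i j hij] at h8
          rw [h2 k l hkl] at h9
          omega
        exact h5.trans (index_le_of_le h4)
    · push Not at h'
      have hle : A ≤ zpowers (swap i j) := by
        refine hA.trans ?_
        rw [closure_le]
        rintro t ⟨htA, a, b, hab, rfl⟩
        rw [← h' a b hab htA]
        exact mem_zpowers _
      have h3 : Nat.card (zpowers (swap i j)) = 2 := by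
        rw [Nat.card_zpowers]
        refine orderOf_eq_prime ?_ ?_
        · rw [sq]; exact hsq _ ht
        · intro h0
          exact hij (swap_eq_one_iff.1 h0)
      have h4 : Nat.card A ≤ 2 := by
        rw [← h3]
        exact Nat.card_mono (Set.toFinite _) hle
      refine h4.trans ?_
      rw [← h2 i j hij]
      exact index_le_of_le (CS_le_fx ht)
  · push Not at h
    have hle : A ≤ ⊥ := by
      refine hA.trans ?_
      rw [closure_le]
      rintro t ⟨htA, a, b, hab, rfl⟩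
      exact absurd htA (h a b hab)
    rw [le_bot_iff.1 hle, card_bot]
    exact Nat.one_le_iff_ne_zero.2 index_ne_zero_of_finite

end five

section out

variable {H : Type*} [Group H] [Finite H] {V : Type*} [CommGroup V] [Finite V] {ρ : H →* MulAut V}

theorem five_le (hV : ∀ v : V, v * v = 1) (hρ : Function.Injective ρ) {A : Subgroup H} (hsq : ∀ a ∈ A, a * a = 1)
    (h : OutFive ρ A) : Nat.card A ≤ (CS ρ A).index := by
  obtain ⟨K, hAK, e, -, h2, hA⟩ := h
  obtain ⟨σ, hσ⟩ : ∃ σ : P5 →* MulAut V, σ = ρ.comp (K.subtype.comp e.symm.toMonoidHom) := ⟨_, rfl⟩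
  have hσa : ∀ g : P5, σ g = ρ (e.symm g : H) := fun g => by rw [hσ]; rfl
  have hfx : ∀ g : P5, fx σ g = fx ρ (e.symm g : H) := by
    intro g
    ext v
    rw [mem_fx, mem_fx, hσa]
  obtain ⟨B, hB⟩ : ∃ B : Subgroup P5, B = (A.subgroupOf K).map e.toMonoidHom := ⟨_, rfl⟩
  have hmem : ∀ g : P5, g ∈ B ↔ (e.symm g : H) ∈ A := by
    intro g
    rw [hB, mem_map]
    constructor
    · rintro ⟨x, hx, rfl⟩
      have e1 : e.symm (e.toMonoidHom x) = x := e.symm_apply_apply x
      rw [e1]; exact hx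
    · intro hg
      exact ⟨e.symm g, mem_subgroupOf.2 hg, e.apply_symm_apply g⟩
  have hcard : Nat.card B = Nat.card A := by
    rw [hB, card_map_of_injective e.injective]
    exact Nat.card_congr (Subgroup.subgroupOfEquivOfLe hAK).toEquiv
  have hCS : CS σ B = CS ρ A := by
    ext v
    rw [mem_CS, mem_CS]
    constructor
    · intro h1 a ha
      have h3 := h1 (e ⟨a, hAK ha⟩) ((hmem _).2 (by rw [e.symm_apply_apply]; exact ha))
      rw [hσa, e.symm_apply_apply] at h3
      exact h3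
    · intro h1 g hg
      rw [hσa]
      exact h1 _ ((hmem g).1 hg)
  rw [← hcard, ← hCS]
  refine five_card hV ?_ ?_ ?_ ?_
  · intro g hg
    by_contra hcon
    push Not at hcon
    apply hg
    have h3 : ρ (e.symm g : H) = 1 := by
      ext v
      rw [← hσa, hcon v]; rfl
    have h4 : (e.symm g : H) = 1 := hρ (by rw [h3, map_one])
    have h5 : e.symm g = 1 := Subtype.ext h4
    have h6 := congrArg e h5
    rwa [e.apply_symm_apply, map_one] at h6
  · intro i j hij
    rw [hfx]; exact h2 i j hij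
  · intro b hb
    have h3 := hsq _ ((hmem b).1 hb)
    have h4 : e.symm (b * b) = 1 := by
      apply Subtype.ext
      rw [map_mul]; exact h3
    have h5 := congrArg e h4
    rwa [e.apply_symm_apply, map_one] at h5
  · intro b hb
    have h3 : ∀ x ∈ closure {t : H | t ∈ A ∧ ∃ i j : Fin 5, i ≠ j ∧ t = (e.symm (Equiv.swap i j) : H)},
        ∃ hx : x ∈ K, e ⟨x, hx⟩ ∈ closure {t : P5 | t ∈ B ∧ ∃ i j : Fin 5, i ≠ j ∧ t = swap i j} := by
      intro x hx
      induction hx using closure_induction with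
      | mem t ht =>
        obtain ⟨htA, i, j, hij, rfl⟩ := ht
        refine ⟨(e.symm (swap i j)).2, subset_closure ⟨?_, i, j, hij, ?_⟩⟩
        · rw [hmem]
          have e1 : e ⟨(e.symm (swap i j) : H), (e.symm (swap i j)).2⟩ = swap i j := e.apply_symm_apply _
          rw [e1]; exact htA
        · exact e.apply_symm_apply _
      | one => exact ⟨one_mem _, by
          have e1 : e ⟨(1 : H), one_mem K⟩ = 1 := map_one e
          rw [e1]; exact one_mem _⟩
      | mul x y _ _ hx hy =>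
        obtain ⟨hx, hx'⟩ := hx
        obtain ⟨hy, hy'⟩ := hy
        refine ⟨mul_mem hx hy, ?_⟩
        have e1 : e ⟨x * y, mul_mem hx hy⟩ = e ⟨x, hx⟩ * e ⟨y, hy⟩ := map_mul e ⟨x, hx⟩ ⟨y, hy⟩
        rw [e1]; exact mul_mem hx' hy'
      | inv x _ hx =>
        obtain ⟨hx, hx'⟩ := hx
        refine ⟨inv_mem hx, ?_⟩
        have e1 : e ⟨x⁻¹, inv_mem hx⟩ = (e ⟨x, hx⟩)⁻¹ := map_inv e ⟨x, hx⟩
        rw [e1]; exact inv_mem hx'
    obtain ⟨_, h4⟩ := h3 _ (hA ((hmem b).1 hb))
    have e1 : e ⟨(e.symm b : H), (e.symm b).2⟩ = b := e.apply_symm_apply _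
    rwa [e1] at h4

/-- best offenders are exact, except for `L₃(2)` -/
theorem out_le (hV : ∀ v : V, v * v = 1) (hρ : Function.Injective ρ) {A : Subgroup H} (hA : BO ρ A)
    (h : Out ρ A) : Nat.card A ≤ (CS ρ A).index ∨ OutSeven A := by
  rcases h with h | h | h | h
  · obtain ⟨y, -, -, h2, -, hi, -⟩ := h
    exact Or.inl (by rw [h2, hi])
  · obtain ⟨L, -, -, F, _, _, -, -, -, h1, -, h2, -⟩ := h
    exact Or.inl (by rw [h1, h2])
  · exact Or.inl (five_le hV hρ hA.sq h)
  · exact Or.inr h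

theorem exists_bo {F : Subgroup H} (hsq : ∀ a ∈ F, a * a = 1) (hne : F ≠ ⊥)
    (hoff : (CS ρ F).index ≤ Nat.card F) : ∃ A ≤ F, A ≠ ⊥ ∧ BO ρ A := by
  classical
  obtain ⟨A, hA, hmax⟩ := (Set.toFinite {B : Subgroup H | B ≤ F}).exists_maximalFor
    (fun B : Subgroup H => Nat.card B * Nat.card (CS ρ B)) _ ⟨F, le_refl F⟩
  have hmax' : ∀ B ≤ F, Nat.card B * Nat.card (CS ρ B) ≤ Nat.card A * Nat.card (CS ρ A) := by
    intro B hB
    by_contra hcon
    push Not at hcon
    have h1 : Nat.card B * Nat.card (CS ρ B) ≤ Nat.card A * Nat.card (CS ρ A) := hmax hB hcon.le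
    omega
  by_cases hA1 : A = ⊥
  · refine ⟨F, le_refl F, hne, hsq, fun B hB => (hmax' B hB).trans ?_⟩
    rw [hA1, CS_bot, Subgroup.card_bot, one_mul, Subgroup.card_top, ← (CS ρ F).card_mul_index, mul_comm]
    exact Nat.mul_le_mul_right _ hoff
  · exact ⟨A, hA, hA1, fun a ha => hsq a (hA ha), fun B hB => hmax' B (hB.trans hA)⟩

theorem exists_bo_lt {F : Subgroup H} (hsq : ∀ a ∈ F, a * a = 1)
    (hoff : (CS ρ F).index < Nat.card F) : ∃ A ≤ F, A ≠ ⊥ ∧ BO ρ A ∧ (CS ρ A).index < Nat.card A := by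
  classical
  obtain ⟨A, hA, hmax⟩ := (Set.toFinite {B : Subgroup H | B ≤ F}).exists_maximalFor
    (fun B : Subgroup H => Nat.card B * Nat.card (CS ρ B)) _ ⟨F, le_refl F⟩
  have hmax' : ∀ B ≤ F, Nat.card B * Nat.card (CS ρ B) ≤ Nat.card A * Nat.card (CS ρ A) := by
    intro B hB
    by_contra hcon
    push Not at hcon
    have h1 : Nat.card B * Nat.card (CS ρ B) ≤ Nat.card A * Nat.card (CS ρ A) := hmax hB hcon.le
    omega
  have h1 := hmax' F le_rfl
  have h2 := (CS ρ F).card_mul_index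
  have h3 := (CS ρ A).card_mul_index
  have h4 : 0 < Nat.card (CS ρ F) := Nat.card_pos
  have h5 : 0 < Nat.card (CS ρ A) := Nat.card_pos
  have h6 : Nat.card V < Nat.card A * Nat.card (CS ρ A) := by
    refine lt_of_lt_of_le ?_ h1
    rw [← h2, mul_comm]
    exact Nat.mul_lt_mul_of_pos_right hoff h4
  have h7 : (CS ρ A).index < Nat.card A := by
    rw [← h3, mul_comm] at h6
    exact Nat.lt_of_mul_lt_mul_right h6
  refine ⟨A, hA, ?_, ⟨fun a ha => hsq a (hA ha), fun B hB => hmax' B (hB.trans hA)⟩, h7⟩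
  rintro rfl
  rw [card_bot] at h7
  have h8 : (CS ρ (⊥ : Subgroup H)).index ≠ 0 := index_ne_zero_of_finite
  omega

end out

end Cfsg.Agent.OddCyclic.Emp3.Out
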