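import Mathlib
import Cfsg.Agent.OddCyclic.EmpFF
import Cfsg.Agent.OddCyclic.EmpLine.Defs
import Cfsg.Agent.OddCyclic.RedFiveThreeX
import Cfsg.Agent.OddCyclic.Emp3.Sec

/-!
# (Empty), part III: the output `S₃`-line in the two small cases

* `of_outA` : `|vv S| = 4`, `of_outB` : `|vv S| = 8`, `L/C_L(vv S) = L₃(2)`: there is an `EmpLine.SLine S V z`.
-/

set_option autoImplicit false
set_option linter.unusedSectionVars false
set_option linter.dupNamespace false

namespace Cfsg.Agent.OddCyclic.Emp3.SLine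

open Subgroup Cfsg Cfsg.Agent.ZN Cfsg.Agent.ZN.ChoiceBase Cfsg.Agent.ZN.ChoiceSit
open Cfsg.Agent.MinSimple Cfsg.Agent.MinSimple.EmptyTI Cfsg.Agent.MinSimple.EmptySix
open Cfsg.Agent.MinSimple.EmptyE.Closed (LL CC cl mem_cl cl_eq cl_le vv_comm vv_sq vv_mul_self vv_inv
  isPGroup_vv vv_le_jj vv_le jj_le_centralizer_vv conj_mem_vv cj_vv)
open Cfsg.Agent.OddCyclic.T1Defs Cfsg.Agent.OddCyclic.T1Module Cfsg.Agent.OddCyclic.FFBasic
  Cfsg.Agent.OddCyclic.EmpFF Cfsg.Agent.OddCyclic.EmpFFList Cfsg.Agent.OddCyclic.RedRep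
open Cfsg.Agent.OddCyclic.EmpFrame
open Cfsg.Agent.OddCyclic.Emp3.Sec

universe u

variable {G : Type u} [Group G]

variable [Finite G] {S : Sylow 2 G}

/-- the elements of a four-group -/
theorem four_of {V : Subgroup G} (hc : Nat.card V = 4) (hsq : ∀ v ∈ V, v * v = 1) {z a : G} (hz : z ∈ V) (ha : a ∈ V)
    (hz1 : z ≠ 1) (ha1 : a ≠ 1) (haz : a ≠ z) {v : G} (hv : v ∈ V) : v = 1 ∨ v = z ∨ v = a ∨ v = z * a := by
  have hai : a⁻¹ = a := inv_eq_of_mul_eq_one_left (hsq a ha)
  have hza1 : z * a ≠ 1 := fun e => haz (by rw [← hai]; exact (eq_inv_of_mul_eq_one_left e).symm)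
  have hzaz : z * a ≠ z := fun e => ha1 (by simpa using e)
  have hzaa : z * a ≠ a := fun e => hz1 (by simpa using e)
  have h1 : ({1, z, a, z * a} : Set G) ⊆ (V : Set G) := by
    rintro x (rfl | rfl | rfl | rfl)
    · exact V.one_mem
    · exact hz
    · exact ha
    · exact V.mul_mem hz ha
  have h2 : ({1, z, a, z * a} : Set G).ncard = 4 := by
    rw [Set.ncard_insert_of_notMem, Set.ncard_insert_of_notMem, Set.ncard_pair (Ne.symm hzaa)]
    · rintro (e | e)
      · exact haz e.symm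
      · exact hzaz e.symm
    · rintro (e | e | e)
      · exact hz1 e.symm
      · exact ha1 e.symm
      · exact hza1 e.symm
  have h3 : (V : Set G).ncard = 4 := by rw [← hc]; rfl
  have h4 : ({1, z, a, z * a} : Set G) = V := Set.eq_of_subset_of_ncard_le h1 (by rw [h2, h3]) (Set.toFinite _)
  have : v ∈ ({1, z, a, z * a} : Set G) := by rw [h4]; exact hv
  simpa using this

theorem exists_z (h : ENS S) (hc : Nat.card (zc (S : Subgroup G)) = 2) :
    ∃ z ∈ zc (S : Subgroup G), z ≠ 1 ∧ zc (S : Subgroup G) = zpowers z := by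
  obtain ⟨z, hz, hz1⟩ := (zc (S : Subgroup G)).bot_or_exists_ne_one.resolve_left h.zc_ne_bot
  refine ⟨z, hz, hz1, ?_⟩
  have h1 : zpowers z ≤ zc (S : Subgroup G) := by rwa [zpowers_le]
  have h2 : Nat.card (zpowers z) = 2 := DBlkApi.card_zpowers (vv_sq (zc_le_vv _ hz)) hz1
  exact (eq_of_le_of_card_ge h1 (by rw [h2, hc])).symm

/-- the conjugates of `z`, `|V| = 4` -/
theorem exists_conj_two (h : ENS S) {z : G} (hz : z ∈ zc (S : Subgroup G)) (hz1 : z ≠ 1)
    (hzc : zc (S : Subgroup G) = zpowers z) (hc : Nat.card (vv (S : Subgroup G)) = 4) :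
    ∀ v ∈ vv (S : Subgroup G), v ≠ 1 → ∃ g ∈ LL (S : Subgroup G), g * z * g⁻¹ = v := by
  intro v hv hv1
  by_contra hcon
  push Not at hcon
  have hzV := zc_le_vv _ hz
  have hvz : v ≠ z := fun h0 => hcon 1 (one_mem _) (by rw [h0]; group)
  have hzz : z * z = 1 := vv_mul_self hzV
  have hgz : ∀ g ∈ LL (S : Subgroup G), g * z * g⁻¹ = z ∨ g * z * g⁻¹ = z * v := by
    intro g hg
    have h1 : g * z * g⁻¹ ∈ vv (S : Subgroup G) := (mem_normalizer_iff.1 hg z).1 hzV
    rcases four_of hc (fun v hv => vv_mul_self hv) hzV hv hz1 hv1 hvz h1 with h2 | h2 | h2 | h2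
    · exfalso
      apply hz1
      have e : z = g⁻¹ * (g * z * g⁻¹) * g := by group
      rw [e, h2]; group
    · exact Or.inl h2
    · exact absurd h2 (hcon g hg)
    · exact Or.inr h2
  obtain ⟨g₀, hg₀, hg₀z⟩ : ∃ g ∈ LL (S : Subgroup G), g * z * g⁻¹ = z * v := by
    by_contra hno
    push Not at hno
    have h1 : vv (S : Subgroup G) ≤ zpowers z := by
      refine h.vv_le_of_forall fun g hg => ?_
      rw [hzc]
      rintro _ ⟨_, ⟨k, rfl⟩, rfl⟩
      show g * z ^ k * g⁻¹ ∈ zpowers z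
      rw [← conj_zpow]
      rcases hgz g hg with h2 | h2
      · rw [h2]
        exact zpow_mem (mem_zpowers _) k
      · exact absurd h2 (hno g hg)
    have h2 := card_le_of_le h1
    rw [hc, DBlkApi.card_zpowers (vv_sq hzV) hz1] at h2
    omega
  apply hv1
  apply h.eq_one_of_comm hv
  intro g hg
  have hgL : g ∈ LL (S : Subgroup G) := h.normalizer_le_LL hg
  have h1 := hgz g hgL
  have h2 := hgz (g * g₀) (mul_mem hgL hg₀)
  have e2 : g * g₀ * z * (g * g₀)⁻¹ = g * (z * v) * g⁻¹ := by rw [← hg₀z]; group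
  rw [e2] at h2
  have hvi : z * (z * v) = v := by rw [← mul_assoc, hzz, one_mul]
  have hzv : z * v = v * z := vv_comm hzV hv
  have e3 : g * v * g⁻¹ = (g * z * g⁻¹) * (g * (z * v) * g⁻¹) := by
    conv_lhs => rw [← hvi]
    group
  have e4 : g * v * g⁻¹ = v := by
    rw [e3]
    rcases h1 with h1 | h1 <;> rcases h2 with h2 | h2
    · exfalso
      apply hv1
      have e5 : z * v = z := by
        have e6 : z * v = g⁻¹ * (g * (z * v) * g⁻¹) * g := by group
        have e7 : z = g⁻¹ * (g * z * g⁻¹) * g := by group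
        exact e6.trans ((congrArg (fun t => g⁻¹ * t * g) (h2.trans h1.symm)).trans e7.symm)
      simpa using e5
    · rw [h1, h2, hvi]
    · rw [h1, h2, hzv, mul_assoc, hzz, mul_one]
    · exfalso
      apply hv1
      have e5 : z * v = z := by
        have e6 : z * v = g⁻¹ * (g * (z * v) * g⁻¹) * g := by group
        have e7 : z = g⁻¹ * (g * z * g⁻¹) * g := by group
        exact e6.trans ((congrArg (fun t => g⁻¹ * t * g) (h2.trans h1.symm)).trans e7.symm)
      simpa using e5
  exact mul_inv_eq_iff_eq_mul.1 e4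

variable {H V : Type u} [Group H] [CommGroup V] [Finite H] [Finite V] {r : LL (S : Subgroup G) →* H}
  {ρ : H →* MulAut V} {ι : V →* G}

theorem card_vv (hr : FFRep S r ρ ι) : Nat.card (vv (S : Subgroup G)) = Nat.card V := by
  rw [← hr.rep.range]
  exact (Nat.card_congr (MonoidHom.ofInjective hr.rep.iinj).toEquiv).symm

/-- `CC S = C(z)` -/
theorem CC_eq {z : G} (hzc : zc (S : Subgroup G) = zpowers z) :
    CC (S : Subgroup G) = centralizer ({z} : Set G) := by
  show centralizer (zc (S : Subgroup G) : Set G) = _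
  rw [hzc, zpowers_eq_closure, centralizer_closure]

/-- an element of `L` of order dividing `n` modulo `C(vv S)` -/
theorem pow_mem (hr : FFRep S r ρ ι) {c : G} (hc : c ∈ LL (S : Subgroup G)) {n : ℕ} (hn : r ⟨c, hc⟩ ^ n = 1) :
    c ^ n ∈ centralizer (vv (S : Subgroup G) : Set G) := by
  rw [mem_centralizer_iff]
  intro w hw
  obtain ⟨v, rfl⟩ := hr.rep.exists_v hw
  have h1 := hr.rep.act (⟨c, hc⟩ ^ n) v
  rw [map_pow, hn, map_one, MulAut.one_apply] at h1
  have h2 : ((⟨c, hc⟩ ^ n : LL (S : Subgroup G)) : G) = c ^ n := rfl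
  rw [h2] at h1
  calc ι v * c ^ n = c ^ n * ι v * (c ^ n)⁻¹ * c ^ n := by rw [← h1]
    _ = c ^ n * ι v := by group

/-- case (i) -/
theorem of_outA (h : ENS S) (hr : FFRep S r ρ ι) (ho : OutA ρ) : ∃ V z, EmpLine.SLine S V z := by
  have hc : Nat.card (vv (S : Subgroup G)) = 4 := by rw [card_vv hr, ho.cardV]
  have hc2 : Nat.card (zc (S : Subgroup G)) = 2 := by
    have h1 := card_dvd_of_le (zc_le_vv (S : Subgroup G))
    rw [hc] at h1
    have h2 : Nat.card (zc (S : Subgroup G)) ∈ Nat.divisors 4 := Nat.mem_divisors.2 ⟨h1, by norm_num⟩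
    have h3 : Nat.divisors 4 = {1, 2, 4} := by decide
    rw [h3] at h2
    simp only [Finset.mem_insert, Finset.mem_singleton] at h2
    rcases h2 with h2 | h2 | h2
    · exact absurd (eq_bot_of_card_eq _ h2) h.zc_ne_bot
    · exact h2
    · exact absurd (eq_of_le_of_card_ge (zc_le_vv _) (by rw [hc, h2])) h.zc_ne_vv
  obtain ⟨z, hz, hz1, hzc⟩ := exists_z h hc2
  have hzV := zc_le_vv _ hz
  refine ⟨vv (S : Subgroup G), z, ?_⟩
  exact
    { ens := h
      z_ne := hz1
      zc_eq := hzc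
      card_V := hc
      V_le := le_rfl
      z_mem := hzV
      S_norm := h.le_LL
      trans := exists_conj_two h hz hz1 hzc hc
      two_three := by
        intro c hc _
        refine ⟨1, 1, pow_mem hr hc ?_⟩
        have h1 := pow_card_eq_one' (x := r ⟨c, hc⟩)
        rw [ho.cardH] at h1
        exact h1
      uni := by
        intro U hU hSU
        by_cases hUz : U ≤ zpowers z
        · exact Or.inl hUz
        right
        obtain ⟨u, hu, huz⟩ : ∃ u ∈ U, u ∉ zpowers z := by
          by_contra hno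
          push Not at hno
          exact hUz hno
        obtain ⟨s, hs, hsu⟩ : ∃ s ∈ (S : Subgroup G), s * u * s⁻¹ ≠ u := by
          by_contra hno
          push Not at hno
          apply huz
          rw [← hzc]
          exact h.mem_zc_of_comm (hU hu) fun s hs => mul_inv_eq_iff_eq_mul.1 (hno s hs)
        have h1 : s * u * s⁻¹ ∈ U := (mem_normalizer_iff.1 (hSU hs) u).1 hu
        have hu1 : u ≠ 1 := fun e => huz (e ▸ one_mem _)
        have h2 : s * u * s⁻¹ ≠ 1 := fun e => hu1 (conj_eq_one_iff.1 e)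
        intro v hv
        rcases four_of hc (fun v hv => vv_mul_self hv) (hU hu) (hU h1) hu1 h2 hsu hv with h3 | h3 | h3 | h3
        · rw [h3]; exact one_mem _
        · rw [h3]; exact hu
        · rw [h3]; exact h1
        · rw [h3]; exact mul_mem hu h1
      core := by
        intro U hU h1 h2
        by_contra hU1
        exact h.not_local (X := normalizer (U : Set G)) ⟨U, hU, hU1, rfl⟩ (CC_eq hzc ▸ h2)
          (h.normalizer_le_LL.trans h1) }

end Cfsg.Agent.OddCyclic.Emp3.SLine
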