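import Mathlib
import Cfsg.Agent.OddCyclic.Emp3.SLine

/-!
# (Empty), part III: the output `S₃`-line if `vv S = 2³` and `L/C_L(vv S) = L₃(2)`

`of_outB`.
-/

set_option autoImplicit false
set_option linter.unusedSectionVars false
set_option linter.dupNamespace false

namespace Cfsg.Agent.OddCyclic.Emp3.SLineB

open Subgroup Cfsg Cfsg.Agent.ZN Cfsg.Agent.ZN.ChoiceBase Cfsg.Agent.ZN.ChoiceSit
open Cfsg.Agent.MinSimple Cfsg.Agent.MinSimple.EmptyTI Cfsg.Agent.MinSimple.EmptySix
open Cfsg.Agent.MinSimple.EmptyE.Closed (LL CC cl mem_cl cl_eq cl_le vv_comm vv_sq vv_mul_self vv_inv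
  isPGroup_vv vv_le_jj vv_le jj_le_centralizer_vv conj_mem_vv cj_vv)
open Cfsg.Agent.OddCyclic.T1Defs Cfsg.Agent.OddCyclic.T1Module Cfsg.Agent.OddCyclic.FFBasic
  Cfsg.Agent.OddCyclic.EmpFF Cfsg.Agent.OddCyclic.EmpFFList Cfsg.Agent.OddCyclic.RedRep
open Cfsg.Agent.OddCyclic.EmpFrame
open Cfsg.Agent.OddCyclic.Emp3.Sec Cfsg.Agent.OddCyclic.Emp3.SLine

universe u

/-- an automorphism of order dividing 7 of a group of order 8 fixing `z ≠ 1` is trivial -/
theorem seven {V : Type u} [CommGroup V] [Finite V] (hV : Nat.card V = 8) {φ : MulAut V} (h7 : φ ^ 7 = 1) {z : V}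
    (hz : z ≠ 1) (hφ : φ z = z) : φ = 1 := by
  classical
  have hf : Fact (Nat.Prime 7) := ⟨by norm_num⟩
  have : Fintype V := Fintype.ofFinite V
  let f : Function.End V := fun v => φ v
  have hfp : ∀ n : ℕ, (f ^ n : Function.End V) = fun v => (φ ^ n) v := by
    intro n
    induction n with
    | zero => rfl
    | succ n ih => rw [pow_succ, pow_succ, ih]; rfl
  have h1 : f ^ 7 ^ 1 = 1 := by rw [pow_one, hfp, h7]; rfl
  have h2 := Equiv.Perm.card_fixedPoints_modEq h1
  have h8 : Fintype.card V = 8 := by rw [← Nat.card_eq_fintype_card]; exact hV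
  have h3 : 1 < Fintype.card (Function.fixedPoints f) := by
    rw [Fintype.one_lt_card_iff]
    exact ⟨⟨1, map_one φ⟩, ⟨z, hφ⟩, fun e => hz (congrArg Subtype.val e).symm⟩
  have h4 : Fintype.card (Function.fixedPoints f) ≤ 8 := by
    rw [← h8]
    exact Fintype.card_subtype_le _
  rw [h8] at h2
  have h5 : Fintype.card (Function.fixedPoints f) = 8 := by
    have h6 := h2
    unfold Nat.ModEq at h6
    omega
  have h6 : Function.fixedPoints f = Set.univ := by
    rw [← Set.toFinset_eq_univ, ← Finset.card_eq_iff_eq_univ, Set.toFinset_card, h5, h8]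
  ext v
  have : v ∈ Function.fixedPoints f := by rw [h6]; trivial
  exact this

variable {G : Type u} [Group G] [Finite G] {S : Sylow 2 G}
variable {H V : Type u} [Group H] [CommGroup V] [Finite H] [Finite V] {r : LL (S : Subgroup G) →* H}
  {ρ : H →* MulAut V} {ι : V →* G}

/-- `|T̄| = 8` -/
theorem card_im (hr : FFRep S r ρ ι) (ho : OutB ρ) :
    Nat.card (im (LL (S : Subgroup G)) (S : Subgroup G) r) = 8 := by
  have hf : Fact (Nat.Prime 2) := ⟨Nat.prime_two⟩
  have h1 := (im (LL (S : Subgroup G)) (S : Subgroup G) r).card_mul_index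
  rw [ho.cardH] at h1
  obtain ⟨n, hn⟩ := (IsPGroup.iff_card (p := 2)).1 hr.gen.two
  rw [hn] at h1 ⊢
  have h2 := hr.gen.index
  have h3 : n ≤ 3 := by
    by_contra h4
    push Not at h4
    have h5 : 2 ^ 4 ∣ 168 := (pow_dvd_pow 2 h4).trans ⟨_, h1.symm⟩
    norm_num at h5
  interval_cases n
  · omega
  · omega
  · omega
  · norm_num

/-- every automorphism of `vv S` is induced by `L` -/
theorem exists_g (hr : FFRep S r ρ ι) (ho : OutB ρ) (φ : MulAut (vv (S : Subgroup G))) :
    ∃ g ∈ LL (S : Subgroup G), ∀ v : vv (S : Subgroup G), (φ v : G) = g * v * g⁻¹ := by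
  let e : V ≃* vv (S : Subgroup G) :=
    (MonoidHom.ofInjective hr.rep.iinj).trans (MulEquiv.subgroupCongr hr.rep.range)
  have he : ∀ v, (e v : G) = ι v := fun _ => rfl
  let ψ : MulAut V := (e.trans φ).trans e.symm
  obtain ⟨t, ht⟩ := ho.bij.2 ψ
  obtain ⟨x, rfl⟩ := hr.rep.surj t
  refine ⟨x, x.2, fun w => ?_⟩
  have h1 := hr.rep.act x (e.symm w)
  rw [ht] at h1
  have h2 : ψ (e.symm w) = e.symm (φ w) := by
    change e.symm (φ (e (e.symm w))) = _
    rw [e.apply_symm_apply]
  rw [h2, ← he, ← he, e.apply_symm_apply, e.apply_symm_apply] at h1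
  exact h1

/-- `8 ≤ |X| ^ n` if `S` centralises `X`, `vv S = ⟨X, g₁, …, g_n⟩`, `[g_i, S] ≤ X` -/
theorem eight_le (h : ENS S) (hr : FFRep S r ρ ι) (ho : OutB ρ) {X : Subgroup G} {n : ℕ}
    (hX : ∀ s ∈ (S : Subgroup G), ∀ x ∈ X, s * x = x * s) (g : Fin n → G)
    (hg : vv (S : Subgroup G) ≤ X ⊔ closure (Set.range g))
    (hc : ∀ s ∈ (S : Subgroup G), ∀ i, s * g i * s⁻¹ * (g i)⁻¹ ∈ X) : 8 ≤ Nat.card X ^ n := by
  have h1 : ∀ t : im (LL (S : Subgroup G)) (S : Subgroup G) r,
      ∃ s : G, ∃ hs : s ∈ (S : Subgroup G), r ⟨s, h.le_LL hs⟩ = t := by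
    rintro ⟨_, ⟨y, hy, rfl⟩⟩
    exact ⟨y, hy, rfl⟩
  choose σ hσ hσr using h1
  let f : im (LL (S : Subgroup G)) (S : Subgroup G) r → (Fin n → X) := fun t i =>
    ⟨σ t * g i * (σ t)⁻¹ * (g i)⁻¹, hc _ (hσ t) i⟩
  have hinj : Function.Injective f := by
    intro t t' htt
    let K : Subgroup G := (MulAut.conj (σ t)).toMonoidHom.eqLocus (MulAut.conj (σ t')).toMonoidHom
    have hK : ∀ x, x ∈ K ↔ σ t * x * (σ t)⁻¹ = σ t' * x * (σ t')⁻¹ := fun x => Iff.rfl
    have h2 : X ≤ K := by
      intro x hx
      rw [hK, hX _ (hσ t) x hx, hX _ (hσ t') x hx, mul_inv_cancel_right, mul_inv_cancel_right]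
    have h3 : closure (Set.range g) ≤ K := by
      rw [closure_le]
      rintro _ ⟨i, rfl⟩
      have h4 : σ t * g i * (σ t)⁻¹ * (g i)⁻¹ = σ t' * g i * (σ t')⁻¹ * (g i)⁻¹ :=
        congrArg Subtype.val (congrFun htt i)
      exact (hK _).2 (mul_right_cancel h4)
    have h4 : vv (S : Subgroup G) ≤ K := hg.trans (sup_le h2 h3)
    have h5 : r ⟨σ t, h.le_LL (hσ t)⟩ = r ⟨σ t', h.le_LL (hσ t')⟩ := by
      apply hr.rep.inj
      ext v
      apply hr.rep.iinj
      rw [hr.rep.act, hr.rep.act]
      exact (hK _).1 (h4 (hr.rep.mem v))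
    rw [hσr, hσr] at h5
    exact Subtype.ext h5
  have h2 := Nat.card_le_card_of_injective f hinj
  rw [card_im hr ho, Nat.card_fun, Nat.card_eq_fintype_card (α := Fin n), Fintype.card_fin] at h2
  exact h2

theorem card_mem {V : Subgroup G} {K : Subgroup G} (hV : Nat.card V = 8) (hK : K ≤ V) :
    Nat.card K = 1 ∨ Nat.card K = 2 ∨ Nat.card K = 4 ∨ Nat.card K = 8 := by
  have h1 := card_dvd_of_le hK
  rw [hV] at h1
  have h2 : Nat.card K ∈ Nat.divisors 8 := Nat.mem_divisors.2 ⟨h1, by norm_num⟩
  have h3 : Nat.divisors 8 = {1, 2, 4, 8} := by decide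
  rw [h3] at h2
  simpa using h2

/-- `|Ω₁Z(S)| = 2` -/
theorem card_zc (h : ENS S) (hr : FFRep S r ρ ι) (ho : OutB ρ) : Nat.card (zc (S : Subgroup G)) = 2 := by
  have hc : Nat.card (vv (S : Subgroup G)) = 8 := by rw [card_vv hr, ho.cardV]
  rcases card_mem hc (zc_le_vv (S : Subgroup G)) with h1 | h1 | h1 | h1
  · exact absurd (eq_bot_of_card_eq _ h1) h.zc_ne_bot
  · exact h1
  · exfalso
    obtain ⟨a, ha, haz⟩ : ∃ a ∈ vv (S : Subgroup G), a ∉ zc (S : Subgroup G) := by
      by_contra hno
      push Not at hno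
      exact h.zc_ne_vv (le_antisymm (zc_le_vv _) hno)
    have hSc : ∀ s ∈ (S : Subgroup G), ∀ x ∈ zc (S : Subgroup G), s * x = x * s := fun s hs x hx =>
      (ChoiceBase.mem_zc.1 hx).2.2 s hs
    have hsa : ∀ s ∈ (S : Subgroup G), s * a * s⁻¹ ∈ vv (S : Subgroup G) := fun s hs =>
      (mem_normalizer_iff.1 (h.le_LL hs) a).1 ha
    have hsz : ∀ s ∈ (S : Subgroup G), s * a * s⁻¹ ∉ zc (S : Subgroup G) := by
      intro s hs h2
      apply haz
      have h3 : a = s * a * s⁻¹ := by
        calc a = s⁻¹ * (s * a * s⁻¹) * s := by group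
          _ = s⁻¹ * ((s * a * s⁻¹) * s) := by group
          _ = s⁻¹ * (s * (s * a * s⁻¹)) := by rw [hSc s hs _ h2]
          _ = s * a * s⁻¹ := by group
      rw [h3]
      exact h2
    have hidx : ((zc (S : Subgroup G)).subgroupOf (vv (S : Subgroup G))).index = 2 := by
      have h2 := ((zc (S : Subgroup G)).subgroupOf (vv (S : Subgroup G))).card_mul_index
      rw [Nat.card_congr (subgroupOfEquivOfLe (zc_le_vv (S : Subgroup G))).toEquiv, h1, hc] at h2
      omega
    have h3 := eight_le h hr ho hSc (n := 1) (fun _ => a) ?_ ?_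
    · rw [h1] at h3
      omega
    · have hK : zc (S : Subgroup G) ⊔ closure (Set.range fun _ : Fin 1 => a) ≤ vv (S : Subgroup G) := by
        refine sup_le (zc_le_vv _) ?_
        rw [closure_le]
        rintro _ ⟨i, rfl⟩
        exact ha
      have h4 := card_le_of_le (le_sup_left : zc (S : Subgroup G) ≤
        zc (S : Subgroup G) ⊔ closure (Set.range fun _ : Fin 1 => a))
      rcases card_mem hc hK with h5 | h5 | h5 | h5
      · omega
      · omega
      · exfalso
        have h6 := eq_of_le_of_card_ge (le_sup_left : zc (S : Subgroup G) ≤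
          zc (S : Subgroup G) ⊔ closure (Set.range fun _ : Fin 1 => a)) (by rw [h5, h1])
        apply haz
        rw [h6]
        exact mem_sup_right (subset_closure ⟨0, rfl⟩)
      · exact (eq_of_le_of_card_ge hK (by rw [h5, hc])).ge
    · intro s hs _
      have h4 := (mul_mem_iff_of_index_two hidx (a := ⟨s * a * s⁻¹, hsa s hs⟩) (b := ⟨a⁻¹, inv_mem ha⟩)).2 ⟨
        fun h5 => absurd h5 (hsz s hs), fun h5 => absurd (inv_mem_iff.1 h5) haz⟩
      exact h4
  · exact absurd (eq_of_le_of_card_ge (zc_le_vv _) (by rw [hc, h1])) h.zc_ne_vv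

/-- the line -/
theorem exists_line (h : ENS S) {z : G} (hz : z ∈ zc (S : Subgroup G)) (hc : Nat.card (vv (S : Subgroup G)) = 8)
    (hzc : zc (S : Subgroup G) = zpowers z) :
    ∃ v ∈ vv (S : Subgroup G), v ∉ zpowers z ∧ ∀ s ∈ (S : Subgroup G), s * v * s⁻¹ * v⁻¹ ∈ zpowers z := by
  have hzV := zc_le_vv _ hz
  have hnz : (S : Subgroup G) ≤ normalizer (zpowers z : Set G) := by
    rw [← hzc]
    intro s hs
    refine mem_normalizer_iff.2 fun x => ?_
    constructor
    · intro hx
      have := (ChoiceBase.mem_zc.1 hx).2.2 s hs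
      rw [this, mul_inv_cancel_right]; exact hx
    · intro hx
      have := (ChoiceBase.mem_zc.1 hx).2.2 s hs
      have e : x = s * x * s⁻¹ := by
        calc x = s⁻¹ * ((s * x * s⁻¹) * s) := by group
          _ = s⁻¹ * (s * (s * x * s⁻¹)) := by rw [this]
          _ = s * x * s⁻¹ := by group
      rw [e]; exact hx
  have hs : IsSec (S : Subgroup G) (vv (S : Subgroup G)) (zpowers z) :=
    ⟨h.le_LL, hnz, fun a ha b hb => vv_comm ha hb⟩
  have h1 : (⊤ : Subgroup hs.M) ≠ ⊥ := by
    intro h0
    have h2 : vv (S : Subgroup G) ≤ zpowers z := by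
      intro w hw
      have h3 : hs.pr ⟨w, hw⟩ ∈ (⊤ : Subgroup hs.M) := trivial
      rw [h0, mem_bot, hs.pr_eq_one] at h3
      exact h3
    have h4 := card_le_of_le h2
    rw [hc, Nat.card_zpowers] at h4
    have h5 : orderOf z ≤ 2 := orderOf_le_of_pow_eq_one (by norm_num) (vv_sq hzV)
    omega
  obtain ⟨m, -, hm, hm1⟩ := EmpFFAbs.exists_fixed (ρ := hs.act) (T := ⊤) (W := ⊤)
    (hs.sq fun w hw => by rw [vv_mul_self hw]; exact one_mem _) (S.isPGroup'.to_subgroup _ : IsPGroup 2 (⊤ : Subgroup (S : Subgroup G)))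
    h1 (fun _ _ _ _ => trivial)
  obtain ⟨w, rfl⟩ := hs.pr_surj m
  refine ⟨w, w.2, fun h2 => hm1 (hs.pr_eq_one.2 h2), fun s hs' => ?_⟩
  exact (hs.act_pr_eq ⟨s, hs'⟩ w).1 (hm ⟨s, hs'⟩ trivial)

omit [Finite G] in
/-- the four-group `⟨z, v⟩` -/
theorem exists_four {z v : G} (hz : z * z = 1) (hv : v * v = 1) (hc : z * v = v * z) (hz1 : z ≠ 1) (hvz : v ≠ z)
    (hv1 : v ≠ 1) : ∃ V : Subgroup G, Nat.card V = 4 ∧ ∀ x, x ∈ V ↔ x = 1 ∨ x = z ∨ x = v ∨ x = z * v := by
  have e1 : z * (z * v) = v := by rw [← mul_assoc, hz, one_mul]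
  have e2 : v * (z * v) = z := by rw [hc, ← mul_assoc, hv, one_mul]
  have e3 : z * v * z = v := by rw [hc, mul_assoc, hz, mul_one]
  have e4 : z * v * v = z := by rw [mul_assoc, hv, mul_one]
  have e5 : z * v * (z * v) = 1 := by rw [mul_assoc, e2, hz]
  have hai : v⁻¹ = v := inv_eq_of_mul_eq_one_left hv
  have hzi : z⁻¹ = z := inv_eq_of_mul_eq_one_left hz
  have hzvi : (z * v)⁻¹ = z * v := inv_eq_of_mul_eq_one_left e5
  let V : Subgroup G :=
    { carrier := {x | x = 1 ∨ x = z ∨ x = v ∨ x = z * v}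
      mul_mem' := by
        rintro a b (rfl | rfl | rfl | rfl) (rfl | rfl | rfl | rfl) <;>
          simp only [Set.mem_ofPred_eq, one_mul, mul_one, hz, hv, e1, e2, e3, e4, e5, true_or, or_true, ← hc]
      one_mem' := Or.inl rfl
      inv_mem' := by
        rintro a (rfl | rfl | rfl | rfl) <;>
          simp only [Set.mem_ofPred_eq, inv_one, hai, hzi, hzvi, true_or, or_true] }
  refine ⟨V, ?_, fun x => Iff.rfl⟩
  have h1 : (V : Set G) = {1, z, v, z * v} := by
    ext x
    rfl
  have hza1 : z * v ≠ 1 := fun e => hvz (by rw [← hai]; exact (eq_inv_of_mul_eq_one_left e).symm)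
  have hzaz : z * v ≠ z := fun e => hv1 (by simpa using e)
  have hzaa : z * v ≠ v := fun e => hz1 (by simpa using e)
  have h2 : ({1, z, v, z * v} : Set G).ncard = 4 := by
    rw [Set.ncard_insert_of_notMem, Set.ncard_insert_of_notMem, Set.ncard_pair (Ne.symm hzaa)]
    · rintro (e | e)
      · exact hvz e.symm
      · exact hzaz e.symm
    · rintro (e | e | e)
      · exact hz1 e.symm
      · exact hv1 e.symm
      · exact hza1 e.symm
  rw [← h2, ← h1]
  rfl

/-- case (iii) -/
theorem of_outB (h : ENS S) (hr : FFRep S r ρ ι) (ho : OutB ρ) : ∃ V z, EmpLine.SLine S V z := by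
  have hc : Nat.card (vv (S : Subgroup G)) = 8 := by rw [card_vv hr, ho.cardV]
  have hzc2 := card_zc h hr ho
  obtain ⟨z, hz, hz1, hzc⟩ := exists_z h hzc2
  have hzV := zc_le_vv _ hz
  have hzz : z * z = 1 := vv_mul_self hzV
  have hzp : ∀ x, x ∈ zpowers z ↔ x = 1 ∨ x = z := fun x => DBlkApi.zpowers_eq (vv_sq hzV)
  obtain ⟨v, hv, hvz, hvS⟩ := exists_line h hz hc hzc
  have hv1 : v ≠ 1 := fun e => hvz ((hzp v).2 (Or.inl e))
  have hvz' : v ≠ z := fun e => hvz ((hzp v).2 (Or.inr e))
  have hvv : v * v = 1 := vv_mul_self hv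
  have hzv : z * v = v * z := vv_comm hzV hv
  obtain ⟨L, hL4, hL⟩ := exists_four hzz hvv hzv hz1 hvz' hv1
  have hzL : z ∈ L := (hL z).2 (Or.inr (Or.inl rfl))
  have hvL : v ∈ L := (hL v).2 (Or.inr (Or.inr (Or.inl rfl)))
  have hLV : L ≤ vv (S : Subgroup G) := by
    intro x hx
    rcases (hL x).1 hx with rfl | rfl | rfl | rfl
    · exact one_mem _
    · exact hzV
    · exact hv
    · exact mul_mem hzV hv
  have hzS : ∀ s ∈ (S : Subgroup G), s * z = z * s := (ChoiceBase.mem_zc.1 hz).2.2
  have hSL : (S : Subgroup G) ≤ normalizer (L : Set G) := by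
    have key : ∀ s ∈ (S : Subgroup G), ∀ x ∈ L, s * x * s⁻¹ ∈ L := by
      intro s hs x hx
      have h1 : s * z * s⁻¹ = z := by rw [hzS s hs, mul_inv_cancel_right]
      have h2 : s * v * s⁻¹ ∈ L := by
        have h3 : s * v * s⁻¹ = s * v * s⁻¹ * v⁻¹ * v := by group
        rw [h3]
        rcases (hzp _).1 (hvS s hs) with h4 | h4
        · rw [h4]; exact mul_mem (one_mem _) hvL
        · rw [h4]; exact mul_mem hzL hvL
      rcases (hL x).1 hx with rfl | rfl | rfl | rfl
      · rw [mul_one, mul_inv_cancel]; exact one_mem _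
      · rw [h1]; exact hzL
      · exact h2
      · have h3 : s * (z * v) * s⁻¹ = s * z * s⁻¹ * (s * v * s⁻¹) := by group
        rw [h3, h1]
        exact mul_mem hzL h2
    intro s hs
    refine mem_normalizer_iff.2 fun x => ⟨key s hs x, fun hx => ?_⟩
    have h1 := key s⁻¹ (inv_mem hs) _ hx
    have e : s⁻¹ * (s * x * s⁻¹) * s⁻¹⁻¹ = x := by group
    rwa [e] at h1
  -- transitivity on the line
  have htr : ∀ w ∈ L, w ≠ 1 → ∃ g ∈ LL (S : Subgroup G), g ∈ normalizer (L : Set G) ∧ g * z * g⁻¹ = w := by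
    intro w hw hw1
    by_cases hwz : w = z
    · exact ⟨1, one_mem _, one_mem _, by rw [hwz]; group⟩
    have hwV := hLV hw
    have hzwV : z * w ∈ vv (S : Subgroup G) := mul_mem hzV hwV
    have hzw1 : z * w ≠ 1 := fun e => hwz (by
      have h1 : w⁻¹ = w := inv_eq_of_mul_eq_one_left (vv_mul_self hwV)
      rw [← h1]; exact (eq_inv_of_mul_eq_one_left e).symm)
    obtain ⟨φ, h1, h2⟩ := RedFiveThree.exists_tv (N := vv (S : Subgroup G)) (D := zpowers (z * w))
      (fun x hx => vv_mul_self hx) (zpowers_le.2 hzwV) hzV (by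
        rw [DBlkApi.zpowers_eq (vv_sq hzwV)]
        rintro (e | e)
        · exact hz1 e
        · exact hw1 (by simpa using e.symm)) hwV (mem_zpowers _)
    obtain ⟨g, hg, hgφ⟩ := exists_g hr ho φ
    have h3 : g * z * g⁻¹ = w := by rw [← h1]; exact (hgφ ⟨z, hzV⟩).symm
    have h4 : g * (z * w) * g⁻¹ = z * w := by
      rw [← hgφ ⟨z * w, hzwV⟩]; exact h2 _ (mem_zpowers _)
    have h5 : g * w * g⁻¹ = z := by
      have e1 : g * w * g⁻¹ = (g * z * g⁻¹)⁻¹ * (g * (z * w) * g⁻¹) := by group
      rw [e1, h3, h4, vv_inv hwV, ← mul_assoc, vv_comm hwV hzV, mul_assoc, vv_mul_self hwV, mul_one]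
    refine ⟨g, hg, ?_, h3⟩
    have key : ∀ x ∈ L, g * x * g⁻¹ ∈ L := by
      intro x hx
      rcases four_of hL4 (fun x hx => vv_mul_self (hLV hx)) hzL hw hz1 hw1 hwz hx with h6 | h6 | h6 | h6
      · rw [h6, mul_one, mul_inv_cancel]; exact one_mem _
      · rw [h6, h3]; exact hw
      · rw [h6, h5]; exact hzL
      · rw [h6, h4]; exact mul_mem hzL hw
    exact CompStandard.mem_normalizer_of_forall key
  -- transitivity of `C_L(z)`
  have htz : ∀ w ∈ vv (S : Subgroup G), w ∉ zpowers z → ∃ g ∈ LL (S : Subgroup G), g * z = z * g ∧ g * v * g⁻¹ = w := by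
    intro w hw hwz
    have hvwV : v * w ∈ vv (S : Subgroup G) := mul_mem hv hw
    by_cases hvw : v = w
    · exact ⟨1, one_mem _, by rw [one_mul, mul_one], by rw [← hvw]; group⟩
    have hw1 : w ≠ 1 := fun e => hwz (e ▸ one_mem _)
    obtain ⟨D, hDV, hzD, hvD, hvwD⟩ : ∃ D ≤ vv (S : Subgroup G), z ∈ D ∧ v ∉ D ∧ v * w ∈ D := by
      by_cases hzvw : v * w = z
      · exact ⟨zpowers z, zpowers_le.2 hzV, mem_zpowers _, hvz, by rw [hzvw]; exact mem_zpowers _⟩
      have hvw1 : v * w ≠ 1 := fun e => hvw (by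
        have h1 : w⁻¹ = w := vv_inv hw
        rw [← h1]; exact eq_inv_of_mul_eq_one_left e)
      obtain ⟨D, -, hD⟩ := exists_four hzz (vv_mul_self hvwV) (vv_comm hzV hvwV) hz1 hzvw hvw1
      refine ⟨D, ?_, (hD z).2 (Or.inr (Or.inl rfl)), ?_, (hD _).2 (Or.inr (Or.inr (Or.inl rfl)))⟩
      · intro x hx
        rcases (hD x).1 hx with rfl | rfl | rfl | rfl
        · exact one_mem _
        · exact hzV
        · exact hvwV
        · exact mul_mem hzV hvwV
      · intro hvD
        rcases (hD v).1 hvD with e | e | e | e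
        · exact hv1 e
        · exact hvz' e
        · exact hw1 (by simpa using e.symm)
        · apply hwz
          rw [hzp]
          right
          have e1 : v * (z * w) = v := by
            calc v * (z * w) = v * z * w := by group
              _ = z * v * w := by rw [hzv]
              _ = z * (v * w) := by group
              _ = v := e.symm
          have e2 : z * w = 1 := by simpa using e1
          have e3 : w = z⁻¹ := eq_inv_of_mul_eq_one_right e2
          rw [e3, vv_inv hzV]
    obtain ⟨φ, h1, h2⟩ := RedFiveThree.exists_tv (N := vv (S : Subgroup G)) (D := D)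
      (fun x hx => vv_mul_self hx) hDV hv hvD hw hvwD
    obtain ⟨g, hg, hgφ⟩ := exists_g hr ho φ
    refine ⟨g, hg, ?_, ?_⟩
    · have h3 : g * z * g⁻¹ = z := by rw [← hgφ ⟨z, hzV⟩]; exact h2 z hzD
      exact mul_inv_eq_iff_eq_mul.1 h3
    · rw [← h1]; exact (hgφ ⟨v, hv⟩).symm
  refine ⟨L, z, ?_⟩
  exact
    { ens := h
      z_ne := hz1
      zc_eq := hzc
      card_V := hL4
      V_le := hLV
      z_mem := hzL
      S_norm := hSL
      trans := fun w hw hw1 => by
        obtain ⟨g, -, hg, he⟩ := htr w hw hw1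
        exact ⟨g, hg, he⟩
      two_three := by
        intro c hc' hcz
        refine ⟨3, 1, pow_mem hr hc' ?_⟩
        have h1 := pow_card_eq_one' (x := r ⟨c, hc'⟩)
        rw [ho.cardH] at h1
        obtain ⟨y, hy⟩ := hr.rep.exists_v hzV
        have hy1 : y ≠ 1 := fun e => hz1 (by rw [← hy, e, map_one])
        have h2 : ρ (r ⟨c, hc'⟩) y = y := by
          apply hr.rep.iinj
          rw [hr.rep.act, hy]
          exact mul_inv_eq_iff_eq_mul.2 hcz
        have h3 : ∀ n : ℕ, (ρ (r ⟨c, hc'⟩) ^ n) y = y := by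
          intro n
          induction n with
          | zero => rfl
          | succ n ih => rw [pow_succ, MulAut.mul_apply, h2, ih]
        have h4 := seven (V := V) ho.cardV (φ := ρ (r ⟨c, hc'⟩ ^ (2 ^ 3 * 3 ^ 1))) (by
          rw [← map_pow, ← pow_mul]
          norm_num
          rw [← map_pow, h1, map_one]) hy1 (by rw [map_pow]; exact h3 _)
        exact hr.rep.inj (h4.trans (map_one ρ).symm)
      uni := by
        intro U hU hSU
        by_cases hUz : U ≤ zpowers z
        · exact Or.inl hUz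
        right
        obtain ⟨w, hw, hwz⟩ : ∃ u ∈ U, u ∉ zpowers z := by
          by_contra hno
          push Not at hno
          exact hUz hno
        have hw1 : w ≠ 1 := fun e => hwz (e ▸ one_mem _)
        have hwz' : w ≠ z := fun e => hwz (e ▸ mem_zpowers _)
        have hzU : z ∈ U := by
          have h1 : 2 ∣ Nat.card U := by
            have h2 : orderOf w = 2 := orderOf_eq_prime (vv_sq (hU hw)) hw1
            rw [← h2]
            have h3 := orderOf_dvd_natCard (⟨w, hw⟩ : U)
            rwa [Subgroup.orderOf_mk] at h3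
          obtain ⟨u, hu, hu1, huS⟩ := RedFiveThree.exists_fix S.isPGroup' h1 hSU
          have h2 := h.mem_zc_of_comm (hU hu) huS
          rw [hzc, hzp] at h2
          rcases h2 with h2 | h2
          · exact absurd h2 hu1
          · rwa [h2] at hu
        have hvU : v ∈ U := by
          by_contra hvU
          have hzwU : z * w ∈ U := mul_mem hzU hw
          have hU4 : Nat.card U = 4 := by
            rcases card_mem hc hU with h1 | h1 | h1 | h1
            · exfalso
              rw [eq_bot_of_card_eq _ h1] at hw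
              exact hw1 hw
            · exfalso
              have h2 : zpowers z ≤ U := zpowers_le.2 hzU
              have h3 := eq_of_le_of_card_ge h2 (by rw [h1, DBlkApi.card_zpowers (vv_sq hzV) hz1])
              rw [← h3] at hw
              exact hwz hw
            · exact h1
            · exfalso
              apply hvU
              rw [eq_of_le_of_card_ge hU (by rw [h1, hc])]
              exact hv
          have h1 := eight_le h hr ho (X := zpowers z) (n := 2) (by
            intro s hs x hx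
            rcases (hzp x).1 hx with rfl | rfl
            · rw [mul_one, one_mul]
            · exact hzS s hs) ![v, w] ?_ ?_
          · rw [DBlkApi.card_zpowers (vv_sq hzV) hz1] at h1
            omega
          · have hKw : w ∈ zpowers z ⊔ closure (Set.range ![v, w]) := mem_sup_right (subset_closure ⟨1, rfl⟩)
            have hKv : v ∈ zpowers z ⊔ closure (Set.range ![v, w]) := mem_sup_right (subset_closure ⟨0, rfl⟩)
            have hKz : z ∈ zpowers z ⊔ closure (Set.range ![v, w]) := mem_sup_left (mem_zpowers _)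
            have hUK : U ≤ zpowers z ⊔ closure (Set.range ![v, w]) := by
              intro x hx
              rcases four_of hU4 (fun x hx => vv_mul_self (hU hx)) hzU hw hz1 hw1 hwz' hx with h6 | h6 | h6 | h6
              · rw [h6]; exact one_mem _
              · rw [h6]; exact hKz
              · rw [h6]; exact hKw
              · rw [h6]; exact mul_mem hKz hKw
            have hKV : zpowers z ⊔ closure (Set.range ![v, w]) ≤ vv (S : Subgroup G) := by
              refine sup_le (zpowers_le.2 hzV) ?_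
              rw [closure_le]
              rintro _ ⟨i, rfl⟩
              fin_cases i
              · exact hv
              · exact hU hw
            have h2 := card_le_of_le hUK
            rcases card_mem hc hKV with h5 | h5 | h5 | h5
            · omega
            · omega
            · exfalso
              apply hvU
              rw [eq_of_le_of_card_ge hUK (by rw [h5, hU4])]
              exact hKv
            · exact (eq_of_le_of_card_ge hKV (by rw [h5, hc])).ge
          · intro s hs i
            fin_cases i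
            · exact hvS s hs
            · change s * w * s⁻¹ * w⁻¹ ∈ zpowers z
              have h2 : s * w * s⁻¹ ∈ U := (mem_normalizer_iff.1 (hSU hs) w).1 hw
              rcases four_of hU4 (fun x hx => vv_mul_self (hU hx)) hzU hw hz1 hw1 hwz' h2 with h6 | h6 | h6 | h6
              · exact absurd (conj_eq_one_iff.1 h6) hw1
              · exfalso
                apply hwz'
                calc w = s⁻¹ * (s * w * s⁻¹) * s := by group
                  _ = s⁻¹ * (z * s) := by rw [h6]; group
                  _ = s⁻¹ * (s * z) := by rw [hzS s hs]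
                  _ = z := by group
              · rw [h6, mul_inv_cancel]; exact one_mem _
              · rw [h6, mul_inv_cancel_right]; exact mem_zpowers _
        intro x hx
        rcases (hL x).1 hx with rfl | rfl | rfl | rfl
        · exact one_mem _
        · exact hzU
        · exact hvU
        · exact mul_mem hzU hvU
      core := by
        intro U hU h1 h2
        by_contra hU1
        have hX : LL (S : Subgroup G) ≤ normalizer (U : Set G) := by
          intro g hg
          have hw : g * z * g⁻¹ ∈ vv (S : Subgroup G) := (mem_normalizer_iff.1 hg z).1 hzV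
          -- `g z g⁻¹ = x z x⁻¹` with `x ∈ N(U)`
          obtain ⟨x, hx, hxe⟩ : ∃ x ∈ normalizer (U : Set G), x * z * x⁻¹ = g * z * g⁻¹ := by
            by_cases h3 : g * z * g⁻¹ ∈ zpowers z
            · rcases (hzp _).1 h3 with h4 | h4
              · exact absurd (conj_eq_one_iff.1 h4) hz1
              · exact ⟨1, one_mem _, by rw [h4]; group⟩
            · obtain ⟨a, -, ha, hae⟩ := htr v hvL hv1
              obtain ⟨b, -, hb, hbe⟩ := htz _ hw h3
              refine ⟨b * a, mul_mem (h2 (mem_centralizer_singleton_iff.2 hb)) (h1 ha), ?_⟩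
              rw [← hbe, ← hae]
              group
          have h3 : x⁻¹ * g ∈ centralizer ({z} : Set G) := by
            rw [mem_centralizer_singleton_iff]
            have e : g * z = x * z * x⁻¹ * g := by rw [hxe]; group
            calc x⁻¹ * g * z = x⁻¹ * (g * z) := by group
              _ = z * (x⁻¹ * g) := by rw [e]; group
          have h4 := mul_mem hx (h2 h3)
          rwa [mul_inv_cancel_left] at h4
        exact h.not_local (X := normalizer (U : Set G)) ⟨U, hU, hU1, rfl⟩ (CC_eq hzc ▸ h2)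
          (h.normalizer_le_LL.trans hX) }

end Cfsg.Agent.OddCyclic.Emp3.SLineB
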