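import Mathlib
import Cfsg.Agent.OddCyclic.EmpN.Two
import Cfsg.Agent.OddCyclic.EmpLine.Defs

/-!
# (Empty), part III: the output `S₃`-line if `vv S` is a natural module and `|C_V(N)| = 2`

`of_nf`.
-/

set_option autoImplicit false
set_option linter.unusedSectionVars false
set_option linter.dupNamespace false

namespace Cfsg.Agent.OddCyclic.Emp3.SLineN

open Subgroup Cfsg Cfsg.Agent.ZN Cfsg.Agent.ZN.ChoiceBase Cfsg.Agent.ZN.ChoiceSit
open Cfsg.Agent.MinSimple Cfsg.Agent.MinSimple.EmptyTI Cfsg.Agent.MinSimple.EmptySix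
open Cfsg.Agent.MinSimple.EmptyE.Closed (LL CC cl mem_cl cl_eq cl_le vv_comm vv_sq vv_mul_self vv_inv
  isPGroup_vv vv_le_jj vv_le jj_le_centralizer_vv conj_mem_vv cj_vv)
open Cfsg.Agent.OddCyclic.EmpFrame Cfsg.Agent.OddCyclic.EmpN
open Cfsg.Agent.Omega.NatPair Cfsg.Agent.Lib.SL2Mat

universe u

section field

variable {F : Type} [Field F] [CharP F 2]

/-- `x² + x` -/
def dl (x : F) : F := x ^ 2 + x

theorem dl_add (x y : F) : dl (x + y) = dl x + dl y := by
  have h2 : (2 : F) = 0 := CharTwo.two_eq_zero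
  unfold dl
  linear_combination x * y * h2

theorem dl_iter_add (n : ℕ) (x y : F) : dl^[n] (x + y) = dl^[n] x + dl^[n] y := by
  induction n generalizing x y with
  | zero => rfl
  | succ n ih => rw [Function.iterate_succ_apply, Function.iterate_succ_apply, Function.iterate_succ_apply, dl_add, ih]

theorem dl_iter_pow (n : ℕ) (x : F) : dl^[n] (x ^ 2) = (dl^[n] x) ^ 2 := by
  induction n generalizing x with
  | zero => rfl
  | succ n ih =>
    rw [Function.iterate_succ_apply, Function.iterate_succ_apply, ← ih]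
    congr 1
    have h2 : (2 : F) = 0 := CharTwo.two_eq_zero
    unfold dl
    linear_combination - x ^ 3 * h2

/-- `δ^(2^k) = φ^(2^k) + 1` -/
theorem dl_two_pow (k : ℕ) (x : F) : dl^[2 ^ k] x = x ^ 2 ^ 2 ^ k + x := by
  induction k generalizing x with
  | zero => rfl
  | succ k ih =>
    have e : dl^[2 ^ (k + 1)] x = dl^[2 ^ k] (dl^[2 ^ k] x) := by
      rw [← Function.iterate_add_apply]
      congr 1
      rw [pow_succ]
      ring_nf
    rw [e, ih, ih, add_pow_char_pow, ← pow_mul, ← pow_add]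
    have e2 : 2 ^ k + 2 ^ k = 2 ^ (k + 1) := by rw [pow_succ]; ring
    have h2 : (2 : F) = 0 := CharTwo.two_eq_zero
    rw [e2]
    linear_combination x ^ 2 ^ 2 ^ k * h2

/-- an additive subgroup closed under squaring, not inside `F₂`, contains `F₄` -/
theorem four_le {k : ℕ} (hk : ∀ x : F, x ^ 2 ^ 2 ^ k = x) {C : Set F} (hadd : ∀ x ∈ C, ∀ y ∈ C, x + y ∈ C)
    (hsq : ∀ x ∈ C, x ^ 2 ∈ C) {c : F} (hc : c ∈ C) (hc2 : c ^ 2 ≠ c) {x : F} (hx : x ^ 4 = x) : x ∈ C := by
  classical
  have h2 : (2 : F) = 0 := CharTwo.two_eq_zero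
  have hC : ∀ y ∈ C, dl y ∈ C := fun y hy => hadd _ (hsq y hy) _ hy
  have hCn : ∀ n : ℕ, dl^[n] c ∈ C := by
    intro n
    induction n with
    | zero => exact hc
    | succ n ih => rw [Function.iterate_succ_apply']; exact hC _ ih
  have hex : ∃ n : ℕ, dl^[n] c = 0 := ⟨2 ^ k, by rw [dl_two_pow, hk, CharTwo.add_self_eq_zero]⟩
  obtain ⟨n, hn, hmin⟩ : ∃ n : ℕ, dl^[n] c = 0 ∧ ∀ m < n, dl^[m] c ≠ 0 :=
    ⟨Nat.find hex, Nat.find_spec hex, fun m hm => Nat.find_min hex hm⟩
  have hn2 : 2 ≤ n := by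
    by_contra hlt
    push Not at hlt
    have h3 : dl^[1] c = 0 := by
      interval_cases n
      · have h4 : c = 0 := hn
        rw [h4]
        change (0 : F) ^ 2 + 0 = 0
        ring
      · exact hn
    apply hc2
    have h4 : c ^ 2 + c = 0 := h3
    linear_combination h4 - c * h2
  obtain ⟨m, rfl⟩ : ∃ m, n = m + 2 := ⟨n - 2, by omega⟩
  obtain ⟨w, hw⟩ : ∃ w, w = dl^[m] c := ⟨_, rfl⟩
  have hwC : w ∈ C := hw ▸ hCn m
  have hdw : dl w ≠ 0 := by
    have := hmin (m + 1) (by omega)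
    rwa [Function.iterate_succ_apply', ← hw] at this
  have hddw : dl (dl w) = 0 := by
    have := hn
    rwa [Function.iterate_succ_apply', Function.iterate_succ_apply', ← hw] at this
  have hone : ∀ y : F, dl y = 0 → y = 0 ∨ y = 1 := by
    intro y hy
    have h3 : y * (y - 1) = 0 := by
      have h4 : y ^ 2 + y = 0 := hy
      linear_combination h4 - y * h2
    rcases mul_eq_zero.1 h3 with h4 | h4
    · exact Or.inl h4
    · exact Or.inr (sub_eq_zero.1 h4)
  have hw1 : dl w = 1 := (hone _ hddw).resolve_left hdw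
  have h1C : (1 : F) ∈ C := hw1 ▸ hC w hwC
  have h0C : (0 : F) ∈ C := by
    have := hadd 1 h1C 1 h1C
    rwa [CharTwo.add_self_eq_zero] at this
  have hddx : dl (dl x) = 0 := by
    have : dl (dl x) = x ^ 4 + x := by
      unfold dl
      linear_combination (x ^ 3 + x ^ 2) * h2
    rw [this, hx, CharTwo.add_self_eq_zero]
  rcases hone _ hddx with h3 | h3
  · rcases hone _ h3 with rfl | rfl
    · exact h0C
    · exact h1C
  · have h4 : dl (x + w) = 0 := by rw [dl_add, h3, hw1, CharTwo.add_self_eq_zero]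
    have h5 : x = (x + w) + w := by rw [add_assoc, CharTwo.add_self_eq_zero, add_zero]
    rw [h5]
    rcases hone _ h4 with h6 | h6
    · rw [h6]; exact hadd _ h0C _ hwC
    · rw [h6]; exact hadd _ h1C _ hwC

end field

variable {G : Type u} [Group G] [Finite G] {S : Sylow 2 G} {I N : Subgroup G} {F : Type} [Field F] [Fintype F]
  [CharP F 2] {M : NatMod F (vv (S : Subgroup G))}

/-- the elements of `F₂` -/
theorem two_cases {K : Subfield F} (hq : Nat.card K = 2) {c : F} (hc : c ∈ K) : c = 0 ∨ c = 1 := by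
  have h1 := (mem_K_iff K (by rw [hq, pow_one] : Nat.card K = 2 ^ 1)).1 hc
  rw [pow_one] at h1
  have h2 : c * (c - 1) = 0 := by linear_combination h1
  rcases mul_eq_zero.1 h2 with h3 | h3
  · exact Or.inl h3
  · exact Or.inr (sub_eq_zero.1 h3)

theorem zc_eq (h : NF S I N M) (hq : Nat.card h.KK = 2) : zc (S : Subgroup G) = zpowers (M.e (e₁ F)) := by
  refine le_antisymm ?_ (zpowers_le.2 h.e1)
  intro x hx
  obtain ⟨c, hc, rfl⟩ := h.mem_yv_iff.1 (h.zc_le_yv hx)
  rcases two_cases hq hc with rfl | rfl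
  · rw [zero_smul, M.e_zero]; exact one_mem _
  · rw [one_smul]; exact mem_zpowers _

theorem s3 (h : NF S I N M) (hq : Nat.card h.KK = 2) : S3L S I N (se M (fx F (2 * 1))) (M.e (e₁ F)) := by
  have hKne : h.KK ≠ ⊤ := by
    intro e
    have h1 := h.four
    rw [e] at hq
    have h2 : Nat.card (⊤ : Subfield F) = Nat.card F := Nat.card_congr Subfield.topEquiv.toEquiv
    rw [h2, Nat.card_eq_fintype_card] at hq
    omega
  obtain ⟨b, hb⟩ := card_eq h.isPGroup_sigS (K := h.KK) fun c hc => h.mem_KK_of_fix hc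
  have hq' : Nat.card h.KK = 2 ^ 1 := by rw [hq, pow_one]
  have hc4 : Nat.card (fx F (2 * 1)) = 2 ^ (2 * 1) := card_KT h.KK hq' hb hKne
  refine s3l_of h.ens h.ti h.jp (se_le M _) (by rw [card_se, hc4]; norm_num) ?_ (zc_eq h hq) ?_ ?_ ?_
  · exact ⟨1, (fx F _).one_mem, by rw [one_smul]⟩
  · intro s hs
    exact NF.mem_norm_se (h.S_le_LL hs) (fx F _).one_mem (by rw [h.act_e1 hs, one_smul])
  · intro hle
    -- an element of `F₄ - F₂`
    obtain ⟨w, hw, hwK⟩ : ∃ w ∈ fx F (2 * 1), w ∉ h.KK := by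
      by_contra hcon
      push Not at hcon
      have h1 : Nat.card (fx F (2 * 1)) ≤ Nat.card h.KK :=
        Set.ncard_le_ncard (s := (fx F (2 * 1) : Set F)) (t := (h.KK : Set F)) hcon (Set.toFinite _)
      rw [hc4, hq] at h1
      norm_num at h1
    have hw0 : w ≠ 0 := fun h0 => hwK (h0 ▸ h.KK.zero_mem)
    obtain ⟨t, ht, hti⟩ := h.exists_ind (dg w hw0)
    have htL := h.nj_le ht
    have hte : M.act t (e₁ F) = w • e₁ F := by
      rw [M.act_of_ind hti, ap_dg]
      apply ext2 <;> simp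
    have h1 := hle (NF.mem_norm_se htL hw hte)
    obtain ⟨c, hc, h2⟩ := (h.mem_M_iff htL).1 h1
    rw [hte] at h2
    exact hwK (smul_e₁_inj h2 ▸ hc)
  · intro g hg hgz
    have hgL := h.ens.normalizer_self_le hg
    refine NF.mem_norm_se hgL (fx F _).one_mem ?_
    rw [one_smul]
    exact (fix_iff M hgL _).1 hgz

/-- the `S`-invariant subgroups of `vv S` -/
theorem uni (h : NF S I N M) (hq : Nat.card h.KK = 2) {U : Subgroup G} (hU : U ≤ vv (S : Subgroup G))
    (hSU : (S : Subgroup G) ≤ normalizer (U : Set G)) :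
    U ≤ zpowers (M.e (e₁ F)) ∨ se M (fx F (2 * 1)) ≤ U := by
  by_cases hUz : U ≤ zpowers (M.e (e₁ F))
  · exact Or.inl hUz
  right
  obtain ⟨b, hb⟩ := card_eq h.isPGroup_sigS (K := h.KK) fun c hc => h.mem_KK_of_fix hc
  rw [hq] at hb
  by_cases hx : ∃ x : Fin 2 → F, M.e x ∈ U ∧ x 1 ≠ 0
  · -- `F e₁ ≤ U`
    obtain ⟨x, hxU, hx1⟩ := hx
    rintro _ ⟨c, -, rfl⟩
    obtain ⟨s, hs, hu⟩ := h.exists_up (c * (x 1)⁻¹)
    have h1 : s * M.e x * s⁻¹ ∈ U := (mem_normalizer_iff.1 (hSU hs) _).1 hxU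
    have h2 := mul_mem h1 (inv_mem hxU)
    rw [hu x, ← M.e_neg, ← M.e_add] at h2
    have h3 : ap (up (c * (x 1)⁻¹)) x + -x = c • e₁ F := by
      rw [ap_up]
      apply ext2
      · simp [mul_assoc, inv_mul_cancel₀ hx1]
      · simp
    rwa [h3] at h2
  · push Not at hx
    have hUe : ∀ g ∈ U, ∃ c : F, M.e (c • e₁ F) = g := by
      intro g hg
      obtain ⟨x, rfl⟩ := (M.mem_iff g).1 (hU hg)
      refine ⟨x 0, ?_⟩
      congr 1
      apply ext2
      · simp
      · simp [hx x hg]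
    obtain ⟨u, hu, huz⟩ : ∃ u ∈ U, u ∉ zpowers (M.e (e₁ F)) := by
      by_contra hno
      push Not at hno
      exact hUz hno
    obtain ⟨c, rfl⟩ := hUe u hu
    have hc2 : c ^ 2 ≠ c := by
      intro h1
      apply huz
      have h2 : c * (c - 1) = 0 := by linear_combination h1
      rcases mul_eq_zero.1 h2 with h3 | h3
      · rw [h3, zero_smul, M.e_zero]; exact one_mem _
      · rw [sub_eq_zero.1 h3, one_smul]; exact mem_zpowers _
    -- the Frobenius is induced by `S`
    obtain ⟨s, hs, hsF⟩ : ∃ s ∈ (S : Subgroup G), ∀ d : F, NF.sig M s d = d ^ 2 := by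
      have h1 : (frobeniusEquiv F 2 : RingAut F) ∈ NF.sigS M := by
        refine mem_of_fix (NF.sigS M) _ fun d hd => ?_
        have h2 : d ∈ h.KK := h.mem_KK_of_fix hd
        rcases two_cases hq h2 with rfl | rfl
        · exact map_zero _
        · exact map_one _
      obtain ⟨s, hs, h2⟩ := h.mem_sigS.1 h1
      exact ⟨s, hs, fun d => by rw [h2]; rfl⟩
    rintro _ ⟨x, hx4, rfl⟩
    refine four_le (k := b) (fun y => ?_) (C := {d | M.e (d • e₁ F) ∈ U}) ?_ ?_ hu hc2 ?_
    · have := FiniteField.pow_card y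
      rwa [← Nat.card_eq_fintype_card, hb] at this
    · intro y hy z hz
      change M.e ((y + z) • e₁ F) ∈ U
      rw [add_smul, M.e_add]
      exact mul_mem hy hz
    · intro y hy
      change M.e (y ^ 2 • e₁ F) ∈ U
      have h1 : s * M.e (y • e₁ F) * s⁻¹ ∈ U := (mem_normalizer_iff.1 (hSU hs) _).1 hy
      rwa [← M.e_act (h.S_le_LL hs), h.act_S hs, hsF] at h1
    · exact hx4

/-- the natural case with `|C_V(N)| = 2` -/
theorem of_nf (h : NF S I N M) (hq : Nat.card h.KK = 2) :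
    EmpLine.SLine S (se M (fx F (2 * 1))) (M.e (e₁ F)) := by
  have h3 := s3 h hq
  exact
    { ens := h.ens
      z_ne := h3.z_ne
      zc_eq := h3.zc_eq
      card_V := h3.card_V
      V_le := h3.le_vv
      z_mem := h3.z_mem
      S_norm := h3.T_norm
      trans := h3.trans
      two_three := by
        intro c hc hcz
        obtain ⟨a, m, hm, ham⟩ := Nat.exists_eq_two_pow_mul_odd (orderOf_pos c).ne'
        refine ⟨a, 0, ?_⟩
        rw [pow_zero, mul_one]
        have h1 : (c ^ 2 ^ a) ^ m = 1 := by rw [← pow_mul, ← ham, pow_orderOf_eq_one]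
        have h2 : Odd (orderOf (c ^ 2 ^ a)) := Odd.of_dvd_nat hm (orderOf_dvd_of_pow_eq_one h1)
        refine h.t_one (pow_mem hc _) h2 ?_
        intro y hy
        have hcy : Commute c y := by
          rw [h3.zc_eq] at hy
          obtain ⟨k, rfl⟩ := mem_zpowers_iff.1 hy
          exact (show Commute c (M.e (e₁ F)) from hcz).zpow_right k
        exact hcy.pow_left _
      uni := fun U hU hSU => uni h hq hU hSU
      core := h3.core }

end Cfsg.Agent.OddCyclic.Emp3.SLineN
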