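import Mathlib
import Cfsg.Agent.OddCyclic.EmpG.Line
import Cfsg.Agent.OddCyclic.EmpBDefs
import Cfsg.Agent.ZN.Facts

/-!
# (Empty), part III: the output of the graph lemma as `Bx0`
-/

set_option autoImplicit false
set_option linter.unusedSectionVars false

namespace Cfsg.Agent.OddCyclic.Emp3.Star

open Subgroup Cfsg Cfsg.Agent.ZN
open Cfsg.Agent.OddCyclic.EmpG.Graph (ci)
open Cfsg.Agent.OddCyclic.EmpG.Line (LF)
open Cfsg.Agent.OddCyclic.EmpB (Bx Bx0)
open Cfsg.Agent.OddCyclic.Emp3.Noo (cq)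
open Cfsg.Agent.ZN.ChoiceBase (cj)
open Cfsg.Agent.MinSimple.EmptyTI (jcl cj_le_jcl le_jcl jcl_le le_normalizer_jcl)
open Cfsg.Agent.OddCyclic.EmpG.Line (jcl_sup)

universe u

variable {G : Type u} [Group G] [Finite G]

theorem exists_bx0 {F P B N Y : Subgroup G} (L : LF F P B N Y) (S : Sylow 2 G) (hSB : (S : Subgroup G) ≤ B)
    {k f : ℕ} (hk : 1 ≤ k)
    (kk : ∀ E : Subgroup G, E ≤ o2 B → (∀ x ∈ E, x * x = 1) → ci F E ^ k ≤ ci E F)
    (hh : ∀ w ∈ o2 B, (∃ x ∈ F, w * x ≠ x * w) → 2 ^ f ≤ (centralizer {w}).relIndex F)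
    (EV : ∀ y : G, cj y F ≤ o2 B → F ≤ cj y (o2 B) →
      (∀ x ∈ F, ∀ z ∈ cj y F, x * z * x⁻¹ * z⁻¹ ∈ Y ∧ x * z * x⁻¹ * z⁻¹ ∈ cj y Y) → ∀ x ∈ F, ∀ z ∈ cj y F, x * z = z * x)
    (hf : 2 ≤ f) (card_F : Nat.card F = 2 ^ f * Nat.card Y)
    (fix : ∀ v ∈ F, (∀ n ∈ N, n * v * n⁻¹ * v⁻¹ ∈ Y) → v ∈ Y)
    (N' : ∀ t ∈ N, Odd (orderOf t) → t ∈ normalizer (jj (S : Subgroup G) : Set G) → t ∈ centralizer (F : Set G)) :
    ∃ (A : Subgroup G) (a a' c : ℕ), Bx0 S N (jcl F N) Y F A f a a' c := by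
  have hF : F ≠ ⊥ := by
    rintro rfl
    rw [card_bot] at card_F
    have h1 : 2 ^ 2 ≤ 2 ^ f := Nat.pow_le_pow_right (by norm_num) hf
    have h2 : 0 < Nat.card Y := Nat.card_pos
    nlinarith
  obtain ⟨hcomm, hsq, hWQ, y, h1, h2, h3, a, a', c, e1, e2, e3, e4, e5, e6⟩ :=
    EmpG.Line.main L hF kk hh EV
  have hSP : (S : Subgroup G) ≤ P := hSB.trans L.BP
  have hoS : o2 P ≤ S := by
    refine o2_le_of_sylow hSP S.isPGroup' fun hd => ?_
    have : Fact (Nat.Prime 2) := ⟨Nat.prime_two⟩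
    refine S.not_dvd_index (hd.trans ?_)
    rw [← relIndex_mul_index hSP]
    exact dvd_mul_right _ _
  have hBF : B ≤ normalizer (F : Set G) := L.BP.trans L.PF
  have hHW : N ⊔ B ≤ normalizer (jcl F N : Set G) := by
    have h4 := le_normalizer_jcl F (N ⊔ B)
    rwa [jcl_sup L.BN hBF] at h4
  have hAB : cj y (jcl F N) ≤ o2 B := h1.trans L.o2P_le
  refine ⟨cj y (jcl F N), a, a', c, ?_⟩
  exact
    { nN := hSB.trans L.BN
      W_sq := hsq
      W_comm := hcomm
      YF := L.YF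
      FW := le_jcl _ _
      NW := le_sup_left.trans hHW
      SW := (hSB.trans le_sup_right).trans hHW
      SY := hSB.trans L.BY
      NY := fun n hn => by
        rw [mem_centralizer_iff]
        exact fun y' hy' => (L.NY y' hy' n hn).symm
      FQ := fun t ht v hv => by
        have h4 : t ∈ o2 B := L.o2H_le (Block.le_o2 (Block.o2_isPGroup N) ((Block.o2_le N).trans le_sup_left)
          (sup_le (Block.le_normalizer_o2 N) (L.BN.trans (normalizer_le_normalizer_o2 N))) ht)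
        exact L.lp3 v hv t h4
      gen := fun X hX hN => jcl_le fun g hg => by
        rw [← ChoiceBase.mem_normalizer_iff_cj.1 (hN hg)]
        exact ChoiceBase.cj_mono g hX
      card_F := card_F
      fix := fix
      N' := N'
      A_le := h1.trans hoS
      A_cent := fun t ht => by
        rw [mem_centralizer_iff]
        exact fun x hx => (L.cF t (h1 ht) x hx).symm
      A_sq := by
        intro x hx
        rw [ChoiceBase.mem_cj] at hx
        have h4 := hsq _ hx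
        have e : x * x = y * (y⁻¹ * x * y * (y⁻¹ * x * y)) * y⁻¹ := by group
        rw [e, h4]; group
      f_two := hf
      a_pos := e2
      a'_le := e3
      c_le := by nlinarith
      c_imp := e5
      card_A := by
        have h4 : cj y (jcl F N) ⊓ cq N = cj y (jcl F N) ⊓ o2 (N ⊔ B) := by
          ext t
          rw [mem_inf, mem_inf]
          refine ⟨fun h => ⟨h.1, L.cN t (hAB h.1) h.2.2⟩, fun h => ⟨h.1, ?_, L.QN t h.2⟩⟩
          exact normalizer_le_normalizer_o2 N (L.BN (Block.o2_le B (hAB h.1)))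
        rw [h4, inf_relIndex_left]
        exact e1
      idx := by
        rw [inf_relIndex_left]
        exact e6 }

end Cfsg.Agent.OddCyclic.Emp3.Star
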